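import Groth.Agent.H11Tilde.TwistTensor
import Groth.Prelude.Def_PicGrp

/-!
# Powers of `O(1)`
-/

set_option autoImplicit false

noncomputable section

universe u

open CategoryTheory AlgebraicGeometry TopologicalSpace Opposite

namespace Groth.Agent.H11Tilde

section general

variable {X : Scheme.{u}}

/-- The map `O_X → M` given by a global section. -/
def homOfGlobal (M : X.Modules) (g : Γ(M, ⊤)) : Coh.structureModule X ⟶ M :=
  M.unitHomEquiv.symm (PresheafOfModules.sectionsMk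
    (fun W => M.presheaf.map (homOfLE (le_top : W.unop ≤ ⊤)).op g)
    (fun W W' i => by
      change M.presheaf.map i (M.presheaf.map _ g) = _
      refine (ConcreteCategory.comp_apply _ _ g).symm.trans ?_
      rw [← Functor.map_comp]
      rfl))

theorem homOfGlobal_app (M : X.Modules) (g : Γ(M, ⊤)) (V : X.Opens) (r : Γ(Coh.structureModule X, V)) :
    (homOfGlobal M g).app V r = (show Γ(X, V) from r) • M.presheaf.map (homOfLE (le_top : V ≤ ⊤)).op g := rfl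

theorem isIso_homOfGlobal (M : X.Modules) (g : Γ(M, ⊤))
    (h : ∀ V : X.Opens, Function.Bijective fun r : Γ(X, V) => r • M.presheaf.map (homOfLE (le_top : V ≤ ⊤)).op g) :
    IsIso (homOfGlobal M g) := by
  rw [Scheme.Modules.Hom.isIso_iff_isIso_app]
  intro V
  rw [ConcreteCategory.isIso_iff_bijective]
  exact h V

end general

open GrMod

variable {A σA : Type u} [CommRing A] [SetLike σA A] [AddSubgroupClass σA A] (𝒜 : ℕ → σA) [GradedRing 𝒜]

theorem nonempty_twist_zero_iso : Nonempty (GrTwist.twist 𝒜 0 ≅ Coh.structureModule (Proj 𝒜)) := by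
  let g : Γ(tilde 𝒜 𝒜 0, (⊤ : (Proj 𝒜).Opens)) :=
    secOf 𝒜 𝒜 (SetLike.one_mem_graded 𝒜) (SetLike.one_mem_graded 𝒜) (fun x _ => one_notMem 𝒜 x) (by simp)
  have := isIso_homOfGlobal (tilde 𝒜 𝒜 0) g fun V =>
    bijective_smul_gen 𝒜 (SetLike.one_mem_graded 𝒜) (SetLike.one_mem_graded 𝒜) (fun x _ => one_notMem 𝒜 x)
      (fun x _ => one_notMem 𝒜 x) (by simp) _ fun y => rfl
  exact ⟨(asIso (homOfGlobal (tilde 𝒜 𝒜 0) g)).symm⟩

theorem nonempty_twist_tensor_iso (h1 : ∀ x : Proj 𝒜, ∃ f ∈ 𝒜 1, f ∉ x.asHomogeneousIdeal)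
    (p q r : ℤ) (h : r = p + q) :
    Nonempty (CohB1.tensorMod (GrTwist.twist 𝒜 p) (GrTwist.twist 𝒜 q) ≅ GrTwist.twist 𝒜 r) :=
  nonempty_tilde_tensor_iso 𝒜 𝒜 h (cover_of_degOne 𝒜 h1 q)

theorem nonempty_twist_iso_tensorPow (h1 : ∀ x : Proj 𝒜, ∃ f ∈ 𝒜 1, f ∉ x.asHomogeneousIdeal)
    (n : ℕ) : Nonempty (GrTwist.twist 𝒜 (n : ℤ) ≅ CohB1.tensorPow (GrTwist.twist 𝒜 1) n) := by
  induction n with
  | zero => exact nonempty_twist_zero_iso 𝒜
  | succ n ih =>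
    obtain ⟨e⟩ := ih
    obtain ⟨e'⟩ := nonempty_twist_tensor_iso 𝒜 h1 n 1 ((n + 1 : ℕ) : ℤ) (by push_cast; ring)
    exact ⟨e'.symm ≪≫ PicGrp.tensorModIso e (Iso.refl _)⟩

theorem isInvertible_twist (h1 : ∀ x : Proj 𝒜, ∃ f ∈ 𝒜 1, f ∉ x.asHomogeneousIdeal) (n : ℤ) :
    PicF.IsInvertible (GrTwist.twist 𝒜 n) := by
  intro x
  obtain ⟨f, hf, hfx⟩ := h1 x
  refine ⟨Proj.basicOpen 𝒜 f, hfx, ?_⟩
  simpa using nonempty_twist_restrict_iso 𝒜 hf n (Proj.basicOpen 𝒜 f) le_rfl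

end Groth.Agent.H11Tilde
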