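import Groth.Prelude.Def_Coh
import Mathlib.Algebra.Homology.ShortComplex.Exact
import Mathlib.Algebra.Homology.ShortComplex.Abelian
import Groth.Agent.H10Coh.FinType2

/-!
# Local tests for epimorphisms and exactness of modules on a scheme
-/

set_option autoImplicit false

universe u

open CategoryTheory CategoryTheory.Limits AlgebraicGeometry Opposite TopologicalSpace

namespace Groth.Agent.H11Tilde

variable {X : Scheme.{u}}

theorem eq_of_locally {F : X.Modules} {W : X.Opens} (s t : Γ(F, W))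
    (h : ∀ x ∈ W, ∃ (V : X.Opens) (hV : V ≤ W), x ∈ V ∧
      F.presheaf.map (homOfLE hV).op s = F.presheaf.map (homOfLE hV).op t) : s = t := by
  choose V hV hxV he using h
  refine TopCat.Sheaf.eq_of_locally_eq' ⟨F.presheaf, F.isSheaf⟩ (fun x : W => V x.1 x.2) W
    (fun x => homOfLE (hV x.1 x.2)) ?_ _ _ fun x => he x.1 x.2
  intro x hx
  exact Opens.mem_iSup.2 ⟨⟨x, hx⟩, hxV x hx⟩

theorem app_map_apply {F G : X.Modules} (φ : F ⟶ G) {W V : X.Opens} (hV : V ≤ W) (s : Γ(F, W)) :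
    φ.app V (F.presheaf.map (homOfLE hV).op s) = G.presheaf.map (homOfLE hV).op (φ.app W s) :=
  congr($(φ.mapPresheaf.naturality (homOfLE hV).op) s)

theorem epi_of_locally_surjective {F G : X.Modules} (φ : F ⟶ G)
    (h : ∀ (W : X.Opens) (t : Γ(G, W)), ∀ x ∈ W, ∃ (V : X.Opens) (hV : V ≤ W), x ∈ V ∧
      ∃ s : Γ(F, V), φ.app V s = G.presheaf.map (homOfLE hV).op t) : Epi φ := by
  constructor
  intro H g g' hg
  refine Scheme.Modules.hom_ext _ _ fun W => ?_
  ext t
  refine eq_of_locally _ _ fun x hx => ?_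
  obtain ⟨V, hV, hxV, s, hs⟩ := h W t x hx
  refine ⟨V, hV, hxV, ?_⟩
  rw [← app_map_apply, ← app_map_apply, ← hs]
  exact congr($(congrArg (fun k => Scheme.Modules.Hom.app k V) hg) s)

theorem mono_of_injective {F G : X.Modules} (φ : F ⟶ G)
    (h : ∀ (W : X.Opens) (s : Γ(F, W)), φ.app W s = 0 → ∀ x ∈ W, ∃ (V : X.Opens) (hV : V ≤ W), x ∈ V ∧
      F.presheaf.map (homOfLE hV).op s = 0) : Mono φ := by
  refine Preadditive.mono_of_cancel_zero φ fun {H} g hg => ?_
  refine Scheme.Modules.hom_ext _ _ fun W => ?_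
  ext t
  have h0 : φ.app W (g.app W t) = 0 := congr($(congrArg (fun k => Scheme.Modules.Hom.app k W) hg) t)
  refine eq_of_locally _ _ fun x hx => ?_
  obtain ⟨V, hV, hxV, hs⟩ := h W (g.app W t) h0 x hx
  exact ⟨V, hV, hxV, hs.trans (map_zero _).symm⟩

theorem exact_of_locally (S : ShortComplex X.Modules)
    (h : ∀ (W : X.Opens) (t : Γ(S.X₂, W)), S.g.app W t = 0 → ∀ x ∈ W, ∃ (V : X.Opens) (hV : V ≤ W), x ∈ V ∧
      ∃ s : Γ(S.X₁, V), S.f.app V s = S.X₂.presheaf.map (homOfLE hV).op t) : S.Exact := by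
  rw [S.exact_iff_epi_toCycles]
  refine epi_of_locally_surjective _ fun W z x hx => ?_
  have hz : S.g.app W (S.iCycles.app W z) = 0 :=
    congr($(congrArg (fun k => Scheme.Modules.Hom.app k W) S.iCycles_g) z)
  obtain ⟨V, hV, hxV, s, hs⟩ := h W (S.iCycles.app W z) hz x hx
  refine ⟨V, hV, hxV, s, H10Coh.injective_app_of_mono' S.iCycles V ?_⟩
  rw [app_map_apply]
  exact (congr($(congrArg (fun k => Scheme.Modules.Hom.app k V) S.toCycles_i) s)).trans hs

end Groth.Agent.H11Tilde
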