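import Groth.Agent.H11Tilde.TwistPow
import Groth.Agent.H11Tilde.ModLoc
import Groth.Prelude.Def_CohB1

/-!
# Global sections `f / 1` of `O(n)`; their non-vanishing locus
-/

set_option autoImplicit false

noncomputable section

universe u

open CategoryTheory CategoryTheory.Limits AlgebraicGeometry Opposite TopologicalSpace

namespace Groth.Agent.H11Tilde

section general

variable {X : Scheme.{u}}

theorem genLocus_comp_iso {L L' : X.Modules} (s : Coh.structureModule X ⟶ L) (e : L ⟶ L') [IsIso e] :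
    CohB1.genLocus L' (s ≫ e) = CohB1.genLocus L s := by
  refine congrArg sSup (Set.ext fun U => ?_)
  simp only [Set.mem_setOf_eq, Functor.map_comp]
  exact isIso_comp_right_iff _ _

/-- The generating locus, section by section. -/
theorem isIso_restrict_homOfGlobal_iff (L : X.Modules) (g : Γ(L, ⊤)) (U : X.Opens) :
    IsIso ((Scheme.Modules.restrictFunctor U.ι).map (homOfGlobal L g)) ↔
      ∀ V : X.Opens, V ≤ U → Function.Bijective fun r : Γ(X, V) => r • L.presheaf.map (homOfLE (le_top : V ≤ ⊤)).op g := by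
  rw [Scheme.Modules.Hom.isIso_iff_isIso_app]
  constructor
  · intro h V hV
    have hVe : U.ι ''ᵁ (U.ι ⁻¹ᵁ V) = V := by
      rw [Scheme.Hom.image_preimage_eq_opensRange_inf, Scheme.Opens.opensRange_ι, inf_eq_right.2 hV]
    have h1 : Function.Bijective ((homOfGlobal L g).app (U.ι ''ᵁ (U.ι ⁻¹ᵁ V))) :=
      (ConcreteCategory.isIso_iff_bijective _).1 (h (U.ι ⁻¹ᵁ V))
    rw [hVe] at h1
    exact h1
  · intro h V
    exact (ConcreteCategory.isIso_iff_bijective _).2 (h (U.ι ''ᵁ V) (U.ι_image_le V))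

end general

open GrMod

variable {A σA : Type u} [CommRing A] [SetLike σA A] [AddSubgroupClass σA A] (𝒜 : ℕ → σA) [GradedRing 𝒜]

/-- The global section `f / 1`. -/
def globalSec {d : ℕ} {f : A} (hf : f ∈ 𝒜 d) : Γ(tilde 𝒜 𝒜 (d : ℤ), (⊤ : (Proj 𝒜).Opens)) :=
  secOf 𝒜 𝒜 hf (SetLike.one_mem_graded 𝒜) (fun x _ => one_notMem 𝒜 x) (by simp)

theorem bijective_smul_globalSec {d : ℕ} {f : A} (hf : f ∈ 𝒜 d) {V : (Proj 𝒜).Opens}
    (hV : V ≤ Proj.basicOpen 𝒜 f) :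
    Function.Bijective fun r : Γ(Proj 𝒜, V) =>
      r • (tilde 𝒜 𝒜 (d : ℤ)).presheaf.map (homOfLE (le_top : V ≤ ⊤)).op (globalSec 𝒜 hf) :=
  bijective_smul_gen 𝒜 hf (SetLike.one_mem_graded 𝒜) (fun x hx => hV hx) (fun x _ => one_notMem 𝒜 x) (by simp) _
    fun _ => rfl

theorem genLocus_globalSec {d : ℕ} {f : A} (hf : f ∈ 𝒜 d)
    (h : ∀ x : Proj 𝒜, ∃ g ∈ 𝒜 d, g ∉ x.asHomogeneousIdeal) :
    CohB1.genLocus (tilde 𝒜 𝒜 (d : ℤ)) (homOfGlobal _ (globalSec 𝒜 hf)) = Proj.basicOpen 𝒜 f := by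
  refine le_antisymm (sSup_le fun U hU x hx => ?_) (le_sSup ?_)
  · obtain ⟨g, hg, hgx⟩ := h x
    obtain ⟨r, hr⟩ := ((isIso_restrict_homOfGlobal_iff _ _ U).1 hU (U ⊓ Proj.basicOpen 𝒜 g) inf_le_left).2
      ((tilde 𝒜 𝒜 (d : ℤ)).presheaf.map (homOfLE (le_top : U ⊓ Proj.basicOpen 𝒜 g ≤ ⊤)).op (globalSec 𝒜 hg))
    have h1 := congrArg (fun s => sval 𝒜 𝒜 s (⟨x, hx, hgx⟩ : ↥(U ⊓ Proj.basicOpen 𝒜 g))) hr
    have hu : IsUnit (Localization.mk g ⟨1, one_notMem 𝒜 x⟩ : GrTwist.Loc 𝒜 x) := (isUnit_mk_iff 𝒜 x g _).2 hgx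
    have hu' : IsUnit (fval 𝒜 r ⟨x, hx, hgx⟩ * (Localization.mk f ⟨1, one_notMem 𝒜 x⟩ : GrTwist.Loc 𝒜 x)) := by
      refine Eq.mpr (congrArg IsUnit ?_) hu
      exact h1
    exact (isUnit_mk_iff 𝒜 x f _).1 (isUnit_of_mul_isUnit_right hu')
  · exact (isIso_restrict_homOfGlobal_iff _ _ _).2 fun V hV => bijective_smul_globalSec 𝒜 hf hV

end Groth.Agent.H11Tilde
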