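import Groth.Agent.H11Tilde.GammaStar.Ratio
import Groth.Agent.H10Coh.FinType

/-!
# Morphisms to `Proj` from dehomogenisations of degree one charts
-/

set_option autoImplicit false
set_option linter.style.haveILetI false

noncomputable section

universe u

open CategoryTheory CategoryTheory.Limits AlgebraicGeometry Opposite TopologicalSpace

namespace Groth.Agent.H11Tilde

section general

variable {X Y : Scheme.{u}}

theorem resLE_toSpecΓ (r : X ⟶ Y) (U : Y.Opens) (V : X.Opens) (e : V ≤ r ⁻¹ᵁ U) :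
    r.resLE U V e ≫ U.toSpecΓ = V.toSpecΓ ≫ Spec.map (r.appLE U V e) := by
  simp only [Scheme.Opens.toSpecΓ, Category.assoc, ← Spec.map_comp]
  rw [Scheme.toSpecΓ_naturality_assoc, ← Spec.map_comp]
  congr 2
  simp only [Scheme.Hom.appTop, Scheme.Hom.resLE_app_top, Scheme.Opens.topIso, Functor.mapIso_inv, Functor.mapIso_hom, Iso.op_inv, eqToIso.inv, eqToHom_op, eqToIso.hom, Iso.op_hom, Category.assoc, Scheme.Hom.appLE_map, Scheme.Hom.map_appLE]
  erw [← Functor.map_comp_assoc, eqToHom_trans, eqToHom_refl, CategoryTheory.Functor.map_id, Category.id_comp]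

theorem ι_comp_eq_fromSpec (r : X ⟶ Y) {U : Y.Opens} (hU : IsAffineOpen U) (V : X.Opens) (e : V ≤ r ⁻¹ᵁ U) :
    V.ι ≫ r = V.toSpecΓ ≫ Spec.map (r.appLE U V e) ≫ hU.fromSpec := by
  rw [← Category.assoc, ← resLE_toSpecΓ r U V e, Category.assoc, IsAffineOpen.toSpecΓ_fromSpec,
    Scheme.Hom.resLE_comp_ι]

theorem hom_ext_on {r r' : X ⟶ Y} {U : Y.Opens} (hU : IsAffineOpen U) (V : X.Opens) (e : V ≤ r ⁻¹ᵁ U)
    (e' : V ≤ r' ⁻¹ᵁ U) (h : r.appLE U V e = r'.appLE U V e') : V.ι ≫ r = V.ι ≫ r' := by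
  rw [ι_comp_eq_fromSpec r hU V e, ι_comp_eq_fromSpec r' hU V e', h]

theorem toSpecΓ_SpecMap_injective {R : CommRingCat.{u}} (V : X.Opens) {φ ψ : R ⟶ Γ(X, V)}
    (h : V.toSpecΓ ≫ Spec.map φ = V.toSpecΓ ≫ Spec.map ψ) : φ = ψ := by
  have h' := congrArg (fun k => k.appTop) h
  simp only [Scheme.Hom.comp_appTop, Scheme.Opens.toSpecΓ_appTop, Scheme.ΓSpecIso_naturality_assoc] at h'
  exact (cancel_mono V.topIso.inv).1 ((cancel_epi (Scheme.ΓSpecIso R).hom).1 h')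

theorem le_preimage_of_ι_comp {r : X ⟶ Y} {U : Y.Opens} (hU : IsAffineOpen U) {V : X.Opens}
    {φ : Γ(Y, U) ⟶ Γ(X, V)} (h : V.ι ≫ r = V.toSpecΓ ≫ Spec.map φ ≫ hU.fromSpec) : V ≤ r ⁻¹ᵁ U := by
  intro x hx
  have hx' : r.base x = (V.toSpecΓ ≫ Spec.map φ ≫ hU.fromSpec).base ⟨x, hx⟩ := by
    rw [← h]; rfl
  change r.base x ∈ U
  rw [hx']
  exact hU.range_fromSpec.le ⟨_, rfl⟩

theorem appLE_eq_of_ι_comp {r : X ⟶ Y} {U : Y.Opens} (hU : IsAffineOpen U) {V : X.Opens}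
    {φ : Γ(Y, U) ⟶ Γ(X, V)} (h : V.ι ≫ r = V.toSpecΓ ≫ Spec.map φ ≫ hU.fromSpec) :
    r.appLE U V (le_preimage_of_ι_comp hU h) = φ := by
  have h' := (ι_comp_eq_fromSpec r hU V (le_preimage_of_ι_comp hU h)).symm.trans h
  rw [← Category.assoc, ← Category.assoc] at h'
  exact toSpecΓ_SpecMap_injective V ((cancel_mono hU.fromSpec).1 h')

theorem exists_lift_basicOpen {U : Y.Opens} (hU : IsAffineOpen U) (t : Γ(Y, U)) {R : CommRingCat.{u}}
    (φ : Γ(Y, U) ⟶ R) (h : IsUnit (φ t)) :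
    ∃ ψ : Γ(Y, Y.basicOpen t) ⟶ R, Y.presheaf.map (homOfLE (Y.basicOpen_le t)).op ≫ ψ = φ := by
  haveI := hU.isLocalization_basicOpen t
  refine ⟨CommRingCat.ofHom (IsLocalization.Away.lift (S := Γ(Y, Y.basicOpen t)) t (g := φ.hom) h), ?_⟩
  ext z
  exact IsLocalization.Away.lift_eq t h z

end general

variable {A σA : Type u} [CommRing A] [SetLike σA A] [AddSubgroupClass σA A] (𝒜 : ℕ → σA) [GradedRing 𝒜]

theorem exists_ratio {f : A} (hf : f ∈ 𝒜 1) (s : Γ(Proj 𝒜, Proj.basicOpen 𝒜 f)) :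
    ∃ (k : ℕ) (a : A) (ha : a ∈ 𝒜 k), s = ratio 𝒜 hf ha := by
  obtain ⟨z, rfl⟩ := (ConcreteCategory.bijective_of_isIso (Proj.basicOpenIsoAway 𝒜 f hf one_pos).hom).2 s
  obtain ⟨k, a, ha, rfl⟩ := HomogeneousLocalization.Away.mk_surjective 𝒜 hf z
  exact ⟨k, a, by simpa using ha, rfl⟩

theorem basicOpen_ratio_deg1 {f g : A} (hf : f ∈ 𝒜 1) (hg : g ∈ 𝒜 1) :
    (Proj 𝒜).basicOpen (ratio 𝒜 hf hg) = Proj.basicOpen 𝒜 f ⊓ Proj.basicOpen 𝒜 g := by
  rw [basicOpen_ratio, Proj.basicOpen_mul]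

/-- Ring maps out of the functions on `D₊(f)` agree if they agree on all `a / f ^ k`. -/
theorem ringHom_ext_ratio {f : A} (hf : f ∈ 𝒜 1) {R : CommRingCat.{u}} {φ ψ : Γ(Proj 𝒜, Proj.basicOpen 𝒜 f) ⟶ R}
    (h : ∀ (k : ℕ) (a : A) (ha : a ∈ 𝒜 k), φ (ratio 𝒜 hf ha) = ψ (ratio 𝒜 hf ha)) : φ = ψ := by
  ext s
  obtain ⟨k, a, ha, rfl⟩ := exists_ratio 𝒜 hf s
  exact h k a ha

section chartHom

variable {R : Type u} [CommRing R] (h : A →+* R) {f : A} (hf : f ∈ 𝒜 1) (h1 : h f = 1)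

/-- `a / f ^ k ↦ h a`. -/
def chartHom : Γ(Proj 𝒜, Proj.basicOpen 𝒜 f) ⟶ CommRingCat.of R :=
  (Proj.basicOpenIsoAway 𝒜 f hf one_pos).inv ≫ CommRingCat.ofHom
    ((IsLocalization.Away.lift (S := Localization.Away f) f (g := h) (h1.symm ▸ isUnit_one)).comp
      (algebraMap (HomogeneousLocalization.Away 𝒜 f) (Localization.Away f)))

theorem chartHom_ratio {k : ℕ} {a : A} (ha : a ∈ 𝒜 k) : chartHom 𝒜 h hf h1 (ratio 𝒜 hf ha) = h a := by
  have e : (Proj.basicOpenIsoAway 𝒜 f hf one_pos).inv (ratio 𝒜 hf ha) =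
      HomogeneousLocalization.Away.mk 𝒜 hf k a (by simpa using ha) := by
    refine (ConcreteCategory.bijective_of_isIso (Proj.basicOpenIsoAway 𝒜 f hf one_pos).hom).1 ?_
    rw [← ConcreteCategory.comp_apply, Iso.inv_hom_id, ConcreteCategory.id_apply]
    rfl
  rw [chartHom, ConcreteCategory.comp_apply, e]
  change IsLocalization.Away.lift (S := Localization.Away f) f (g := h) (h1.symm ▸ isUnit_one)
    (algebraMap _ (Localization.Away f) (HomogeneousLocalization.Away.mk 𝒜 hf k a _)) = _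
  rw [HomogeneousLocalization.algebraMap_apply, HomogeneousLocalization.Away.val_mk, Localization.mk_eq_mk',
    IsLocalization.Away.lift, IsLocalization.lift_mk'_spec]
  simp [h1]

end chartHom

/-- Dehomogenisations on an open cover, related by the transition units. -/
structure HomData (X : Scheme.{u}) where
  J : Type u
  V : J → X.Opens
  cover : ∀ x, ∃ j, x ∈ V j
  f : J → A
  deg : ∀ j, f j ∈ 𝒜 1
  h : ∀ j, A →+* Γ(X, V j)
  h_one : ∀ j, h j (f j) = 1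
  trans : ∀ i j (k : ℕ) (a : A), a ∈ 𝒜 k →
    X.presheaf.map (homOfLE (inf_le_right : V i ⊓ V j ≤ V j)).op (h j a) =
      X.presheaf.map (homOfLE (inf_le_right : V i ⊓ V j ≤ V j)).op (h j (f i)) ^ k *
        X.presheaf.map (homOfLE (inf_le_left : V i ⊓ V j ≤ V i)).op (h i a)

namespace HomData

variable {𝒜} {X : Scheme.{u}} (d : HomData 𝒜 X)

/-- The chartwise morphism. -/
def chart (j : d.J) : (d.V j).toScheme ⟶ Proj 𝒜 :=
  (d.V j).toSpecΓ ≫ Spec.map (chartHom 𝒜 (d.h j) (d.deg j) (d.h_one j)) ≫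
    (Proj.isAffineOpen_basicOpen 𝒜 (d.f j) (d.deg j) one_pos).fromSpec

theorem homOfLE_chart (i j : d.J) :
    X.homOfLE (inf_le_left : d.V i ⊓ d.V j ≤ d.V i) ≫ d.chart i =
      X.homOfLE (inf_le_right : d.V i ⊓ d.V j ≤ d.V j) ≫ d.chart j := by
  let W : X.Opens := d.V i ⊓ d.V j
  let fi := d.f i
  let fj := d.f j
  let D : (Proj 𝒜).Opens := (Proj 𝒜).basicOpen (ratio 𝒜 (d.deg i) (d.deg j))
  have hD : D = Proj.basicOpen 𝒜 fi ⊓ Proj.basicOpen 𝒜 fj := basicOpen_ratio_deg1 𝒜 _ _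
  have hDi : D ≤ Proj.basicOpen 𝒜 fi := hD.trans_le inf_le_left
  have hDj : D ≤ Proj.basicOpen 𝒜 fj := hD.trans_le inf_le_right
  have hDaff : IsAffineOpen D := (Proj.isAffineOpen_basicOpen 𝒜 fi (d.deg i) one_pos).basicOpen _
  let φi := chartHom 𝒜 (d.h i) (d.deg i) (d.h_one i) ≫ X.presheaf.map (homOfLE (inf_le_left : W ≤ d.V i)).op
  let φj := chartHom 𝒜 (d.h j) (d.deg j) (d.h_one j) ≫ X.presheaf.map (homOfLE (inf_le_right : W ≤ d.V j)).op
  let u : Γ(X, W) := X.presheaf.map (homOfLE (inf_le_right : W ≤ d.V j)).op (d.h j fi)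
  let v : Γ(X, W) := X.presheaf.map (homOfLE (inf_le_left : W ≤ d.V i)).op (d.h i fj)
  have huv : u * v = 1 := by
    have := d.trans i j 1 fj (d.deg j)
    rw [pow_one, d.h_one, map_one] at this
    exact this.symm
  have hv : IsUnit (φi (ratio 𝒜 (d.deg i) (d.deg j))) := by
    change IsUnit (X.presheaf.map _ (chartHom 𝒜 _ _ _ _))
    rw [chartHom_ratio]
    exact IsUnit.of_mul_eq_one (a := v) u (by rw [mul_comm]; exact huv)
  obtain ⟨ψ, hψi⟩ := exists_lift_basicOpen (Proj.isAffineOpen_basicOpen 𝒜 fi (d.deg i) one_pos)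
    (ratio 𝒜 (d.deg i) (d.deg j)) φi hv
  have hψj : (Proj 𝒜).presheaf.map (homOfLE hDj).op ≫ ψ = φj := by
    refine ringHom_ext_ratio 𝒜 (d.deg j) fun k a ha => ?_
    have key := congrArg ψ (res_ratio 𝒜 (d.deg j) (d.deg i) ha (V := D) hDj hDi)
    have hi : ∀ {l : ℕ} {b : A} (hb : b ∈ 𝒜 l), ψ ((Proj 𝒜).presheaf.map (homOfLE hDi).op (ratio 𝒜 (d.deg i) hb)) =
        X.presheaf.map (homOfLE (inf_le_left : W ≤ d.V i)).op (d.h i b) := fun {l b} hb => by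
      rw [← ConcreteCategory.comp_apply, hψi]
      change X.presheaf.map _ (chartHom 𝒜 _ _ _ _) = _
      rw [chartHom_ratio]
    rw [map_mul, map_pow, hi, hi] at key
    change ψ ((Proj 𝒜).presheaf.map (homOfLE hDj).op (ratio 𝒜 (d.deg j) ha)) =
      X.presheaf.map (homOfLE (inf_le_right : W ≤ d.V j)).op (chartHom 𝒜 _ _ _ _)
    rw [chartHom_ratio, d.trans i j k a ha, key, ← mul_assoc, ← mul_pow]
    change _ = (u * v) ^ k * _
    rw [huv, one_pow, one_mul]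
  have e : ∀ (l : d.J) (hl : W ≤ d.V l) (hDl : D ≤ Proj.basicOpen 𝒜 (d.f l)),
      (Proj 𝒜).presheaf.map (homOfLE hDl).op ≫ ψ =
        chartHom 𝒜 (d.h l) (d.deg l) (d.h_one l) ≫ X.presheaf.map (homOfLE hl).op →
      X.homOfLE hl ≫ d.chart l = W.toSpecΓ ≫ Spec.map ψ ≫ hDaff.fromSpec := fun l hl hDl h => by
    have h2 := congrArg Spec.map h
    rw [Spec.map_comp, Spec.map_comp] at h2
    rw [chart, ← Scheme.Opens.toSpecΓ_SpecMap_presheaf_map_assoc W (d.V l) hl, ← reassoc_of% h2,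
      IsAffineOpen.map_fromSpec]
  exact (e i _ hDi hψi).trans (e j _ hDj hψj).symm

theorem exists_hom : ∃ r : X ⟶ Proj 𝒜, ∀ j, (d.V j).ι ≫ r = d.chart j := by
  let 𝒰 : X.OpenCover := X.openCoverOfIsOpenCover d.V
    (top_le_iff.1 fun x _ => by obtain ⟨j, hj⟩ := d.cover x; exact Opens.mem_iSup.2 ⟨j, hj⟩)
  refine ⟨𝒰.glueMorphisms d.chart fun i j => ?_, fun j => 𝒰.ι_glueMorphisms _ _ j⟩
  change pullback.fst (d.V i).ι (d.V j).ι ≫ d.chart i = pullback.snd (d.V i).ι (d.V j).ι ≫ d.chart j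
  rw [← cancel_epi (isPullback_opens_inf (d.V i) (d.V j)).isoPullback.hom,
    IsPullback.isoPullback_hom_fst_assoc, IsPullback.isoPullback_hom_snd_assoc]
  exact d.homOfLE_chart i j

variable {d} {r : X ⟶ Proj 𝒜} (hr : ∀ j, (d.V j).ι ≫ r = d.chart j)

include hr in
theorem le_preimage (j : d.J) : d.V j ≤ r ⁻¹ᵁ Proj.basicOpen 𝒜 (d.f j) :=
  le_preimage_of_ι_comp _ (hr j)

theorem appLE_ratio (j : d.J) {k : ℕ} {a : A} (ha : a ∈ 𝒜 k) :
    r.appLE (Proj.basicOpen 𝒜 (d.f j)) (d.V j) (d.le_preimage hr j) (ratio 𝒜 (d.deg j) ha) = d.h j a := by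
  rw [appLE_eq_of_ι_comp _ (hr j), chartHom_ratio]

end HomData

end Groth.Agent.H11Tilde
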