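import Groth.Agent.H10Coh.QCohLocal
import Groth.Agent.H10Coh.FinType

/-!
# Quasi-coherence from the localization property of sections on basic opens of an affine cover
-/

set_option autoImplicit false

universe u

open CategoryTheory CategoryTheory.Limits AlgebraicGeometry Opposite TopologicalSpace
open Groth.Agent.H10Coh

namespace Groth.Agent.H11Tilde

variable {X : Scheme.{u}}

local notation "D" => PrimeSpectrum.basicOpen

theorem isQuasicoherent_restrict_fromSpec (F : X.Modules) {U : X.Opens} (hU : IsAffineOpen U)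
    (hinj : ∀ (r : Γ(X, U)) (s : Γ(F, U)), F.presheaf.map (homOfLE (X.basicOpen_le r)).op s = 0 →
      ∃ n : ℕ, r ^ n • s = 0)
    (hsurj : ∀ (r : Γ(X, U)) (s' : Γ(F, X.basicOpen r)), ∃ (n : ℕ) (s : Γ(F, U)),
      F.presheaf.map (homOfLE (X.basicOpen_le r)).op s =
        X.presheaf.map (homOfLE (X.basicOpen_le r)).op (r ^ n) • s') :
    (F.restrict hU.fromSpec).IsQuasicoherent := by
  rw [isQuasicoherent_iff_isIso_fromTildeΓ, isIso_fromTildeΓ_iff_isLocalizing]
  intro t
  let f := hU.fromSpec
  have htop : f ''ᵁ ⊤ = U := by rw [Scheme.Hom.image_top_eq_opensRange, hU.opensRange_fromSpec]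
  have hD : f ''ᵁ D t = X.basicOpen t := hU.fromSpec_image_basicOpen t
  let e : Γ(F.restrict f, ⊤) → Γ(F, U) :=
    fun s => F.presheaf.map (homOfLE htop.ge).op ((F.restrictAppIso f ⊤).hom s)
  have he : Function.Bijective e := by
    refine Function.bijective_iff_has_inverse.2 ⟨fun s => (F.restrictAppIso f ⊤).inv
      (F.presheaf.map (homOfLE htop.le).op s), fun s => ?_, fun s => ?_⟩
    · change (F.restrictAppIso f ⊤).inv (F.presheaf.map (homOfLE htop.le).op
        (F.presheaf.map (homOfLE htop.ge).op ((F.restrictAppIso f ⊤).hom s))) = s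
      rw [mres_mres, mres_self, Iso.hom_inv_id_apply]
    · change F.presheaf.map (homOfLE htop.ge).op ((F.restrictAppIso f ⊤).hom
        ((F.restrictAppIso f ⊤).inv (F.presheaf.map (homOfLE htop.le).op s))) = s
      rw [Iso.inv_hom_id_apply, mres_mres, mres_self]
  have htopSmul : ∀ (a : Γ(X, U)) (s : Γ(F.restrict f, ⊤)), e (a • s) = a • e s := by
    intro a s
    have hnat : (f.appIso ⊤).inv ((Scheme.ΓSpecIso Γ(X, U)).inv a) =
        X.presheaf.map (homOfLE htop.le).op a := by
      rw [← ConcreteCategory.comp_apply, H29Blow.res_eq_appIso_inv hU htop.le]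
    have h1 : (F.restrictAppIso f ⊤).hom (a • s) =
        X.presheaf.map (homOfLE htop.le).op a • (F.restrictAppIso f ⊤).hom s := by
      rw [← hnat]
      rw [Scheme.Modules.smul_Spec_def]
      have hid : (⊤ : (Spec Γ(X, U)).Opens).leTop.op = 𝟙 _ := Subsingleton.elim _ _
      rw [hid, CategoryTheory.Functor.map_id]
      rfl
    change F.presheaf.map (homOfLE htop.ge).op ((F.restrictAppIso f ⊤).hom (a • s)) = _
    rw [h1, Scheme.Modules.map_smul, rres_rres, Subsingleton.elim (homOfLE _).op (𝟙 (op U)),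
      CategoryTheory.Functor.map_id]
    rfl
  let e' : Γ(F.restrict f, D t) → Γ(F, X.basicOpen t) :=
    fun s => F.presheaf.map (homOfLE hD.ge).op ((F.restrictAppIso f (D t)).hom s)
  have he' : Function.Bijective e' := by
    refine Function.bijective_iff_has_inverse.2 ⟨fun s => (F.restrictAppIso f (D t)).inv
      (F.presheaf.map (homOfLE hD.le).op s), fun s => ?_, fun s => ?_⟩
    · change (F.restrictAppIso f (D t)).inv (F.presheaf.map (homOfLE hD.le).op
        (F.presheaf.map (homOfLE hD.ge).op ((F.restrictAppIso f (D t)).hom s))) = s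
      rw [mres_mres, mres_self, Iso.hom_inv_id_apply]
    · change F.presheaf.map (homOfLE hD.ge).op ((F.restrictAppIso f (D t)).hom
        ((F.restrictAppIso f (D t)).inv (F.presheaf.map (homOfLE hD.le).op s))) = s
      rw [Iso.inv_hom_id_apply, mres_mres, mres_self]
  have hres : ∀ s : Γ(F.restrict f, ⊤),
      e' ((F.restrict f).presheaf.map (homOfLE (le_top : D t ≤ ⊤)).op s) =
        F.presheaf.map (homOfLE (X.basicOpen_le t)).op (e s) := by
    intro s
    change F.presheaf.map (homOfLE hD.ge).op (F.presheaf.map (homOfLE (Scheme.Hom.image_mono f le_top)).op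
      ((F.restrictAppIso f ⊤).hom s)) = F.presheaf.map _ (F.presheaf.map _ _)
    rw [mres_mres, mres_mres]
  have hDSmul : ∀ (a : Γ(X, U)) (s : Γ(F.restrict f, D t)),
      e' (a • s) = X.presheaf.map (homOfLE (X.basicOpen_le t)).op a • e' s := by
    intro a s
    have hnat : (f.appIso (D t)).inv
        ((Spec Γ(X, U)).presheaf.map (homOfLE (le_top : D t ≤ ⊤)).op ((Scheme.ΓSpecIso Γ(X, U)).inv a)) =
        X.presheaf.map (homOfLE (hD.le.trans (X.basicOpen_le t))).op a := by
      have e2 := congr($(H29Blow.res_eq_appIso_inv hU htop.le) a)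
      have e3 := congr($(Scheme.Hom.appIso_inv_naturality f (homOfLE (le_top : D t ≤ ⊤)).op)
        ((Scheme.ΓSpecIso Γ(X, U)).inv a))
      refine e3.trans ?_
      refine (congrArg (X.presheaf.map _) e2).trans ?_
      refine Eq.trans (ConcreteCategory.comp_apply _ _ a).symm ?_
      rw [← Functor.map_comp]
      exact congr(X.presheaf.map $(Subsingleton.elim _ _) a)
    have h1 : (F.restrictAppIso f (D t)).hom (a • s) =
        X.presheaf.map (homOfLE (hD.le.trans (X.basicOpen_le t))).op a • (F.restrictAppIso f (D t)).hom s := by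
      rw [← hnat, Scheme.Modules.smul_Spec_def]
      rfl
    change F.presheaf.map (homOfLE hD.ge).op ((F.restrictAppIso f (D t)).hom (a • s)) = _
    rw [h1, Scheme.Modules.map_smul, rres_rres]
  refine IsLocalizedModule.Away.mk_of_addCommGroup ?_ ?_ ?_
  · exact Scheme.Modules.isUnit_algebraMap_end_of_le_basicOpen t le_rfl
  · intro y
    obtain ⟨n, s, hs⟩ := hsurj t (e' y)
    obtain ⟨s, rfl⟩ := he.2 s
    refine ⟨n, s, he'.1 ?_⟩
    exact ((hDSmul (t ^ n) y).trans hs.symm).trans (hres s).symm
  · intro s hs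
    have h0 : F.presheaf.map (homOfLE (X.basicOpen_le t)).op (e s) = 0 := by
      refine (hres s).symm.trans ?_
      have h1 : (F.restrict f).presheaf.map (homOfLE (le_top : D t ≤ ⊤)).op s = 0 := hs
      rw [h1]
      change F.presheaf.map _ ((F.restrictAppIso f (D t)).hom 0) = 0
      rw [map_zero, map_zero]
    obtain ⟨n, hn⟩ := hinj t (e s) h0
    refine ⟨n, he.1 ?_⟩
    refine (htopSmul (t ^ n) s).trans (hn.trans ?_)
    change 0 = F.presheaf.map _ ((F.restrictAppIso f ⊤).hom 0)
    rw [map_zero, map_zero]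

theorem isQuasicoherent_of_basicOpen_localization (F : X.Modules) {I : Type u} (U : I → X.Opens)
    (hU : IsOpenCover U) (hA : ∀ i, IsAffineOpen (U i))
    (hinj : ∀ (i : I) (r : Γ(X, U i)) (s : Γ(F, U i)), F.presheaf.map (homOfLE (X.basicOpen_le r)).op s = 0 →
      ∃ n : ℕ, r ^ n • s = 0)
    (hsurj : ∀ (i : I) (r : Γ(X, U i)) (s' : Γ(F, X.basicOpen r)), ∃ (n : ℕ) (s : Γ(F, U i)),
      F.presheaf.map (homOfLE (X.basicOpen_le r)).op s =
        X.presheaf.map (homOfLE (X.basicOpen_le r)).op (r ^ n) • s') :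
    F.IsQuasicoherent :=
  isQuasicoherent_of_affineCover F U hU hA fun i =>
    isQuasicoherent_restrict_fromSpec F (hA i) (hinj i) (hsurj i)

end Groth.Agent.H11Tilde
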