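import Groth.Agent.H11Tilde.Frac
import Groth.Agent.H11Tilde.QCohCrit

/-!
# Functions on standard opens; quasi-coherence of `M(n)~`
-/

set_option autoImplicit false

noncomputable section

universe u

open CategoryTheory AlgebraicGeometry TopologicalSpace Opposite

namespace Groth.Agent.H11Tilde

open GrMod

variable {A σA : Type u} [CommRing A] [SetLike σA A] [AddSubgroupClass σA A] (𝒜 : ℕ → σA) [GradedRing 𝒜]
variable {M τ : Type u} [AddCommGroup M] [Module A M] [SetLike τ M] [AddSubgroupClass τ M] (ℳ : ℕ → τ)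

/-- The value of a function on an open of Proj at a point, in the localization. -/
def fval {U : (Proj 𝒜).Opens} (r : Γ(Proj 𝒜, U)) (x : U) : GrTwist.Loc 𝒜 x.1 :=
  ((show GrTwist.O (𝒜 := 𝒜) (op U) from r).1 x).val

theorem fval_awayToSection {f : A} {d : ℕ} (hf : f ∈ 𝒜 d) (k : ℕ) (a : A) (ha : a ∈ 𝒜 (k • d))
    (x : Proj.basicOpen 𝒜 f) :
    fval 𝒜 (Proj.awayToSection 𝒜 f (HomogeneousLocalization.Away.mk 𝒜 hf k a ha)) x =
      Localization.mk a ⟨f ^ k, pow_notMem 𝒜 x.2 k⟩ := by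
  change ((((ProjectiveSpectrum.Proj.awayToSection 𝒜 f).1
    (HomogeneousLocalization.Away.mk 𝒜 hf k a ha)).val x).val) = _
  rw [ProjectiveSpectrum.Proj.awayToSection_apply, HomogeneousLocalization.Away.val_mk,
    Localization.mk_eq_mk', IsLocalization.map_mk', Localization.mk_eq_mk']
  rfl

/-- Every function on `D₊(f)` is `a / f ^ k`. -/
theorem exists_fval_eq {f : A} {d : ℕ} (hd : 0 < d) (hf : f ∈ 𝒜 d) (r : Γ(Proj 𝒜, Proj.basicOpen 𝒜 f)) :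
    ∃ (k : ℕ) (a : A), a ∈ 𝒜 (k * d) ∧ ∀ (x : Proj.basicOpen 𝒜 f) (hx : f ^ k ∉ x.1.asHomogeneousIdeal),
      fval 𝒜 r x = Localization.mk a ⟨f ^ k, hx⟩ := by
  obtain ⟨z, hz⟩ := (ConcreteCategory.bijective_of_isIso (Proj.basicOpenIsoAway 𝒜 f hf hd).hom).2 r
  obtain ⟨k, a, ha, rfl⟩ := HomogeneousLocalization.Away.mk_surjective 𝒜 hf z
  refine ⟨k, a, by simpa using ha, fun x hx => ?_⟩
  rw [← hz]
  exact fval_awayToSection 𝒜 hf k a ha x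

theorem mem_basicOpen_iff_isUnit_fval {U : (Proj 𝒜).Opens} (r : Γ(Proj 𝒜, U)) (x : U) :
    x.1 ∈ (Proj 𝒜).basicOpen r ↔ IsUnit (fval 𝒜 r x) := by
  refine ((Proj 𝒜).mem_basicOpen r x.1 x.2).trans ?_
  rw [fval, HomogeneousLocalization.isUnit_iff_isUnit_val]
  let s : (ProjectiveSpectrum.Proj.structureSheaf 𝒜).1.obj (op U) := r
  refine Iff.trans ?_ (iff_of_eq (congrArg IsUnit (AlgebraicGeometry.Proj.stalkIso'_germ (𝒜 := 𝒜) U x.1 x.2 s)))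
  exact (MulEquiv.isUnit_map (AlgebraicGeometry.Proj.stalkIso' 𝒜 x.1)).symm

theorem isUnit_mk_iff (x : ProjectiveSpectrum 𝒜) (a : A) (s : x.asHomogeneousIdeal.toIdeal.primeCompl) :
    IsUnit (Localization.mk a s : GrTwist.Loc 𝒜 x) ↔ a ∉ x.asHomogeneousIdeal := by
  rw [Localization.mk_eq_mk', IsLocalization.AtPrime.isUnit_mk'_iff (GrTwist.Loc 𝒜 x) x.asHomogeneousIdeal.toIdeal]
  rfl

theorem basicOpen_eq_of_fval {f a : A} {k : ℕ} (r : Γ(Proj 𝒜, Proj.basicOpen 𝒜 f))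
    (h : ∀ (x : Proj.basicOpen 𝒜 f) (hx : f ^ k ∉ x.1.asHomogeneousIdeal),
      fval 𝒜 r x = Localization.mk a ⟨f ^ k, hx⟩) :
    (Proj 𝒜).basicOpen r = Proj.basicOpen 𝒜 (f * a) := by
  ext x
  constructor
  · intro hx
    have hxf : x ∈ Proj.basicOpen 𝒜 f := (Proj 𝒜).basicOpen_le r hx
    have h1 := (mem_basicOpen_iff_isUnit_fval 𝒜 r ⟨x, hxf⟩).1 hx
    rw [h ⟨x, hxf⟩ (pow_notMem 𝒜 hxf k), isUnit_mk_iff] at h1
    exact mul_notMem 𝒜 hxf h1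
  · intro hx
    have hxf : x ∈ Proj.basicOpen 𝒜 f := fun hc => hx (x.asHomogeneousIdeal.toIdeal.mul_mem_right _ hc)
    refine (mem_basicOpen_iff_isUnit_fval 𝒜 r ⟨x, hxf⟩).2 ?_
    rw [h ⟨x, hxf⟩ (pow_notMem 𝒜 hxf k), isUnit_mk_iff]
    exact fun hc => hx (x.asHomogeneousIdeal.toIdeal.mul_mem_left _ hc)

section value

variable [SetLike.GradedSMul 𝒜 ℳ]

/-- The value of a section of `M(n)~` at a point, in the localized module. -/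
def sval {n : ℤ} {U : (Proj 𝒜).Opens} (s : Γ(tilde 𝒜 ℳ n, U)) (x : U) : LocMod 𝒜 (M := M) x.1 :=
  ((show sect 𝒜 ℳ n (op U) from s).1 x : tildeAt 𝒜 ℳ n x.1)

theorem sval_ext {n : ℤ} {U : (Proj 𝒜).Opens} {s t : Γ(tilde 𝒜 ℳ n, U)}
    (h : ∀ x : U, sval 𝒜 ℳ s x = sval 𝒜 ℳ t x) : s = t :=
  sect_ext 𝒜 ℳ h

theorem sval_zero {n : ℤ} {U : (Proj 𝒜).Opens} (x : U) :
    sval 𝒜 ℳ (0 : Γ(tilde 𝒜 ℳ n, U)) x = 0 := rfl

theorem sval_map {n : ℤ} {U V : (Proj 𝒜).Opens} (h : V ≤ U) (s : Γ(tilde 𝒜 ℳ n, U)) (x : V) :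
    sval 𝒜 ℳ ((tilde 𝒜 ℳ n).presheaf.map (homOfLE h).op s) x = sval 𝒜 ℳ s ⟨x.1, h x.2⟩ := rfl

theorem sval_smul {n : ℤ} {U : (Proj 𝒜).Opens} (r : Γ(Proj 𝒜, U)) (s : Γ(tilde 𝒜 ℳ n, U)) (x : U) :
    sval 𝒜 ℳ (r • s) x = fval 𝒜 r x • sval 𝒜 ℳ s x := rfl

theorem fval_map {U V : (Proj 𝒜).Opens} (h : V ≤ U) (r : Γ(Proj 𝒜, U)) (x : V) :
    fval 𝒜 ((Proj 𝒜).presheaf.map (homOfLE h).op r) x = fval 𝒜 r ⟨x.1, h x.2⟩ := rfl

theorem fval_pow {U : (Proj 𝒜).Opens} (r : Γ(Proj 𝒜, U)) (k : ℕ) (x : U) :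
    fval 𝒜 (r ^ k) x = fval 𝒜 r x ^ k := by
  induction k with
  | zero => rw [pow_zero, pow_zero]; exact HomogeneousLocalization.val_one
  | succ k ih =>
    rw [pow_succ, pow_succ, ← ih]
    exact HomogeneousLocalization.val_mul _ _

variable [DirectSum.Decomposition ℳ]

/-- `M(n)~` is quasi-coherent. -/
theorem tilde_isQuasicoherent (n : ℤ) : (tilde 𝒜 ℳ n).IsQuasicoherent := by
  classical
  let I : Type u := Σ d : ℕ, 𝒜 (d + 1)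
  refine isQuasicoherent_of_basicOpen_localization (tilde 𝒜 ℳ n)
    (fun i : I => Proj.basicOpen 𝒜 (i.2 : A)) ?_
    (fun i => Proj.isAffineOpen_basicOpen 𝒜 _ i.2.2 i.1.succ_pos) ?_ ?_
  · rw [TopologicalSpace.IsOpenCover]
    refine Proj.iSup_basicOpen_eq_top 𝒜 _ ?_
    intro x hx
    rw [← DirectSum.sum_support_decompose 𝒜 x]
    refine Ideal.sum_mem _ fun d _ => ?_
    rcases Nat.eq_zero_or_pos d with rfl | hd
    · rw [show (DirectSum.decompose 𝒜 x 0 : A) = 0 from (HomogeneousIdeal.mem_irrelevant_iff 𝒜 x).1 hx]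
      exact zero_mem _
    · exact Ideal.subset_span ⟨⟨d - 1, ⟨_, (Nat.succ_pred_eq_of_pos hd) ▸ (DirectSum.decompose 𝒜 x d).2⟩⟩, rfl⟩
  · rintro ⟨d, f, hf⟩ r s hs
    obtain ⟨k, a, ha, hr⟩ := exists_fval_eq 𝒜 d.succ_pos hf r
    obtain ⟨l, i, m, hm, -, hσ⟩ := exists_eq_fracAt 𝒜 ℳ d.succ_pos hf s
    have hbo := basicOpen_eq_of_fval 𝒜 r hr
    obtain ⟨N, hN⟩ : ∃ N : ℕ, (f * a) ^ N • m = 0 := by
      refine exists_pow_smul_eq_zero 𝒜 ℳ (show 0 < d + 1 + k * (d + 1) by omega)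
        (SetLike.mul_mem_graded hf ha) hm fun x hx => ?_
      have hxr : x ∈ (Proj 𝒜).basicOpen r := by rw [hbo]; exact hx
      have hxf := (Proj 𝒜).basicOpen_le r hxr
      have h1 := congrArg (fun t => sval 𝒜 ℳ t ⟨x, hxr⟩) hs
      rw [sval_map, sval_zero] at h1
      refine (fracAt_eq_zero_iff 𝒜 x m (f ^ l) (pow_notMem 𝒜 hxf l)).1 ?_
      exact (hσ ⟨x, hxf⟩ _).symm.trans h1
    refine ⟨N, sval_ext 𝒜 ℳ fun x => ?_⟩
    rw [sval_smul, fval_pow, hr x (pow_notMem 𝒜 x.2 k), sval_zero, Localization.mk_pow,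
      show sval 𝒜 ℳ s x = fracAt 𝒜 x.1 m (f ^ l) (pow_notMem 𝒜 x.2 l) from hσ x _]
    rw [fracAt, LocalizedModule.mk_smul_mk]
    refine (fracAt_eq_zero_iff 𝒜 x.1 _ _ (mul_notMem 𝒜 (pow_notMem 𝒜 (pow_notMem 𝒜 x.2 k) N)
      (pow_notMem 𝒜 x.2 l))).2 ⟨f ^ N, pow_notMem 𝒜 x.2 N, ?_⟩
    rw [← mul_smul, ← mul_pow, hN]
  · rintro ⟨d, f, hf⟩ r s'
    obtain ⟨k, a, ha, hr⟩ := exists_fval_eq 𝒜 d.succ_pos hf r
    have hbo := basicOpen_eq_of_fval 𝒜 r hr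
    obtain ⟨l, i, m, hm, hi, hσ⟩ := exists_eq_fracAt 𝒜 ℳ (show 0 < d + 1 + k * (d + 1) by omega)
      (SetLike.mul_mem_graded hf ha) ((tilde 𝒜 ℳ n).presheaf.map (homOfLE hbo.ge).op s')
    have hdeg : (i : ℤ) = ((l + k * l) * (d + 1) : ℕ) + n := by
      rw [hi]; push_cast; ring
    refine ⟨l, secOf 𝒜 ℳ hm (SetLike.pow_mem_graded (l + k * l) hf)
      (V := Proj.basicOpen 𝒜 f) (fun x hx => pow_notMem 𝒜 hx _) hdeg, sval_ext 𝒜 ℳ fun x => ?_⟩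
    have hxf : x.1 ∈ Proj.basicOpen 𝒜 f := (Proj 𝒜).basicOpen_le r x.2
    have hxfa : f * a ∉ x.1.asHomogeneousIdeal :=
      (show x.1 ∈ Proj.basicOpen 𝒜 (f * a) from hbo ▸ x.2)
    have e : sval 𝒜 ℳ s' x = fracAt 𝒜 x.1 m ((f * a) ^ l) (pow_notMem 𝒜 hxfa l) :=
      hσ ⟨x.1, hxfa⟩ _
    rw [sval_map, sval_smul, e, fval_map, fval_pow, hr ⟨x.1, hxf⟩ (pow_notMem 𝒜 hxf k), Localization.mk_pow,
      fracAt, LocalizedModule.mk_smul_mk]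
    refine fracAt_eq_of 𝒜 x.1 (pow_notMem 𝒜 hxf _)
      (mul_notMem 𝒜 (pow_notMem 𝒜 (pow_notMem 𝒜 hxf k) l) (pow_notMem 𝒜 hxfa l)) ?_
    change ((f ^ k) ^ l * (f * a) ^ l) • m = f ^ (l + k * l) • (a ^ l) • m
    rw [← mul_smul]
    congr 1
    ring

end value

end Groth.Agent.H11Tilde
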