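import Groth.Prelude.Def_ProjUP
import Groth.Agent.H06Mod.StalkPullback
import Groth.Agent.H11Tilde.ModLoc
import Groth.Agent.H11Tilde.QCoh

/-!
# Generators of modules of rank one, and their inverse images
-/

set_option autoImplicit false
set_option linter.style.haveILetI false

noncomputable section

universe u

open CategoryTheory CategoryTheory.Limits AlgebraicGeometry Opposite TopologicalSpace
open scoped TensorProduct

namespace Groth.Agent.H11Tilde

variable {X : Scheme.{u}}

/-- A section freely generating `M` at every point of its open. -/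
def IsGen (M : X.Modules) {V : X.Opens} (e : Γ(M, V)) : Prop :=
  ∀ (y : X) (hy : y ∈ V), Function.Bijective fun r : X.presheaf.stalk y => r • M.presheaf.germ V y hy e

theorem IsGen.res {M : X.Modules} {V W : X.Opens} {e : Γ(M, V)} (he : IsGen M e) (h : W ≤ V) :
    IsGen M (M.presheaf.map (homOfLE h).op e) := fun y hy => by
  rw [TopCat.Presheaf.germ_res_apply]
  exact he y (h hy)

theorem IsGen.bijective {M : X.Modules} {V : X.Opens} {e : Γ(M, V)} (he : IsGen M e) {W : X.Opens} (h : W ≤ V) :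
    Function.Bijective fun r : Γ(X, W) => r • M.presheaf.map (homOfLE h).op e := by
  have he' := he.res h
  generalize M.presheaf.map (homOfLE h).op e = g at he'
  have hinj : ∀ {T : X.Opens} (hT : T ≤ W) (r r' : Γ(X, T)),
      r • M.presheaf.map (homOfLE hT).op g = r' • M.presheaf.map (homOfLE hT).op g → r = r' := by
    intro T hT r r' hr
    refine TopCat.Presheaf.section_ext ⟨X.presheaf, X.sheaf.property⟩ T r r' fun y hy => (he'.res hT y hy).1 ?_
    have := congrArg (M.presheaf.germ T y hy) hr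
    rw [H06Mod.germ_smul, H06Mod.germ_smul] at this
    exact this
  constructor
  · intro r r' hr
    refine hinj le_rfl r r' ?_
    rwa [H10Coh.mres_self]
  intro t
  have loc : ∀ y : W, ∃ (T : X.Opens) (hT : T ≤ W) (r : Γ(X, T)), y.1 ∈ T ∧
      r • M.presheaf.map (homOfLE hT).op g = M.presheaf.map (homOfLE hT).op t := fun y => by
    obtain ⟨c, hc⟩ := (he' y.1 y.2).2 (M.presheaf.germ W y.1 y.2 t)
    obtain ⟨T₀, hyT₀, r, rfl⟩ := X.presheaf.exists_germ_eq c
    have hc' : M.presheaf.germ (T₀ ⊓ W) y.1 ⟨hyT₀, y.2⟩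
        (X.presheaf.map (homOfLE (inf_le_left : T₀ ⊓ W ≤ T₀)).op r •
          M.presheaf.map (homOfLE (inf_le_right : T₀ ⊓ W ≤ W)).op g) =
        M.presheaf.germ (T₀ ⊓ W) y.1 ⟨hyT₀, y.2⟩ (M.presheaf.map (homOfLE (inf_le_right : T₀ ⊓ W ≤ W)).op t) := by
      rw [H06Mod.germ_smul, TopCat.Presheaf.germ_res_apply, TopCat.Presheaf.germ_res_apply,
        TopCat.Presheaf.germ_res_apply]
      exact hc
    obtain ⟨T, hyT, i, j, hT⟩ := M.presheaf.germ_eq y.1 _ _ _ _ hc'
    refine ⟨T, i.le.trans inf_le_right, X.presheaf.map (homOfLE (i.le.trans inf_le_left)).op r, hyT, ?_⟩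
    rw [Subsingleton.elim j i] at hT
    rw [show i = homOfLE i.le from rfl, Scheme.Modules.map_smul, H10Coh.mres_mres, H10Coh.mres_mres,
      H10Coh.rres_rres] at hT
    exact hT
  choose T hT r hyT hr using loc
  have hcompat : TopCat.Presheaf.IsCompatible X.presheaf T r := by
    intro a b
    refine hinj (T := T a ⊓ T b) (inf_le_left.trans (hT a)) _ _ ?_
    have ha := congrArg (M.presheaf.map (homOfLE (inf_le_left : T a ⊓ T b ≤ T a)).op) (hr a)
    have hb := congrArg (M.presheaf.map (homOfLE (inf_le_right : T a ⊓ T b ≤ T b)).op) (hr b)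
    rw [Scheme.Modules.map_smul, H10Coh.mres_mres, H10Coh.mres_mres] at ha hb
    exact ha.trans hb.symm
  obtain ⟨s, hs, -⟩ := TopCat.Sheaf.existsUnique_gluing' ⟨X.presheaf, X.sheaf.property⟩ T W
    (fun y => homOfLE (hT y)) (fun y hy => Opens.mem_iSup.2 ⟨⟨y, hy⟩, hyT ⟨y, hy⟩⟩) r hcompat
  refine ⟨s, eq_of_locally _ _ fun y hy => ⟨T ⟨y, hy⟩, hT _, hyT _, ?_⟩⟩
  change M.presheaf.map (homOfLE (hT ⟨y, hy⟩)).op (s • g) = _
  rw [Scheme.Modules.map_smul, show X.presheaf.map (homOfLE (hT ⟨y, hy⟩)).op s = r ⟨y, hy⟩ from hs _]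
  exact hr _

theorem isGen_of_bijective {M : X.Modules} {V : X.Opens} {e : Γ(M, V)}
    (h : ∀ (W : X.Opens) (hW : W ≤ V), Function.Bijective fun r : Γ(X, W) => r • M.presheaf.map (homOfLE hW).op e) :
    IsGen M e := by
  intro y hy
  constructor
  · intro c c' hcc
    obtain ⟨T, hyT, a, rfl⟩ := X.presheaf.exists_germ_eq c
    obtain ⟨T', hyT', a', rfl⟩ := X.presheaf.exists_germ_eq c'
    let W := T ⊓ T' ⊓ V
    have hyW : y ∈ W := ⟨⟨hyT, hyT'⟩, hy⟩
    have hW₁ : W ≤ T := inf_le_left.trans inf_le_left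
    have hW₂ : W ≤ T' := inf_le_left.trans inf_le_right
    have hW₃ : W ≤ V := inf_le_right
    have hcc' : M.presheaf.germ W y hyW (X.presheaf.map (homOfLE hW₁).op a •
          M.presheaf.map (homOfLE hW₃).op e) =
        M.presheaf.germ W y hyW (X.presheaf.map (homOfLE hW₂).op a' •
          M.presheaf.map (homOfLE hW₃).op e) := by
      rw [H06Mod.germ_smul, H06Mod.germ_smul, TopCat.Presheaf.germ_res_apply, TopCat.Presheaf.germ_res_apply,
        TopCat.Presheaf.germ_res_apply]
      exact hcc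
    obtain ⟨S, hyS, i, j, hS⟩ := M.presheaf.germ_eq y hyW hyW _ _ hcc'
    rw [Subsingleton.elim j i, show i = homOfLE i.le from rfl, Scheme.Modules.map_smul, Scheme.Modules.map_smul,
      H10Coh.mres_mres, H10Coh.rres_rres, H10Coh.rres_rres] at hS
    have := congrArg (X.presheaf.germ S y hyS) ((h S (i.le.trans inf_le_right)).1 hS)
    rwa [TopCat.Presheaf.germ_res_apply, TopCat.Presheaf.germ_res_apply] at this
  · intro m
    obtain ⟨T, hyT, t, rfl⟩ := M.presheaf.exists_germ_eq m
    obtain ⟨r, hr⟩ := (h (T ⊓ V) inf_le_right).2 (M.presheaf.map (homOfLE inf_le_left).op t)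
    have := congrArg (M.presheaf.germ (T ⊓ V) y ⟨hyT, hy⟩) hr
    rw [H06Mod.germ_smul, TopCat.Presheaf.germ_res_apply, TopCat.Presheaf.germ_res_apply] at this
    exact ⟨_, this⟩

/-- At a point of a generator, a germ generates iff its coefficient is a unit. -/
theorem isUnit_of_bijective_smul {M : X.Modules} {V : X.Opens} {e : Γ(M, V)} (he : IsGen M e) {y : X} (hy : y ∈ V)
    {c : X.presheaf.stalk y} (h : Function.Surjective fun r : X.presheaf.stalk y => r • (c • M.presheaf.germ V y hy e)) :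
    IsUnit c := by
  obtain ⟨d, hd⟩ := h (M.presheaf.germ V y hy e)
  refine IsUnit.of_mul_eq_one (a := c) d ((he y hy).1 ?_)
  change (c * d) • _ = (1 : X.presheaf.stalk y) • _
  rw [one_smul, mul_comm, ← smul_smul]
  exact hd

/-- A map sending generators to generators is an isomorphism. -/
theorem isIso_of_gen {M N : X.Modules} (φ : M ⟶ N)
    (h : ∀ x : X, ∃ (V : X.Opens) (e : Γ(M, V)), x ∈ V ∧ IsGen M e ∧ IsGen N (φ.app V e)) : IsIso φ := by
  have key : ∀ (V : X.Opens) (e : Γ(M, V)), IsGen M e → IsGen N (φ.app V e) → ∀ W, W ≤ V →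
      Function.Bijective (φ.app W) := by
    intro V e he he' W hW
    refine (Function.Bijective.of_comp_iff (φ.app W) (he.bijective hW)).1 ?_
    refine Eq.mpr (congrArg Function.Bijective (funext fun r => ?_)) (he'.bijective hW)
    change φ.app W (r • M.presheaf.map (homOfLE hW).op e) = r • N.presheaf.map (homOfLE hW).op (φ.app V e)
    rw [Scheme.Modules.Hom.app_smul, app_map_apply]
  have : Mono φ := mono_of_injective φ fun W s hs x hx => by
    obtain ⟨V, e, hxV, he, he'⟩ := h x
    refine ⟨W ⊓ V, inf_le_left, ⟨hx, hxV⟩, (key V e he he' _ inf_le_right).1 ?_⟩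
    rw [app_map_apply, hs, map_zero, map_zero]
  have : Epi φ := epi_of_locally_surjective φ fun W t x hx => by
    obtain ⟨V, e, hxV, he, he'⟩ := h x
    exact ⟨W ⊓ V, inf_le_left, ⟨hx, hxV⟩, (key V e he he' _ inf_le_right).2 _⟩
  exact isIso_of_mono_of_epi φ

/-- Morphisms given on generators glue. -/
theorem exists_hom_of_gen {M N : X.Modules} {J : Type*} (V : J → X.Opens) (hV : ∀ x, ∃ j, x ∈ V j)
    (e : ∀ j, Γ(M, V j)) (he : ∀ j, IsGen M (e j)) (s : ∀ j, Γ(N, V j))
    (hes : ∀ i j (u : Γ(X, V i ⊓ V j)),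
      M.presheaf.map (homOfLE inf_le_left).op (e i) = u • M.presheaf.map (homOfLE inf_le_right).op (e j) →
      N.presheaf.map (homOfLE inf_le_left).op (s i) = u • N.presheaf.map (homOfLE inf_le_right).op (s j)) :
    ∃ φ : M ⟶ N, ∀ j, φ.app (V j) (e j) = s j := by
  let Good : ∀ W : X.Opens, Γ(M, W) → Γ(N, W) → Prop := fun W t σ =>
    ∀ (T : X.Opens) (hT : T ≤ W) (j : J) (hj : T ≤ V j) (c : Γ(X, T)),
      M.presheaf.map (homOfLE hT).op t = c • M.presheaf.map (homOfLE hj).op (e j) →
      N.presheaf.map (homOfLE hT).op σ = c • N.presheaf.map (homOfLE hj).op (s j)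
  have cons : ∀ (T : X.Opens) (i j : J) (hi : T ≤ V i) (hj : T ≤ V j) (c d : Γ(X, T)),
      c • M.presheaf.map (homOfLE hi).op (e i) = d • M.presheaf.map (homOfLE hj).op (e j) →
      c • N.presheaf.map (homOfLE hi).op (s i) = d • N.presheaf.map (homOfLE hj).op (s j) := by
    intro T i j hi hj c d h
    obtain ⟨u, hu⟩ := ((he j).bijective (inf_le_right : V i ⊓ V j ≤ V j)).2
      (M.presheaf.map (homOfLE inf_le_left).op (e i))
    have hs := hes i j u hu.symm
    have hu' := congrArg (M.presheaf.map (homOfLE (le_inf hi hj)).op) hu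
    have hs' := congrArg (N.presheaf.map (homOfLE (le_inf hi hj)).op) hs
    rw [H10Coh.mres_mres, Scheme.Modules.map_smul, H10Coh.mres_mres] at hu' hs'
    rw [hs', smul_smul]
    rw [← hu', smul_smul] at h
    exact congrArg (· • _) (((he j).bijective hj).1 h)
  have good_unique : ∀ W t σ σ', Good W t σ → Good W t σ' → σ = σ' := by
    intro W t σ σ' h h'
    refine eq_of_locally _ _ fun x hx => ?_
    obtain ⟨j, hj⟩ := hV x
    obtain ⟨c, hc⟩ := ((he j).bijective (inf_le_right : W ⊓ V j ≤ V j)).2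
      (M.presheaf.map (homOfLE inf_le_left).op t)
    exact ⟨W ⊓ V j, inf_le_left, ⟨hx, hj⟩, (h _ _ j _ c hc.symm).trans (h' _ _ j _ c hc.symm).symm⟩
  have good_exists : ∀ W t, ∃ σ, Good W t σ := by
    intro W t
    choose c hc using fun j => ((he j).bijective (inf_le_right : W ⊓ V j ≤ V j)).2
      (M.presheaf.map (homOfLE inf_le_left).op t)
    let σj : ∀ j, Γ(N, W ⊓ V j) := fun j =>
      c j • N.presheaf.map (homOfLE (inf_le_right : W ⊓ V j ≤ V j)).op (s j)
    have hcompat : TopCat.Presheaf.IsCompatible N.presheaf (fun j => W ⊓ V j) σj := by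
      intro i j
      change N.presheaf.map (homOfLE (inf_le_left : (W ⊓ V i) ⊓ (W ⊓ V j) ≤ W ⊓ V i)).op (σj i) =
        N.presheaf.map (homOfLE (inf_le_right : (W ⊓ V i) ⊓ (W ⊓ V j) ≤ W ⊓ V j)).op (σj j)
      rw [Scheme.Modules.map_smul, Scheme.Modules.map_smul, H10Coh.mres_mres, H10Coh.mres_mres]
      refine cons _ i j _ _ _ _ ?_
      have hi := congrArg (M.presheaf.map
        (homOfLE (inf_le_left : (W ⊓ V i) ⊓ (W ⊓ V j) ≤ W ⊓ V i)).op) (hc i)
      have hj := congrArg (M.presheaf.map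
        (homOfLE (inf_le_right : (W ⊓ V i) ⊓ (W ⊓ V j) ≤ W ⊓ V j)).op) (hc j)
      rw [Scheme.Modules.map_smul, H10Coh.mres_mres, H10Coh.mres_mres] at hi hj
      exact hi.trans hj.symm
    obtain ⟨σ, hσ, -⟩ := TopCat.Sheaf.existsUnique_gluing' ⟨N.presheaf, N.isSheaf⟩ (fun j => W ⊓ V j) W
      (fun j => homOfLE inf_le_left)
      (fun x hx => by obtain ⟨j, hj⟩ := hV x; exact Opens.mem_iSup.2 ⟨j, hx, hj⟩) σj hcompat
    refine ⟨σ, fun T hT j hj d hd => ?_⟩
    have h1 := congrArg (N.presheaf.map (homOfLE (le_inf hT hj)).op) (hσ j)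
    have h2 := congrArg (M.presheaf.map (homOfLE (le_inf hT hj)).op) (hc j)
    change N.presheaf.map _ (N.presheaf.map (homOfLE (inf_le_left : W ⊓ V j ≤ W)).op σ) =
      N.presheaf.map _ (σj j) at h1
    rw [Scheme.Modules.map_smul, H10Coh.mres_mres, H10Coh.mres_mres] at h1 h2
    rw [h1]
    exact cons _ j j _ _ _ _ (h2.trans hd)
  choose f hf using good_exists
  have add : ∀ W t t', f W (t + t') = f W t + f W t' := by
    intro W t t'
    refine good_unique W (t + t') _ _ (hf _ _) fun T hT j hj d hd => ?_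
    obtain ⟨a, ha⟩ := ((he j).bijective hj).2 (M.presheaf.map (homOfLE hT).op t)
    obtain ⟨b, hb⟩ := ((he j).bijective hj).2 (M.presheaf.map (homOfLE hT).op t')
    rw [map_add, hf W t T hT j hj a ha.symm, hf W t' T hT j hj b hb.symm, ← add_smul]
    refine congrArg (· • _) (((he j).bijective hj).1 ?_)
    change (a + b) • _ = d • _
    rw [← hd, map_add, add_smul]
    exact congrArg₂ (· + ·) ha hb
  have smul : ∀ (W : X.Opens) (r : Γ(X, W)) t, f W (r • t) = r • f W t := by
    intro W r t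
    refine good_unique W (r • t) _ _ (hf _ _) fun T hT j hj d hd => ?_
    obtain ⟨a, ha⟩ := ((he j).bijective hj).2 (M.presheaf.map (homOfLE hT).op t)
    rw [Scheme.Modules.map_smul, hf W t T hT j hj a ha.symm, smul_smul]
    refine congrArg (· • _) (((he j).bijective hj).1 ?_)
    change (_ * a) • _ = d • _
    rw [← hd, Scheme.Modules.map_smul, ← smul_smul]
    exact congrArg _ ha
  have nat : ∀ (W W' : X.Opens) (h : W' ≤ W) t,
      f W' (M.presheaf.map (homOfLE h).op t) = N.presheaf.map (homOfLE h).op (f W t) := by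
    intro W W' h t
    refine good_unique W' _ _ _ (hf _ _) fun T hT j hj d hd => ?_
    rw [H10Coh.mres_mres] at hd ⊢
    exact hf W t T _ j hj d hd
  let φ : M ⟶ N := ⟨PresheafOfModules.homMk
    { app := fun W => AddCommGrpCat.ofHom (AddMonoidHom.mk' (f W.unop) (add W.unop))
      naturality := fun W W' i => by
        ext t
        exact nat W.unop W'.unop i.unop.le t }
    fun W r t => smul W.unop r t⟩
  refine ⟨φ, fun j => good_unique (V j) (e j) _ _ (hf _ _) fun T hT i hi d hd => ?_⟩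
  refine Eq.trans ?_ (cons T j i hT hi 1 d (by rw [one_smul]; exact hd))
  rw [one_smul]

section pullback

variable {Y : Scheme.{u}} (f : X ⟶ Y) {M : Y.Modules}

attribute [local instance] H06Mod.stalkAlgebra

/-- Inverse images of generators are generators. -/
theorem IsGen.pullSect {U : Y.Opens} {e : Γ(M, U)} (he : IsGen M e) :
    IsGen ((Scheme.Modules.pullback f).obj M) (V := f ⁻¹ᵁ U) (OmegaSh.pullSect f M U e) := by
  intro x hx
  let O := Y.presheaf.stalk (f.base x)
  let m := M.presheaf.germ U (f.base x) hx e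
  let ε : O ≃ₗ[O] M.presheaf.stalk (f.base x) := LinearEquiv.ofBijective (LinearMap.toSpanSingleton O _ m) (he _ hx)
  let η : X.presheaf.stalk x ≃ₗ[X.presheaf.stalk x]
      ((Scheme.Modules.pullback f).obj M).presheaf.stalk x :=
    (TensorProduct.AlgebraTensorModule.rid O (X.presheaf.stalk x) (X.presheaf.stalk x)).symm ≪≫ₗ
      TensorProduct.AlgebraTensorModule.congr (LinearEquiv.refl (X.presheaf.stalk x) (X.presheaf.stalk x)) ε ≪≫ₗ
      H06Mod.pullStalkEquiv f M x
  refine Eq.mpr (congrArg Function.Bijective (funext fun r => ?_)) η.bijective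
  have h1 : η 1 = ((Scheme.Modules.pullback f).obj M).presheaf.germ (f ⁻¹ᵁ U) x hx (OmegaSh.pullSect f M U e) := by
    change H06Mod.pullStalkLin f M x
      ((1 : X.presheaf.stalk x) ⊗ₜ[O] (LinearMap.toSpanSingleton O _ m (1 : O))) = _
    rw [H06Mod.pullStalkLin_tmul, one_smul, LinearMap.toSpanSingleton_apply, one_smul]
    exact H06Mod.pullStalk_germ f M x U hx e
  beta_reduce
  rw [← h1, ← map_smul, smul_eq_mul, mul_one]

end pullback

end Groth.Agent.H11Tilde
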