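import Groth.Prelude.Def_ProjUP
import Groth.Prelude.Def_Omega4
import Groth.Agent.H11Tilde.StalkGen
import Groth.Agent.H11Tilde.ProjHom
import Groth.Agent.H11Tilde.Global
import Groth.Agent.H29Mero.RegularSection
import Mathlib.LinearAlgebra.SymmetricAlgebra.Basic

/-!
# The universal property of `Proj` of a symmetric algebra
-/

set_option autoImplicit false
set_option linter.style.haveILetI false

noncomputable section

universe u

open CategoryTheory CategoryTheory.Limits AlgebraicGeometry Opposite TopologicalSpace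

namespace Groth.Agent.H11Tilde

section gen

variable {X : Scheme.{u}} {L : X.Modules}

theorem IsGen.smul {V : X.Opens} {e : Γ(L, V)} (he : IsGen L e) {c : Γ(X, V)} (hc : IsUnit c) :
    IsGen L (c • e) := fun y hy => by
  obtain ⟨c', hc'⟩ := hc.map (X.presheaf.germ V y hy).hom
  refine Eq.mpr (congrArg Function.Bijective (funext fun r => ?_)) ((he y hy).comp (Units.mulRight c').bijective)
  change r • L.presheaf.germ V y hy (c • e) = (r * (c' : X.presheaf.stalk y)) • L.presheaf.germ V y hy e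
  rw [H06Mod.germ_smul, ← mul_smul, hc']

/-- Near every point one of the generating sections is a generator. -/
theorem exists_isGen_of_generated (hL : PicF.IsInvertible L) {ι : Type*} (v : ι → Γ(L, ⊤))
    (hgen : ProjUP.GeneratedBy L v) (x : X) :
    ∃ (i : ι) (W : X.Opens), x ∈ W ∧ IsGen L (L.presheaf.map (homOfLE (le_top : W ≤ ⊤)).op (v i)) := by
  obtain ⟨V, e, hx, he⟩ := H29Mero.exists_generator hL x
  have he : IsGen L e := he
  choose c hc using fun i => (he.bijective le_rfl).2 (L.presheaf.map (homOfLE (le_top : V ≤ ⊤)).op (v i))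
  have hgerm : ∀ i, L.presheaf.germ ⊤ x trivial (v i) =
      X.presheaf.germ V x hx (c i) • L.presheaf.germ V x hx e := fun i => by
    have h := congrArg (L.presheaf.germ V x hx) (hc i)
    rw [H06Mod.germ_smul, TopCat.Presheaf.germ_res_apply, TopCat.Presheaf.germ_res_apply] at h
    exact h.symm
  obtain ⟨i, hi⟩ : ∃ i, IsUnit (X.presheaf.germ V x hx (c i)) := by
    by_contra hne
    push Not at hne
    have hle : Submodule.span (X.presheaf.stalk x) (Set.range fun i => L.presheaf.germ ⊤ x trivial (v i)) ≤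
        IsLocalRing.maximalIdeal (X.presheaf.stalk x) • ⊤ := by
      refine Submodule.span_le.2 ?_
      rintro _ ⟨i, rfl⟩
      change L.presheaf.germ ⊤ x trivial (v i) ∈ _
      rw [hgerm i]
      exact Submodule.smul_mem_smul ((IsLocalRing.mem_maximalIdeal _).2 (hne i)) trivial
    have he1 : L.presheaf.germ V x hx e ∈ IsLocalRing.maximalIdeal (X.presheaf.stalk x) •
        (⊤ : Submodule (X.presheaf.stalk x) (L.presheaf.stalk x)) := hle ((hgen x).ge trivial)
    obtain ⟨r, hr, hre⟩ : ∃ r ∈ IsLocalRing.maximalIdeal (X.presheaf.stalk x),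
        r • L.presheaf.germ V x hx e = L.presheaf.germ V x hx e := by
      refine Submodule.smul_induction_on (p := fun t => ∃ r ∈ IsLocalRing.maximalIdeal (X.presheaf.stalk x),
        r • L.presheaf.germ V x hx e = t) he1 (fun a ha t _ => ?_) ?_
      · obtain ⟨b, rfl⟩ := (he x hx).2 t
        exact ⟨a * b, Ideal.mul_mem_right _ _ ha, mul_smul _ _ _⟩
      · rintro _ _ ⟨a, ha, rfl⟩ ⟨b, hb, rfl⟩
        exact ⟨a + b, add_mem ha hb, add_smul _ _ _⟩
    have h1 : r = 1 := (he x hx).1 (hre.trans (one_smul _ _).symm)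
    exact (IsLocalRing.maximalIdeal.isMaximal _).ne_top ((Ideal.eq_top_iff_one _).2 (h1 ▸ hr))
  refine ⟨i, X.basicOpen (c i), (X.mem_basicOpen _ x hx).2 hi, ?_⟩
  have hu : IsUnit (X.presheaf.map (homOfLE (X.basicOpen_le (c i))).op (c i)) :=
    X.toRingedSpace.isUnit_res_basicOpen (c i)
  have h := congrArg (L.presheaf.map (homOfLE (X.basicOpen_le (c i))).op) (hc i)
  rw [Scheme.Modules.map_smul, H10Coh.mres_mres, H10Coh.mres_mres] at h
  rw [← h]
  exact (he.res _).smul hu

end gen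

theorem hom_to_Spec_ext {X : Scheme.{u}} {R : CommRingCat.{u}} (q : X ⟶ Spec R) :
    q = X.toSpecΓ ≫ Spec.map ((Scheme.ΓSpecIso R).inv ≫ q.appTop) := by
  refine ext_of_isAffine ?_
  rw [Scheme.Hom.comp_appTop, Scheme.toSpecΓ_appTop, Scheme.ΓSpecIso_naturality, Iso.hom_inv_id_assoc]

theorem pullSect_res {X Y : Scheme.{u}} (f : X ⟶ Y) (M : Y.Modules) {U V : Y.Opens} (e : V ≤ U) (m : Γ(M, U)) :
    OmegaSh.pullSect f M V (M.presheaf.map (homOfLE e).op m) =
      ((Scheme.Modules.pullback f).obj M).presheaf.map (homOfLE (f.preimage_mono e)).op (OmegaSh.pullSect f M U m) :=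
  OmegaSh.pullSect_map f M e m

section algebra

variable {A : Type u} [CommRing A] {S : Type u} [CommRing S] [Algebra A S] (𝒮 : ℕ → Submodule A S) [GradedAlgebra 𝒮]

theorem awayToSection_algebraMap {f : S} (hf : f ∈ 𝒮 1) (a : A) :
    Proj.awayToSection 𝒮 f (HomogeneousLocalization.fromZeroRingHom 𝒮 _ (algebraMap A (𝒮 0) a)) =
      ratio 𝒮 hf (SetLike.algebraMap_mem_graded 𝒮 a) := by
  refine congrArg (Proj.awayToSection 𝒮 f) (HomogeneousLocalization.val_injective _ ?_)
  rw [HomogeneousLocalization.Away.val_mk]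
  exact congrArg (Localization.mk (algebraMap A S a)) (Subtype.ext (pow_zero f).symm)

theorem comp_structureMap {X : Scheme.{u}} (r : X ⟶ Proj 𝒮) (q : X ⟶ Spec (CommRingCat.of A)) {f : S}
    (hf : f ∈ 𝒮 1) (V : X.Opens) (e : V ≤ r ⁻¹ᵁ Proj.basicOpen 𝒮 f)
    (h : ∀ a, r.appLE _ V e (ratio 𝒮 hf (SetLike.algebraMap_mem_graded 𝒮 a)) =
      X.presheaf.map (homOfLE (le_top : V ≤ ⊤)).op (ProjUP.toGlobal q a)) :
    V.ι ≫ r ≫ Proj.toSpecZero 𝒮 ≫ Spec.map (CommRingCat.ofHom (algebraMap A (𝒮 0))) = V.ι ≫ q := by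
  let g := CommRingCat.ofHom (algebraMap A (𝒮 0)) ≫
    CommRingCat.ofHom (HomogeneousLocalization.fromZeroRingHom 𝒮 (.powers f)) ≫ Proj.awayToSection 𝒮 f
  have h1 : (Proj.basicOpen 𝒮 f).ι ≫ Proj.toSpecZero 𝒮 ≫ Spec.map (CommRingCat.ofHom (algebraMap A (𝒮 0))) =
      (Proj.basicOpen 𝒮 f).toSpecΓ ≫ Spec.map g := by
    have hι : (Proj.basicOpen 𝒮 f).ι =
        (Proj.basicOpenIsoSpec 𝒮 f hf one_pos).hom ≫ Proj.awayι 𝒮 f hf one_pos := by
      rw [← Proj.basicOpenIsoSpec_inv_ι, Iso.hom_inv_id_assoc]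
    rw [hι, Category.assoc, Proj.awayι_toSpecZero_assoc, Proj.basicOpenIsoSpec_hom]
    simp only [g, Proj.basicOpenToSpec, Category.assoc, Spec.map_comp]
  rw [← Scheme.Hom.resLE_comp_ι_assoc r e, h1, reassoc_of% (resLE_toSpecΓ r _ V e), ← Spec.map_comp]
  conv_rhs => rw [hom_to_Spec_ext q, ← Scheme.Opens.toSpecΓ_SpecMap_presheaf_map_top_assoc, ← Spec.map_comp]
  congr 2
  ext a
  change r.appLE _ V e (Proj.awayToSection 𝒮 f (HomogeneousLocalization.fromZeroRingHom 𝒮 _ (algebraMap A (𝒮 0) a))) = _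
  rw [awayToSection_algebraMap 𝒮 hf a]
  exact h a

variable {M : Type u} [AddCommGroup M] [Module A M] {ι : M →ₗ[A] S}

/-- Two maps on a symmetric algebra differing by powers of a scalar. -/
theorem scaled_of_isSymmetricAlgebra (hι : ∀ m, ι m ∈ 𝒮 1) (hsym : IsSymmetricAlgebra ι) {R : Type u}
    [CommRing R] (h h' : S →+* R) (u : R) (h0 : ∀ a : A, h (algebraMap A S a) = h' (algebraMap A S a))
    (h1 : ∀ m, h (ι m) = u * h' (ι m)) {k : ℕ} {a : S} (ha : a ∈ 𝒮 k) : h a = u ^ k * h' a := by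
  classical
  let G : Set S := {t | ∃ n, t ∈ 𝒮 n ∧ h t = u ^ n * h' t}
  have hmem : ∀ s, s ∈ AddSubgroup.closure G := fun s => by
    induction s using hsym.induction with
    | algebraMap c => exact AddSubgroup.subset_closure ⟨0, SetLike.algebraMap_mem_graded 𝒮 c, by simp [h0]⟩
    | ι m => exact AddSubgroup.subset_closure ⟨1, hι m, by simp [h1]⟩
    | mul s t hs ht =>
      induction hs using AddSubgroup.closure_induction with
      | mem x hx =>
        induction ht using AddSubgroup.closure_induction with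
        | mem y hy =>
          obtain ⟨n, hn, hx⟩ := hx
          obtain ⟨m, hm, hy⟩ := hy
          exact AddSubgroup.subset_closure ⟨n + m, SetLike.mul_mem_graded hn hm, by
            rw [map_mul, map_mul, hx, hy, pow_add]; ring⟩
        | zero => rw [mul_zero]; exact zero_mem _
        | add y z _ _ h₁ h₂ => rw [mul_add]; exact add_mem h₁ h₂
        | neg y _ h₁ => rw [mul_neg]; exact neg_mem h₁
      | zero => rw [zero_mul]; exact zero_mem _
      | add y z _ _ h₁ h₂ => rw [add_mul]; exact add_mem h₁ h₂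
      | neg y _ h₁ => rw [neg_mul]; exact neg_mem h₁
    | add s t hs ht => exact add_mem hs ht
  have key : ∀ s ∈ AddSubgroup.closure G,
      h (GradedRing.proj 𝒮 k s) = u ^ k * h' (GradedRing.proj 𝒮 k s) := fun s hs => by
    induction hs using AddSubgroup.closure_induction with
    | mem t ht =>
      obtain ⟨n, hn, ht⟩ := ht
      rw [GradedRing.proj_apply]
      by_cases hnk : n = k
      · subst hnk; rw [DirectSum.decompose_of_mem_same 𝒮 hn]; exact ht
      · rw [DirectSum.decompose_of_mem_ne 𝒮 hn hnk, map_zero, map_zero, mul_zero]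
    | zero => simp
    | add y z _ _ h₁ h₂ => rw [map_add, map_add, map_add, h₁, h₂, mul_add]
    | neg y _ h₁ => rw [map_neg, map_neg, map_neg, h₁, mul_neg]
  have hk := key a (hmem a)
  rwa [GradedRing.proj_apply, DirectSum.decompose_of_mem_same 𝒮 ha] at hk

theorem globalSec_eq_ratio_smul {f : S} (hf : f ∈ 𝒮 1) {a : S} (ha : a ∈ 𝒮 1) :
    (GrTwist.twist 𝒮 1).presheaf.map (homOfLE (le_top : Proj.basicOpen 𝒮 f ≤ ⊤)).op (globalSec 𝒮 ha) =
      ratio 𝒮 hf ha •
        (GrTwist.twist 𝒮 1).presheaf.map (homOfLE (le_top : Proj.basicOpen 𝒮 f ≤ ⊤)).op (globalSec 𝒮 hf) := by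
  refine sval_ext 𝒮 𝒮 fun x => ?_
  erw [sval_smul, fval_ratio]
  change (Localization.mk a ⟨1, _⟩ : GrTwist.Loc 𝒮 x.1) = Localization.mk a ⟨f ^ 1, _⟩ * Localization.mk f ⟨1, _⟩
  rw [Localization.mk_mul]
  exact Localization.mk_eq_mk_iff.2 (Localization.r_iff_exists.2 ⟨1, by simp [mul_comm]⟩)

theorem isGen_globalSec {f : S} (hf : f ∈ 𝒮 1) :
    IsGen (GrTwist.twist 𝒮 1)
      ((GrTwist.twist 𝒮 1).presheaf.map (homOfLE (le_top : Proj.basicOpen 𝒮 f ≤ ⊤)).op (globalSec 𝒮 hf)) :=
  isGen_of_bijective fun W hW => by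
    refine Eq.mpr (congrArg Function.Bijective (funext fun r => ?_)) (bijective_smul_globalSec 𝒮 hf hW)
    rw [H10Coh.mres_mres]
    rfl

/-- The universal property: existence. -/
theorem exists_toProj (hι : ∀ m, ι m ∈ 𝒮 1) (hsym : IsSymmetricAlgebra ι) {X : Scheme.{u}}
    (q : X ⟶ Spec (CommRingCat.of A)) (L : X.Modules) (hL : PicF.IsInvertible L)
    (v : M →+ ProjUP.Γm L) (hv : ∀ (a : A) (m : M), v (a • m) = ProjUP.toGlobal q a • v m)
    (hgen : ProjUP.GeneratedBy L v) :
    ∃ (r : X ⟶ Proj 𝒮) (_ : r ≫ Proj.toSpecZero 𝒮 ≫ Spec.map (CommRingCat.ofHom (algebraMap A (𝒮 0))) = q)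
      (τ : (Scheme.Modules.pullback r).obj (GrTwist.twist 𝒮 1) ≅ L),
      ∀ m : M, τ.hom.app ⊤ (ProjUP.pullSec r (GrTwist.twist 𝒮 1) (globalSec 𝒮 (hι m))) = v m := by
  classical
  let J : Type u := {p : M × X.Opens // IsGen L (L.presheaf.map (homOfLE (le_top : p.2 ≤ ⊤)).op (v p.1))}
  let s : ∀ j : J, Γ(L, j.1.2) := fun j => L.presheaf.map (homOfLE le_top).op (v j.1.1)
  choose c hc using fun (j : J) (m : M) => (j.2.bijective le_rfl).2 (L.presheaf.map (homOfLE (le_top : j.1.2 ≤ ⊤)).op (v m))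
  have hc : ∀ j m, c j m • s j = L.presheaf.map (homOfLE le_top).op (v m) := fun j m => by
    have h := hc j m
    rwa [H10Coh.mres_mres] at h
  have inj : ∀ (j : J) {W : X.Opens} (hW : W ≤ j.1.2) {a b : Γ(X, W)},
      a • L.presheaf.map (homOfLE hW).op (s j) = b • L.presheaf.map (homOfLE hW).op (s j) → a = b :=
    fun j W hW a b h => (IsGen.bijective j.2 hW).1 h
  have inj' : ∀ (j : J) {a b : Γ(X, j.1.2)}, a • s j = b • s j → a = b := fun j a b h => by
    refine inj j le_rfl ?_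
    rwa [H10Coh.mres_self]
  let θ : ∀ j : J, A →+* Γ(X, j.1.2) := fun j =>
    (X.presheaf.map (homOfLE le_top).op).hom.comp (ProjUP.toGlobal q)
  letI alg : ∀ j : J, Algebra A Γ(X, j.1.2) := fun j => (θ j).toAlgebra
  let g : ∀ j : J, M →ₗ[A] Γ(X, j.1.2) := fun j =>
    { toFun := c j
      map_add' := fun a b => inj' j (by rw [add_smul, hc, hc, hc, ← map_add, ← map_add])
      map_smul' := fun a m => inj' j (by
        change c j (a • m) • s j = (θ j a * c j m) • s j
        rw [mul_smul, hc, hc, hv, Scheme.Modules.map_smul]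
        rfl) }
  let h : ∀ j : J, S →+* Γ(X, j.1.2) := fun j => (hsym.lift (g j)).toRingHom
  have h_ι : ∀ j m, h j (ι m) = c j m := fun j m => hsym.lift_eq (g j) m
  have h_alg : ∀ j a, h j (algebraMap A S a) = θ j a := fun j a => (hsym.lift (g j)).commutes a
  let d : HomData 𝒮 X :=
    { J := J
      V := fun j => j.1.2
      cover := fun x => by
        obtain ⟨m, W, hx, hW⟩ := exists_isGen_of_generated hL v hgen x
        exact ⟨⟨(m, W), hW⟩, hx⟩
      f := fun j => ι j.1.1
      deg := fun j => hι _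
      h := h
      h_one := fun j => by
        rw [h_ι]
        exact inj' j ((hc j _).trans (one_smul _ _).symm)
      trans := fun i j k a ha => by
        refine scaled_of_isSymmetricAlgebra 𝒮 hι hsym ((X.presheaf.map _).hom.comp (h j))
          ((X.presheaf.map (homOfLE (inf_le_left : i.1.2 ⊓ j.1.2 ≤ i.1.2)).op).hom.comp (h i)) _ (fun b => ?_)
          (fun m => ?_) ha
        · change X.presheaf.map _ (h j (algebraMap A S b)) = X.presheaf.map _ (h i (algebraMap A S b))
          rw [h_alg, h_alg]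
          change X.presheaf.map _ (X.presheaf.map _ (ProjUP.toGlobal q b)) =
            X.presheaf.map _ (X.presheaf.map _ (ProjUP.toGlobal q b))
          rw [H10Coh.rres_rres, H10Coh.rres_rres]
        · change X.presheaf.map (homOfLE (inf_le_right : i.1.2 ⊓ j.1.2 ≤ j.1.2)).op (h j (ι m)) =
            X.presheaf.map (homOfLE (inf_le_right : i.1.2 ⊓ j.1.2 ≤ j.1.2)).op (h j (ι i.1.1)) *
              X.presheaf.map (homOfLE (inf_le_left : i.1.2 ⊓ j.1.2 ≤ i.1.2)).op (h i (ι m))
          rw [h_ι, h_ι, h_ι]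
          refine inj j inf_le_right ?_
          rw [mul_comm, mul_smul, ← Scheme.Modules.map_smul, ← Scheme.Modules.map_smul, hc, hc,
            H10Coh.mres_mres, H10Coh.mres_mres]
          change _ = _ • L.presheaf.map _ (v i.1.1)
          have := congrArg (L.presheaf.map (homOfLE (inf_le_left : i.1.2 ⊓ j.1.2 ≤ i.1.2)).op) (hc i m)
          rw [Scheme.Modules.map_smul, H10Coh.mres_mres, H10Coh.mres_mres] at this
          exact this.symm }
  obtain ⟨r, hr⟩ := d.exists_hom
  let P := (Scheme.Modules.pullback r).obj (GrTwist.twist 𝒮 1)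
  let e₀ : ∀ j : J, Γ(P, r ⁻¹ᵁ Proj.basicOpen 𝒮 (ι j.1.1)) := fun j =>
    OmegaSh.pullSect r (GrTwist.twist 𝒮 1) _
      ((GrTwist.twist 𝒮 1).presheaf.map (homOfLE (le_top : Proj.basicOpen 𝒮 (ι j.1.1) ≤ ⊤)).op
        (globalSec 𝒮 (hι j.1.1)))
  let e : ∀ j : J, Γ(P, j.1.2) := fun j => P.presheaf.map (homOfLE (d.le_preimage hr j)).op (e₀ j)
  have he : ∀ j, IsGen P (e j) := fun j => ((isGen_globalSec 𝒮 (hι j.1.1)).pullSect r).res _
  have hsec : ∀ (j : J) (m : M), P.presheaf.map (homOfLE (le_top : j.1.2 ≤ ⊤)).op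
      (ProjUP.pullSec r (GrTwist.twist 𝒮 1) (globalSec 𝒮 (hι m))) = c j m • e j := fun j m => by
    have h2 := congrArg (fun z => P.presheaf.map (homOfLE (d.le_preimage hr j)).op
      (OmegaSh.pullSect r (GrTwist.twist 𝒮 1) _ z)) (globalSec_eq_ratio_smul 𝒮 (hι j.1.1) (hι m))
    beta_reduce at h2
    rw [pullSect_res, H10Coh.mres_mres, OmegaSh.pullSect_smul, Scheme.Modules.map_smul] at h2
    rw [← h_ι j m, ← d.appLE_ratio hr j (hι m)]
    exact h2
  have hcov : ∀ x : X, ∃ j : J, x ∈ j.1.2 := d.cover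
  obtain ⟨φ, hφ⟩ := exists_hom_of_gen (N := L) (fun j : J => j.1.2) hcov e he s fun i j w hw => by
    have h1 := hsec j i.1.1
    have h2 := hsec i i.1.1
    rw [show c i i.1.1 = 1 from inj' i ((hc i _).trans (one_smul _ _).symm), one_smul] at h2
    have h1' := congrArg (P.presheaf.map (homOfLE (inf_le_right : i.1.2 ⊓ j.1.2 ≤ j.1.2)).op) h1
    have h2' := congrArg (P.presheaf.map (homOfLE (inf_le_left : i.1.2 ⊓ j.1.2 ≤ i.1.2)).op) h2
    rw [Scheme.Modules.map_smul, H10Coh.mres_mres] at h1'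
    rw [H10Coh.mres_mres, hw] at h2'
    have hu := ((he j).bijective inf_le_right).1 (h2'.symm.trans h1')
    have h3 := congrArg (L.presheaf.map (homOfLE (inf_le_right : i.1.2 ⊓ j.1.2 ≤ j.1.2)).op) (hc j i.1.1)
    rw [Scheme.Modules.map_smul, ← hu, H10Coh.mres_mres, H10Coh.mres_mres] at h3
    change L.presheaf.map _ (L.presheaf.map _ (v i.1.1)) = w • L.presheaf.map _ (L.presheaf.map _ (v j.1.1))
    rw [H10Coh.mres_mres, H10Coh.mres_mres]
    exact h3.symm
  haveI : IsIso φ := isIso_of_gen φ fun x => by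
    obtain ⟨j, hj⟩ := hcov x
    exact ⟨_, e j, hj, he j, by rw [hφ]; exact j.2⟩
  refine ⟨r, ?_, asIso φ, fun m => ?_⟩
  · refine (X.openCoverOfIsOpenCover (fun j : J => j.1.2)
      (top_le_iff.1 fun x _ => Opens.mem_iSup.2 (hcov x))).hom_ext _ _ fun j => ?_
    refine comp_structureMap 𝒮 r q (hι j.1.1) j.1.2 (d.le_preimage hr j) fun a => ?_
    rw [d.appLE_ratio hr j]
    exact h_alg j a
  · refine eq_of_locally _ _ fun x _ => ?_
    obtain ⟨j, hj⟩ := hcov x
    refine ⟨j.1.2, le_top, hj, ?_⟩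
    rw [← app_map_apply, hsec j m, Scheme.Modules.Hom.app_smul, asIso_hom, hφ]
    exact hc j m

end algebra

end Groth.Agent.H11Tilde
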