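import Groth.Prelude.Def_Coh
import Mathlib.AlgebraicGeometry.Modules.Sheaf

/-!
# A free generator of a module on an open
-/

set_option autoImplicit false

noncomputable section

universe u

open CategoryTheory AlgebraicGeometry TopologicalSpace Opposite

namespace Groth.Agent.H11Tilde

variable {X : Scheme.{u}}

/-- The family of restrictions of a section over `U` to the opens of `U`. -/
def genSections (M : X.Modules) (U : X.Opens) (g : Γ(M, U)) : (M.restrict U.ι).val.sections :=
  PresheafOfModules.sectionsMk
    (fun W => (M.restrictAppIso U.ι W.unop).inv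
      (M.presheaf.map (homOfLE (U.ι_image_le W.unop)).op g))
    (fun W W' i => by
      change (M.restrictAppIso U.ι W'.unop).inv (M.presheaf.map (homOfLE (Scheme.Hom.image_mono U.ι i.unop.le)).op
        (M.presheaf.map (homOfLE (U.ι_image_le W.unop)).op g)) = _
      refine congrArg _ ((ConcreteCategory.comp_apply _ _ g).symm.trans ?_)
      rw [← Functor.map_comp]
      rfl)

theorem nonempty_iso_structureModule (M : X.Modules) (U : X.Opens) (g : Γ(M, U))
    (h : ∀ (V : X.Opens) (hV : V ≤ U),
      Function.Bijective fun r : Γ(X, V) => r • M.presheaf.map (homOfLE hV).op g) :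
    Nonempty (M.restrict U.ι ≅ Coh.structureModule (↑U : Scheme.{u})) := by
  let φ : Coh.structureModule (↑U : Scheme.{u}) ⟶ M.restrict U.ι :=
    (M.restrict U.ι).unitHomEquiv.symm (genSections M U g)
  have : IsIso φ := by
    rw [Scheme.Modules.Hom.isIso_iff_isIso_app]
    intro W
    rw [ConcreteCategory.isIso_iff_bijective]
    have hb := (h (U.ι ''ᵁ W) (U.ι_image_le W)).comp (ConcreteCategory.bijective_of_isIso (U.ι.appIso W).inv)
    exact hb
  exact ⟨(asIso φ).symm⟩

end Groth.Agent.H11Tilde
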