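import Groth.Prelude.Def_CohB1
import Mathlib.Algebra.Category.ModuleCat.Sheaf.Localization
import Mathlib.AlgebraicGeometry.Modules.Sheaf

/-!
# Tensor products of modules on a scheme: universal property and an isomorphism criterion
-/

set_option autoImplicit false

noncomputable section

universe u

open CategoryTheory CategoryTheory.Limits AlgebraicGeometry Opposite TopologicalSpace
open scoped MonoidalCategory TensorProduct

namespace Groth.Agent.H11Tilde

variable {X : Scheme.{u}} (M N P : X.Modules)

/-- Bilinear data on sections, compatible with restrictions. -/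
structure Pairing where
  toFun : ∀ U : X.Opens, Γ(M, U) → Γ(N, U) → Γ(P, U)
  add_left : ∀ (U : X.Opens) (m m' : Γ(M, U)) (n : Γ(N, U)), toFun U (m + m') n = toFun U m n + toFun U m' n
  smul_left : ∀ (U : X.Opens) (r : Γ(X, U)) (m : Γ(M, U)) (n : Γ(N, U)), toFun U (r • m) n = r • toFun U m n
  add_right : ∀ (U : X.Opens) (m : Γ(M, U)) (n n' : Γ(N, U)), toFun U m (n + n') = toFun U m n + toFun U m n'
  smul_right : ∀ (U : X.Opens) (r : Γ(X, U)) (m : Γ(M, U)) (n : Γ(N, U)), toFun U m (r • n) = r • toFun U m n
  res : ∀ (U V : X.Opens) (h : V ≤ U) (m : Γ(M, U)) (n : Γ(N, U)),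
    P.presheaf.map (homOfLE h).op (toFun U m n) =
      toFun V (M.presheaf.map (homOfLE h).op m) (N.presheaf.map (homOfLE h).op n)

variable {M N P} (β : Pairing M N P)

/-- The map from the sectionwise tensor product. -/
def tensorPreHom : CohB1.tensorPre M N ⟶ CohB1.toPMod P where
  app U := ModuleCat.MonoidalCategory.tensorLift (β.toFun U.unop) (β.add_left U.unop) (β.smul_left U.unop)
    (β.add_right U.unop) (β.smul_right U.unop)
  naturality {U V} i := by
    refine ModuleCat.MonoidalCategory.tensor_ext fun m n => ?_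
    exact (β.res U.unop V.unop i.unop.le m n).symm

/-- The same map, for presheaves of modules over the structure presheaf of rings. -/
def tensorPreHom' : (CohB1.tensorPre M N : X.PresheafOfModules) ⟶ P.val :=
  tensorPreHom β

/-- The map from the tensor product given by a pairing. -/
def tensorDesc : CohB1.tensorMod M N ⟶ P :=
  (PresheafOfModules.sheafificationHomEquiv (R := X.ringCatSheaf) (𝟙 X.ringCatSheaf.obj)).symm
    (tensorPreHom' β)

theorem isIso_tensorDesc
    (h : ∀ x : X, ∃ U : X.Opens, x ∈ U ∧ ∀ V : X.Opens, V ≤ U →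
      Function.Bijective ((tensorPreHom β).app (op V))) : IsIso (tensorDesc β) := by
  let φ := tensorPreHom' β
  let f := (PresheafOfModules.toPresheaf X.ringCatSheaf.obj).map φ
  have hinj : Presheaf.IsLocallyInjective (Opens.grothendieckTopology X) f := by
    constructor
    intro U s t hst x hx
    obtain ⟨W, hxW, hW⟩ := h x
    refine ⟨U.unop ⊓ W, homOfLE inf_le_left, (hW (U.unop ⊓ W) inf_le_right).1 ?_, hx, hxW⟩
    have e := fun a => congr($(f.naturality (homOfLE (inf_le_left : U.unop ⊓ W ≤ U.unop)).op) a)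
    refine (e s).trans (Eq.trans ?_ (e t).symm)
    exact congrArg (P.presheaf.map (homOfLE (inf_le_left : U.unop ⊓ W ≤ U.unop)).op) hst
  have hsurj : Presheaf.IsLocallySurjective (Opens.grothendieckTopology X) f := by
    constructor
    intro U t x hx
    obtain ⟨W, hxW, hW⟩ := h x
    obtain ⟨s, hs⟩ := (hW (U ⊓ W) inf_le_right).2 (P.presheaf.map (homOfLE inf_le_left).op t)
    exact ⟨U ⊓ W, homOfLE inf_le_left, ⟨s, hs⟩, hx, hxW⟩
  have hW : (Opens.grothendieckTopology X).W f := GrothendieckTopology.W_of_isLocallyBijective _ f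
  rw [GrothendieckTopology.W_eq_inverseImage_isomorphisms, MorphismProperty.inverseImage_iff,
    MorphismProperty.isomorphisms.iff] at hW
  suffices h2 : IsIso ((SheafOfModules.toSheaf.{u} X.ringCatSheaf).map (tensorDesc β)) by
    have h3 : IsIso ((Scheme.Modules.toPresheaf X).map (tensorDesc β)) :=
      Functor.map_isIso (sheafToPresheaf (Opens.grothendieckTopology X) AddCommGrpCat.{u})
        ((SheafOfModules.toSheaf.{u} X.ringCatSheaf).map (tensorDesc β))
    exact isIso_of_reflects_iso _ (Scheme.Modules.toPresheaf X)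
  have e := PresheafOfModules.toSheaf_map_sheafificationHomEquiv_symm (R := X.ringCatSheaf)
    (𝟙 X.ringCatSheaf.obj) (F := P) (tensorPreHom' β)
  refine Eq.mpr (congrArg (fun k => IsIso k) e) ?_
  rw [Adjunction.homEquiv_counit]
  exact IsIso.comp_isIso' hW inferInstance

/-- The criterion with free generators of the second factor. -/
theorem nonempty_tensorMod_iso
    (h : ∀ x : X, ∃ U : X.Opens, x ∈ U ∧ ∃ g : Γ(N, U), ∀ (V : X.Opens) (hV : V ≤ U),
      (Function.Bijective fun r : Γ(X, V) => r • N.presheaf.map (homOfLE hV).op g) ∧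
        Function.Bijective fun m : Γ(M, V) => β.toFun V m (N.presheaf.map (homOfLE hV).op g)) :
    Nonempty (CohB1.tensorMod M N ≅ P) := by
  have : IsIso (tensorDesc β) := by
    refine isIso_tensorDesc β fun x => ?_
    obtain ⟨U, hxU, g, hg⟩ := h x
    refine ⟨U, hxU, fun V hV => ?_⟩
    obtain ⟨hN, hβ⟩ := hg V hV
    let g' := N.presheaf.map (homOfLE hV).op g
    let κ : Γ(M, V) → (CohB1.tensorPre M N).obj (op V) := fun m =>
      (show (CohB1.toPMod M).obj (op V) from m) ⊗ₜ (show (CohB1.toPMod N).obj (op V) from g')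
    have hκ : Function.Surjective κ := by
      intro t
      induction t using TensorProduct.induction_on with
      | zero => exact ⟨0, TensorProduct.zero_tmul _ _⟩
      | tmul m n =>
        obtain ⟨r, hr⟩ := hN.2 n
        subst hr
        exact ⟨(show Γ(M, V) from (show Γ(X, V) from r) • (show Γ(M, V) from m)), TensorProduct.smul_tmul
          (R := (X.sheaf.obj ⋙ forget₂ CommRingCat RingCat).obj (op V))
          (show (X.sheaf.obj ⋙ forget₂ CommRingCat RingCat).obj (op V) from r) _ _⟩
      | add a b ha hb =>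
        obtain ⟨a', rfl⟩ := ha
        obtain ⟨b', rfl⟩ := hb
        exact ⟨a' + b', TensorProduct.add_tmul _ _ _⟩
    exact ⟨fun a b e => by
      obtain ⟨a', rfl⟩ := hκ a
      obtain ⟨b', rfl⟩ := hκ b
      exact congrArg κ (hβ.1 e), fun p => ⟨κ (hβ.2 p).choose, (hβ.2 p).choose_spec⟩⟩
  exact ⟨asIso (tensorDesc β)⟩

end Groth.Agent.H11Tilde
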