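import Groth.Agent.H10Coh.QCohLocal
import Groth.Agent.H11Tilde.Gen
import Groth.Prelude.Def_Pic

/-!
# Quasi-coherence and invertibility from open immersion covers
-/

set_option autoImplicit false

noncomputable section

universe u

open CategoryTheory CategoryTheory.Limits AlgebraicGeometry Opposite TopologicalSpace

namespace Groth.Agent.H11Tilde

variable {P Q : Scheme.{u}}

/-- A morphism to a direct image along an open immersion, bijective below the image, gives the restriction. -/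
def isoOfBijectiveApp (j : Q ⟶ P) [IsOpenImmersion j] {L : P.Modules} {F : Q.Modules}
    (lam : L ⟶ (Scheme.Modules.pushforward j).obj F)
    (h : ∀ W : P.Opens, W ≤ j.opensRange → Function.Bijective (lam.app W)) : L.restrict j ≅ F :=
  haveI : IsIso ((Scheme.Modules.restrictFunctor j).map lam) := by
    rw [Scheme.Modules.Hom.isIso_iff_isIso_app]
    intro U
    rw [ConcreteCategory.isIso_iff_bijective]
    exact h (j ''ᵁ U) (Scheme.Hom.image_le_opensRange j U)
  asIso ((Scheme.Modules.restrictFunctor j).map lam) ≪≫ (Scheme.Modules.restrictFunctorAdjCounitIso j).app F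

/-- Restriction to the image of an open of `Q` is restriction to that open. -/
def restrictImageIso (j : Q ⟶ P) [IsOpenImmersion j] (L : P.Modules) (V : Q.Opens) :
    L.restrict (j ''ᵁ V).ι ≅ ((L.restrict j).restrict V.ι).restrict (j.isoImage V).inv :=
  (Scheme.Modules.restrictFunctorCongr
      (show (j ''ᵁ V).ι = ((j.isoImage V).inv ≫ V.ι) ≫ j by
        rw [Category.assoc, Iso.eq_inv_comp, Scheme.Hom.isoImage_hom_ι])).app L ≪≫
    (Scheme.Modules.restrictFunctorComp ((j.isoImage V).inv ≫ V.ι) j).app L ≪≫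
    (Scheme.Modules.restrictFunctorComp (j.isoImage V).inv V.ι).app (L.restrict j)

theorem isQuasicoherent_of_openImmersions {I : Type u} {Q : I → Scheme.{u}} (j : ∀ i, Q i ⟶ P)
    [∀ i, IsOpenImmersion (j i)] (hcov : ∀ x : P, ∃ i, x ∈ Set.range (j i).base) (L : P.Modules)
    (h : ∀ i, (L.restrict (j i)).IsQuasicoherent) : L.IsQuasicoherent := by
  let J : Type u := Σ i, (Q i).affineOpens
  refine H10Coh.isQuasicoherent_of_presentations L (fun p : J => j p.1 ''ᵁ p.2.1) ?_ fun p => ?_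
  · rw [IsOpenCover, eq_top_iff]
    intro x _
    obtain ⟨i, y, rfl⟩ := hcov x
    obtain ⟨V, hV, hyV, -⟩ := exists_isAffineOpen_mem_and_subset (X := Q i) (x := y) (U := ⊤) trivial
    exact Opens.mem_iSup.2 ⟨⟨i, V, hV⟩, ⟨y, hyV, rfl⟩⟩
  · haveI := h p.1
    haveI : ((L.restrict (j p.1)).restrict p.2.2.fromSpec).IsQuasicoherent :=
      Scheme.Modules.isQuasicoherent_restrictFunctor p.2.2.fromSpec _
    exact H10Coh.presOfIso (restrictImageIso (j p.1) L p.2.1).symm
      (Scheme.Modules.presentationRestrict ((j p.1).isoImage p.2.1).inv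
        (H10Coh.presentationAffine (L.restrict (j p.1)) p.2.2))

theorem isInvertible_of_openImmersions {I : Type u} {Q : I → Scheme.{u}} (j : ∀ i, Q i ⟶ P)
    [∀ i, IsOpenImmersion (j i)] (hcov : ∀ x : P, ∃ i, x ∈ Set.range (j i).base) (L : P.Modules)
    (h : ∀ i, PicF.IsInvertible (L.restrict (j i))) : PicF.IsInvertible L := by
  intro x
  obtain ⟨i, y, rfl⟩ := hcov x
  obtain ⟨V, hyV, ⟨e⟩⟩ := h i y
  exact ⟨j i ''ᵁ V, ⟨y, hyV, rfl⟩, ⟨restrictImageIso (j i) L V ≪≫
    (Scheme.Modules.restrictFunctor ((j i).isoImage V).inv).mapIso e ≪≫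
    Scheme.Modules.restrictUnitIso ((j i).isoImage V).inv⟩⟩

theorem restrict_restrict_trivial {U V : P.Opens} (hVU : V ≤ U) (L : P.Modules)
    (e : L.restrict V.ι ≅ Coh.structureModule (↑V : Scheme.{u})) :
    Nonempty ((L.restrict U.ι).restrict (U.ι ⁻¹ᵁ V).ι ≅ Coh.structureModule _) := by
  have hV : U.ι ''ᵁ (U.ι ⁻¹ᵁ V) = V := by
    rw [Scheme.Hom.image_preimage_eq_opensRange_inf, Scheme.Opens.opensRange_ι, inf_eq_right.2 hVU]
  let i : (↑(U.ι ⁻¹ᵁ V) : Scheme.{u}) ≅ (↑V : Scheme.{u}) :=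
    U.ι.isoImage (U.ι ⁻¹ᵁ V) ≪≫ P.isoOfEq hV
  have hi : (U.ι ⁻¹ᵁ V).ι ≫ U.ι = i.hom ≫ V.ι := by simp [i]
  exact ⟨(Scheme.Modules.restrictFunctorComp (U.ι ⁻¹ᵁ V).ι U.ι).symm.app L ≪≫
    (Scheme.Modules.restrictFunctorCongr hi).app L ≪≫
    (Scheme.Modules.restrictFunctorComp i.hom V.ι).app L ≪≫
    (Scheme.Modules.restrictFunctor i.hom).mapIso e ≪≫ Scheme.Modules.restrictUnitIso i.hom⟩

theorem isInvertible_of_iso {L L' : P.Modules} (e : L ≅ L') (h : PicF.IsInvertible L) : PicF.IsInvertible L' := by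
  intro x
  obtain ⟨U, hxU, ⟨f⟩⟩ := h x
  exact ⟨U, hxU, ⟨(Scheme.Modules.restrictFunctor U.ι).mapIso e.symm ≪≫ f⟩⟩

end Groth.Agent.H11Tilde
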