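import Groth.Agent.H11Tilde.StalkGen
import Groth.Agent.H11Tilde.Gen
import Groth.Agent.H28Mero.Gen
import Mathlib.RingTheory.Spectrum.Prime.FreeLocus
import Mathlib.RingTheory.LocalProperties.FinitePresentation

/-!
# Invertible modules on affine schemes and generators after localisation
-/

set_option autoImplicit false
set_option linter.style.haveILetI false

noncomputable section

universe u v

open CategoryTheory CategoryTheory.Limits AlgebraicGeometry Opposite TopologicalSpace

namespace Groth.Agent.H11Tilde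

section algebra

variable {R : Type u} [CommRing R] {Q : Type v} [AddCommGroup Q] [Module R Q]

/-- `m` freely generates `Q` after inverting `b`. -/
def GenOn (b : R) (m : Q) : Prop :=
  (∀ q : Q, ∃ (j : ℕ) (a : R), b ^ j • q = a • m) ∧ ∀ a : R, a • m = 0 → ∃ j : ℕ, b ^ j * a = 0

variable {b : R} {m : Q} (h : GenOn b m)

include h in
theorem GenOn.bijective_lift {Rb : Type*} [CommRing Rb] [Algebra R Rb] (S : Submonoid R) (hb : b ∈ S)
    [IsLocalization S Rb] {Qb : Type*} [AddCommGroup Qb] [Module R Qb] [Module Rb Qb] [IsScalarTower R Rb Qb]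
    (f : Q →ₗ[R] Qb) [IsLocalizedModule S f] : Function.Bijective fun r : Rb => r • f m := by
  constructor
  · intro r r' hr
    rw [← sub_eq_zero] at hr ⊢
    beta_reduce at hr
    rw [← sub_smul] at hr
    generalize r - r' = c at hr
    obtain ⟨a, s, rfl⟩ := IsLocalization.exists_mk'_eq S c
    have h0 : f (a • m) = 0 := by
      rw [map_smul, ← algebraMap_smul Rb, ← IsLocalization.mk'_spec Rb a s, mul_comm, mul_smul, hr, smul_zero]
    obtain ⟨t, ht⟩ := (IsLocalizedModule.eq_zero_iff S f).1 h0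
    rw [Submonoid.smul_def, smul_smul] at ht
    obtain ⟨j, hj⟩ := h.2 _ ht
    rw [IsLocalization.mk'_eq_zero_iff]
    exact ⟨⟨b ^ j * t.1, mul_mem (pow_mem hb j) t.2⟩, by rw [mul_assoc]; exact hj⟩
  · intro z
    obtain ⟨⟨q, s⟩, hq⟩ := IsLocalizedModule.surj S f z
    obtain ⟨j, a, ha⟩ := h.1 q
    refine ⟨IsLocalization.mk' Rb a (⟨b ^ j, pow_mem hb j⟩ * s), ?_⟩
    refine ((Module.End.isUnit_iff _).1 (IsLocalizedModule.map_units f (⟨b ^ j, pow_mem hb j⟩ * s))).1 ?_
    change ((⟨b ^ j, pow_mem hb j⟩ * s : S) : R) • ((IsLocalization.mk' Rb a (⟨b ^ j, pow_mem hb j⟩ * s) : Rb) • f m) = ((⟨b ^ j, pow_mem hb j⟩ * s : S) : R) • z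
    rw [← algebraMap_smul Rb, ← mul_smul, mul_comm, IsLocalization.mk'_spec, algebraMap_smul, ← map_smul, ← ha,
      map_smul, Submonoid.coe_mul, mul_smul]
    rw [Submonoid.smul_def] at hq
    rw [hq]

include h in
theorem GenOn.free_finrank {Rb : Type*} [CommRing Rb] [Nontrivial Rb] [Algebra R Rb] (S : Submonoid R) (hb : b ∈ S)
    [IsLocalization S Rb] {Qb : Type*} [AddCommGroup Qb] [Module R Qb] [Module Rb Qb] [IsScalarTower R Rb Qb]
    (f : Q →ₗ[R] Qb) [IsLocalizedModule S f] : Module.Free Rb Qb ∧ Module.finrank Rb Qb = 1 := by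
  let e : Rb ≃ₗ[Rb] Qb := LinearEquiv.ofBijective (LinearMap.toSpanSingleton Rb Qb (f m))
    (h.bijective_lift S hb f)
  exact ⟨Module.Free.of_equiv e, by rw [← e.finrank_eq, Module.finrank_self]⟩

theorem finrank_eq_one_of_genOn (hcov : ∀ p : PrimeSpectrum R, ∃ (b : R) (m : Q), b ∉ p.asIdeal ∧ GenOn b m)
    (p : PrimeSpectrum R) :
    Module.finrank (Localization.AtPrime p.asIdeal) (LocalizedModule p.asIdeal.primeCompl Q) = 1 := by
  obtain ⟨b, m, hbp, hm⟩ := hcov p
  exact (hm.free_finrank p.asIdeal.primeCompl hbp (LocalizedModule.mkLinearMap p.asIdeal.primeCompl Q)).2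

theorem projective_of_genOn (hcov : ∀ p : PrimeSpectrum R, ∃ (b : R) (m : Q), b ∉ p.asIdeal ∧ GenOn b m) :
    Module.Projective R Q := by
  choose b m hbp hm using hcov
  have hs : Ideal.span (Set.range b) = ⊤ := by
    by_contra hne
    obtain ⟨M, hM, hle⟩ := Ideal.exists_le_maximal _ hne
    exact hbp ⟨M, hM.isPrime⟩ (hle (Ideal.subset_span ⟨_, rfl⟩))
  haveI : Module.FinitePresentation R Q := Module.FinitePresentation.of_localizationSpan _ hs fun g => by
    obtain ⟨g, p, rfl⟩ := g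
    let e : Localization.Away (b p) ≃ₗ[Localization.Away (b p)] LocalizedModule.Away (b p) Q :=
      LinearEquiv.ofBijective (LinearMap.toSpanSingleton _ _ _)
        ((hm p).bijective_lift (Submonoid.powers (b p)) (Submonoid.mem_powers _)
          (LocalizedModule.mkLinearMap (Submonoid.powers (b p)) Q))
    exact Module.FinitePresentation.of_equiv e
  rw [← Module.freeLocus_eq_univ_iff, Set.eq_univ_iff_forall]
  intro p
  exact ((hm p).free_finrank p.asIdeal.primeCompl (hbp p) (LocalizedModule.mkLinearMap p.asIdeal.primeCompl Q)).1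

theorem exists_genOn_of_projective [Module.Finite R Q] [Module.Projective R Q] (p : PrimeSpectrum R)
    (hp : Module.finrank (Localization.AtPrime p.asIdeal) (LocalizedModule p.asIdeal.primeCompl Q) = 1) :
    ∃ (b : R) (m : Q), b ∉ p.asIdeal ∧ GenOn b m := by
  let Rp := Localization.AtPrime p.asIdeal
  let S := p.asIdeal.primeCompl
  haveI : Module.FinitePresentation R Q := Module.finitePresentation_of_projective R Q
  haveI : Module.Free Rp (LocalizedModule S Q) := (Set.eq_univ_iff_forall.1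
    (Module.freeLocus_eq_univ (R := R) (M := Q)) p :)
  haveI : Module.Finite Rp (LocalizedModule S Q) :=
    Module.Finite.of_isLocalizedModule S (LocalizedModule.mkLinearMap S Q)
  let b₀ := Module.finBasisOfFinrankEq Rp (LocalizedModule S Q) hp
  obtain ⟨⟨m, s⟩, hms⟩ := IsLocalizedModule.surj S (LocalizedModule.mkLinearMap S Q) (b₀ 0)
  let f : R →ₗ[R] Rp := Algebra.linearMap R Rp
  let l : R →ₗ[R] Q := LinearMap.toSpanSingleton R Q m
  let F : Rp →ₗ[R] LocalizedModule S Q :=
    (LinearMap.toSpanSingleton Rp _ (LocalizedModule.mkLinearMap S Q m)).restrictScalars R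
  have hF : IsLocalizedModule.map S f (LocalizedModule.mkLinearMap S Q) l = F := by
    refine IsLocalizedModule.ext S f (IsLocalizedModule.map_units (LocalizedModule.mkLinearMap S Q))
      (LinearMap.ext fun a => ?_)
    rw [LinearMap.comp_apply, LinearMap.comp_apply, IsLocalizedModule.map_apply]
    change LocalizedModule.mkLinearMap S Q (a • m) = algebraMap R Rp a • LocalizedModule.mkLinearMap S Q m
    rw [map_smul, algebraMap_smul]
  have hbij : Function.Bijective (IsLocalizedModule.map S f (LocalizedModule.mkLinearMap S Q) l) := by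
    rw [hF]
    have hu : IsUnit (algebraMap R Rp s) := IsLocalization.map_units Rp s
    let e₁ : Rp ≃ₗ[Rp] LocalizedModule S Q :=
      (b₀.equivFun.trans (LinearEquiv.funUnique (Fin 1) Rp Rp)).symm
    have he : ∀ r : Rp, e₁ r = r • b₀ 0 := fun r => by
      rw [LinearEquiv.symm_apply_eq]
      simp [LinearEquiv.funUnique]
    let e : Rp ≃ₗ[Rp] LocalizedModule S Q := (LinearEquiv.smulOfUnit hu.unit).trans e₁
    refine Eq.mpr (congrArg Function.Bijective (funext fun r => ?_)) e.bijective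
    change r • LocalizedModule.mkLinearMap S Q m = e₁ (hu.unit • r)
    rw [he, ← hms, Submonoid.smul_def, ← algebraMap_smul Rp (s : R), Units.smul_def, smul_eq_mul,
      IsUnit.unit_spec, smul_smul, mul_comm r]
  obtain ⟨b, hbS, hb⟩ := exists_bijective_map_powers S f (LocalizedModule.mkLinearMap S Q) l hbij
  have hb' := hb b dvd_rfl
  refine ⟨b, m, hbS, fun q => ?_, fun a ha => ?_⟩
  · obtain ⟨z, hz⟩ := hb'.2 (LocalizedModule.mk q 1)
    induction z using LocalizedModule.induction_on with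
    | h a t =>
      rw [LocalizedModule.map_mk, LocalizedModule.mk_eq] at hz
      obtain ⟨⟨_, i, rfl⟩, hu⟩ := hz
      obtain ⟨_, k, rfl⟩ := t
      simp only [Submonoid.smul_def, one_smul, l, LinearMap.toSpanSingleton_apply, OneMemClass.coe_one,
        smul_smul] at hu
      exact ⟨i + k, b ^ i * a, by rw [pow_add]; exact hu.symm⟩
  · have h0 : LocalizedModule.map (Submonoid.powers b) l (LocalizedModule.mk a 1) =
        LocalizedModule.map (Submonoid.powers b) l 0 := by
      rw [LocalizedModule.map_mk, map_zero, show l a = 0 from ha, LocalizedModule.zero_mk]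
    have h1 := hb'.1 h0
    rw [← LocalizedModule.zero_mk 1, LocalizedModule.mk_eq] at h1
    obtain ⟨⟨_, i, rfl⟩, hu⟩ := h1
    simp only [Submonoid.smul_def, OneMemClass.coe_one, smul_zero, one_smul, smul_eq_mul] at hu
    exact ⟨i, hu⟩

end algebra

section sheaf

variable {R : CommRingCat.{u}} (L : (Spec R).Modules) [L.IsQuasicoherent]

/-- A basic open, as an open of the scheme. -/
abbrev Db {R : CommRingCat.{u}} (b : R) : (Spec R).Opens := PrimeSpectrum.basicOpen b

/-- A constant, as a function on an open. -/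
def cst (R : CommRingCat.{u}) (U : (Spec R).Opens) : R →+* Γ(Spec R, U) :=
  ((Spec R).presheaf.map (homOfLE (le_top : U ≤ ⊤)).op).hom.comp (Scheme.ΓSpecIso R).inv.hom

omit [L.IsQuasicoherent] in
theorem smul_eq_cst_smul (U : (Spec R).Opens) (r : R) (x : Γ(L, U)) : r • x = cst R U r • x := rfl

theorem res_smul_cst {U V : (Spec R).Opens} (h : V ≤ U) (r : R) :
    (Spec R).presheaf.map (homOfLE h).op (cst R U r) = cst R V r :=
  H10Coh.rres_rres _ _ _

omit [L.IsQuasicoherent] in
theorem res_smul_Spec {U V : (Spec R).Opens} (h : V ≤ U) (r : R) (x : Γ(L, U)) :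
    L.presheaf.map (homOfLE h).op (r • x) = r • L.presheaf.map (homOfLE h).op x := by
  rw [smul_eq_cst_smul, smul_eq_cst_smul, Scheme.Modules.map_smul, res_smul_cst]

theorem exists_pow_smul_eq_map (b : R) (s : Γ(L, Db b)) :
    ∃ (n : ℕ) (t : Γ(L, ⊤)),
      L.presheaf.map (homOfLE (le_top : Db b ≤ ⊤)).op t = b ^ n • s := by
  have hloc := (isIso_fromTildeΓ_iff_isLocalizing L).mp
    ((isQuasicoherent_iff_isIso_fromTildeΓ L).mp inferInstance) b
  let g := ((modulesSpecToSheaf.obj L).obj.map (Db b).leTop.op).hom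
  have hg : IsLocalizedModule (Submonoid.powers b) g := hloc
  obtain ⟨⟨t, ⟨_, n, rfl⟩⟩, ht⟩ := IsLocalizedModule.surj (Submonoid.powers b) g s
  exact ⟨n, t, ht.symm⟩

theorem exists_pow_smul_eq_zero_of_res (b : R) (t : Γ(L, ⊤))
    (ht : L.presheaf.map (homOfLE (le_top : Db b ≤ ⊤)).op t = 0) :
    ∃ n : ℕ, b ^ n • t = 0 := by
  have hloc := (isIso_fromTildeΓ_iff_isLocalizing L).mp
    ((isQuasicoherent_iff_isIso_fromTildeΓ L).mp inferInstance) b
  let g := ((modulesSpecToSheaf.obj L).obj.map (Db b).leTop.op).hom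
  have hg : IsLocalizedModule (Submonoid.powers b) g := hloc
  obtain ⟨⟨_, n, rfl⟩, hn⟩ := (IsLocalizedModule.eq_zero_iff (Submonoid.powers b) g).1 ht
  exact ⟨n, hn⟩

theorem isUnit_cst {U : (Spec R).Opens} {b : R} (hU : U ≤ Db b) :
    IsUnit (cst R U b) := by
  rw [← res_smul_cst hU b]
  refine IsUnit.map _ ?_
  have h : Db b = (Spec R).basicOpen ((Scheme.ΓSpecIso R).inv b) :=
    (basicOpen_eq_of_affine b).symm
  have := (Spec R).toRingedSpace.isUnit_res_basicOpen ((Scheme.ΓSpecIso R).inv b)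
  change IsUnit ((Spec R).presheaf.map (homOfLE le_top).op ((Scheme.ΓSpecIso R).inv b))
  have e : (Spec R).presheaf.map (homOfLE (le_top : Db b ≤ ⊤)).op ((Scheme.ΓSpecIso R).inv b) =
      (Spec R).presheaf.map (homOfLE h.le).op ((Spec R).presheaf.map
        (homOfLE ((Spec R).basicOpen_le ((Scheme.ΓSpecIso R).inv b))).op ((Scheme.ΓSpecIso R).inv b)) :=
    (H10Coh.rres_rres _ _ _).symm
  rw [e]
  exact this.map _

theorem exists_frac (b : R) (c : Γ(Spec R, Db b)) :
    ∃ (n : ℕ) (a : R), cst R (Db b) a = cst R (Db b) b ^ n * c := by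
  obtain ⟨⟨a, ⟨_, n, rfl⟩⟩, h⟩ := IsLocalization.surj (Submonoid.powers b) (S := (Spec.structureSheaf R).presheaf.obj
    (op (Db b))) c
  exact ⟨n, a, by rw [← map_pow, mul_comm]; exact h.symm⟩

theorem exists_pow_mul_eq_zero_of_cst (b a : R) (h : cst R (Db b) a = 0) :
    ∃ n : ℕ, b ^ n * a = 0 := by
  obtain ⟨⟨_, n, rfl⟩, hn⟩ := (IsLocalization.map_eq_zero_iff (Submonoid.powers b)
    ((Spec.structureSheaf R).presheaf.obj (op (Db b))) a).1 h
  exact ⟨n, hn⟩

theorem genOn_of_isGen {b : R} {p : Γ(L, ⊤)}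
    (hp : IsGen L (L.presheaf.map (homOfLE (le_top : Db b ≤ ⊤)).op p)) :
    GenOn b p := by
  constructor
  · intro q
    obtain ⟨c, hc⟩ := (hp.bijective le_rfl).2 (L.presheaf.map (homOfLE le_top).op q)
    beta_reduce at hc
    rw [H10Coh.mres_self] at hc
    obtain ⟨n, a, hn⟩ := exists_frac b c
    obtain ⟨N, hN⟩ := exists_pow_smul_eq_zero_of_res L b (b ^ n • q - a • p) (by
      rw [map_sub, res_smul_Spec, res_smul_Spec, sub_eq_zero, smul_eq_cst_smul, smul_eq_cst_smul, hn, map_pow,
        mul_smul, hc])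
    refine ⟨N + n, b ^ N * a, ?_⟩
    rw [pow_add, mul_smul, mul_smul, ← sub_eq_zero, ← smul_sub]
    exact hN
  · intro a ha
    refine exists_pow_mul_eq_zero_of_cst b a ((hp.bijective le_rfl).1 ?_)
    beta_reduce
    rw [H10Coh.mres_self, zero_smul, ← smul_eq_cst_smul, ← res_smul_Spec, ha, map_zero]

theorem isGen_of_genOn {b : R} {p : Γ(L, ⊤)} (h : GenOn b p) :
    IsGen L (L.presheaf.map (homOfLE (le_top : Db b ≤ ⊤)).op p) := by
  intro y hy
  have hbasis : ∀ {W : (Spec R).Opens}, y ∈ W → ∃ t : R, y ∈ Db t ∧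
      Db t ≤ W ⊓ Db b := fun {W} hW => by
    obtain ⟨_, ⟨t, rfl⟩, hyt, hsub⟩ :=
      PrimeSpectrum.isTopologicalBasis_basic_opens.exists_subset_of_mem_open
        (show y ∈ (W ⊓ Db b : (Spec R).Opens) from ⟨hW, hy⟩)
        (W ⊓ Db b).isOpen
    exact ⟨t, hyt, hsub⟩
  rw [TopCat.Presheaf.germ_res_apply]
  constructor
  · intro c c' hcc
    rw [← sub_eq_zero] at hcc ⊢
    beta_reduce at hcc
    rw [← sub_smul] at hcc
    obtain ⟨W, hyW, r, hr⟩ := (Spec R).presheaf.exists_germ_eq (c - c')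
    rw [← hr] at hcc ⊢
    obtain ⟨t, hyt, htW⟩ := hbasis hyW
    obtain ⟨n, a, ha⟩ := exists_frac t ((Spec R).presheaf.map (homOfLE (htW.trans inf_le_left)).op r)
    have h0 : L.presheaf.germ ⊤ y trivial (a • p) = 0 := by
      rw [smul_eq_cst_smul, H06Mod.germ_smul, ← TopCat.Presheaf.germ_res_apply (Spec R).presheaf
        (homOfLE (le_top : Db t ≤ ⊤)) y hyt, res_smul_cst, ha, map_mul, mul_smul,
        TopCat.Presheaf.germ_res_apply, hcc, smul_zero]
    obtain ⟨T, hyT, i, j, hT⟩ := L.presheaf.germ_eq (U := (⊤ : (Spec R).Opens)) (V := (⊤ : (Spec R).Opens)) y trivial trivial _ 0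
      (h0.trans (map_zero _).symm)
    obtain ⟨t', hyt', ht'T⟩ := hbasis hyT
    obtain ⟨N, hN⟩ := exists_pow_smul_eq_zero_of_res L t' (a • p) (by
      have := congrArg (L.presheaf.map (homOfLE (ht'T.trans inf_le_left)).op) hT
      rw [map_zero, map_zero, show i = homOfLE i.le from rfl, H10Coh.mres_mres] at this
      exact this)
    rw [smul_smul] at hN
    obtain ⟨J, hJ⟩ := h.2 _ hN
    have hgz := congrArg ((Spec R).presheaf.germ (Db t' ⊓ Db b) y ⟨hyt', hy⟩)
      (congrArg (cst R (Db t' ⊓ Db b)) hJ)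
    rw [map_mul, map_mul, map_pow, map_pow, map_mul, map_mul, map_pow, map_pow, map_zero, map_zero] at hgz
    rw [((isUnit_cst inf_le_right).map _).pow J |>.mul_right_eq_zero,
      ((isUnit_cst inf_le_left).map _).pow N |>.mul_right_eq_zero] at hgz
    have hy' : y ∈ Db t := hyt
    have hga : (Spec R).presheaf.germ (Db t) y hy' (cst R _ a) = 0 := by
      rw [← res_smul_cst (le_top : Db t ≤ ⊤) a, TopCat.Presheaf.germ_res_apply]
      rw [← res_smul_cst (le_top : Db t' ⊓ Db b ≤ ⊤) a,
        TopCat.Presheaf.germ_res_apply] at hgz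
      exact hgz
    rw [ha, map_mul, map_pow, ((isUnit_cst le_rfl).map _).pow n |>.mul_right_eq_zero,
      TopCat.Presheaf.germ_res_apply] at hga
    exact hga
  · intro z
    obtain ⟨W, hyW, s, rfl⟩ := L.presheaf.exists_germ_eq z
    obtain ⟨t, hyt, htW⟩ := hbasis hyW
    obtain ⟨n, q, hq⟩ := exists_pow_smul_eq_map L t (L.presheaf.map (homOfLE (htW.trans inf_le_left)).op s)
    obtain ⟨j, a, ha⟩ := h.1 q
    let G := (Spec R).presheaf.germ (Db t) y hyt
    have hu : IsUnit (G (cst R _ b ^ j * cst R _ t ^ n)) :=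
      (((isUnit_cst (htW.trans inf_le_right)).pow j).mul ((isUnit_cst le_rfl).pow n)).map _
    refine ⟨↑hu.unit⁻¹ * G (cst R _ a), ?_⟩
    have h1 := congrArg (L.presheaf.map (homOfLE (le_top : Db t ≤ ⊤)).op) ha
    rw [res_smul_Spec, res_smul_Spec, hq, smul_smul, smul_eq_cst_smul, smul_eq_cst_smul, map_mul, map_pow,
      map_pow] at h1
    have h2 := congrArg (L.presheaf.germ (Db t) y hyt) h1
    rw [H06Mod.germ_smul, H06Mod.germ_smul, TopCat.Presheaf.germ_res_apply, TopCat.Presheaf.germ_res_apply] at h2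
    beta_reduce
    rw [mul_smul, ← h2, smul_smul, IsUnit.val_inv_mul, one_smul]

omit [L.IsQuasicoherent] in
theorem exists_basicOpen_isGen {W : (Spec R).Opens} {p : Γ(L, ⊤)}
    (h : IsGen L (L.presheaf.map (homOfLE (le_top : W ≤ ⊤)).op p)) {y : (Spec R : Scheme.{u})} (hy : y ∈ W) :
    ∃ b : R, y ∈ Db b ∧
      IsGen L (L.presheaf.map (homOfLE (le_top : Db b ≤ ⊤)).op p) := by
  obtain ⟨_, ⟨t, rfl⟩, hyt, hsub⟩ :=
    PrimeSpectrum.isTopologicalBasis_basic_opens.exists_subset_of_mem_open (show y ∈ W from hy) W.isOpen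
  have h' := h.res (show Db t ≤ W from hsub)
  rw [H10Coh.mres_mres] at h'
  exact ⟨t, hyt, h'⟩

/-- Sections generating a module locally freely span its global sections. -/
theorem span_range_eq_top_of_genOn {ι : Type*} {Q : Type*} [AddCommGroup Q] [Module R Q] (p : ι → Q)
    (hcov : ∀ y : PrimeSpectrum R, ∃ (i : ι) (b : R), b ∉ y.asIdeal ∧ GenOn b (p i)) :
    Submodule.span R (Set.range p) = ⊤ := by
  refine eq_top_iff.2 fun q _ => ?_
  let I : Ideal R := (Submodule.span R (Set.range p)).comap (LinearMap.toSpanSingleton R Q q)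
  by_contra hq
  have hne : I ≠ ⊤ := fun htop => hq (by
    have : (1 : R) ∈ I := htop.ge trivial
    simpa [I] using this)
  obtain ⟨M, hM, hle⟩ := Ideal.exists_le_maximal I hne
  obtain ⟨i, b, hb, hgen⟩ := hcov ⟨M, hM.isPrime⟩
  obtain ⟨j, a, ha⟩ := hgen.1 q
  refine hb (hM.isPrime.mem_of_pow_mem j (hle ?_))
  change b ^ j • q ∈ Submodule.span R (Set.range p)
  rw [ha]
  exact Submodule.smul_mem _ _ (Submodule.subset_span ⟨i, rfl⟩)

end sheaf

/-- A module with local generators is invertible. -/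
theorem isInvertible_of_isGen {X : Scheme.{u}} {L : X.Modules}
    (h : ∀ x : X, ∃ (V : X.Opens) (e : Γ(L, V)), x ∈ V ∧ IsGen L e) : PicF.IsInvertible L := fun x => by
  obtain ⟨V, e, hx, he⟩ := h x
  exact ⟨V, hx, nonempty_iso_structureModule L V e fun W hW => he.bijective hW⟩

end Groth.Agent.H11Tilde

namespace Groth.Agent.H11Tilde

/-- Generators are transported by linear equivalences. -/
theorem GenOn.map_equiv {R : Type*} [CommRing R] {Q Q' : Type*} [AddCommGroup Q] [Module R Q] [AddCommGroup Q']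
    [Module R Q'] (e : Q ≃ₗ[R] Q') {b : R} {m : Q} (h : GenOn b m) : GenOn b (e m) := by
  refine ⟨fun q => ?_, fun a ha => h.2 a (e.injective (by rw [map_smul, ha, map_zero]))⟩
  obtain ⟨j, a, ha⟩ := h.1 (e.symm q)
  exact ⟨j, a, by simpa using congrArg e ha⟩

end Groth.Agent.H11Tilde
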