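import Groth.Agent.H11Tilde.ProjUPUnique
import Groth.Agent.H11Tilde.AffineInvertible
import Groth.Agent.H11Proj.ProjSpace
import Groth.Agent.S3572
import Mathlib.LinearAlgebra.SymmetricAlgebra.Basis

/-!
# Points of projective space with values in a ring
-/

set_option autoImplicit false
set_option linter.style.haveILetI false

noncomputable section

universe u

open CategoryTheory CategoryTheory.Limits AlgebraicGeometry Opposite TopologicalSpace CohB1

namespace Groth.Agent.H11Tilde.PnPoints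

variable {n : ℕ} {R : CommRingCat.{u}}

theorem globalSec_congr {A σA : Type u} [CommRing A] [SetLike σA A] [AddSubgroupClass σA A] (𝒜 : ℕ → σA)
    [GradedRing 𝒜] {d : ℕ} {f g : A} (hf : f ∈ 𝒜 d) (hg : g ∈ 𝒜 d) (h : f = g) :
    globalSec 𝒜 hf = globalSec 𝒜 hg := by
  subst h; rfl

/-- The coordinates of a point. -/
abbrev coordSec (s : Spec R ⟶ ProjSpace n R) (i : Fin (n + 1)) :
    Γ((Scheme.Modules.pullback s).obj (Twist.twistProjSpace n R 1), ⊤) :=
  ProjUP.pullSec s (Twist.twistProjSpace n R 1) (ProjUP.coord n R i)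

theorem coord_eq (i : Fin (n + 1)) :
    (ProjUP.coord n R i : ProjUP.Γm (GrTwist.twist (polyGrading n R) 1)) =
      globalSec (polyGrading n R) (MvPolynomial.isHomogeneous_X R i : MvPolynomial.X i ∈ polyGrading n R 1) := rfl

theorem isGen_coordSec (s : Spec R ⟶ ProjSpace n R) (i : Fin (n + 1)) :
    IsGen ((Scheme.Modules.pullback s).obj (Twist.twistProjSpace n R 1))
      (((Scheme.Modules.pullback s).obj (Twist.twistProjSpace n R 1)).presheaf.map
        (homOfLE (le_top : s ⁻¹ᵁ Proj.basicOpen (polyGrading n R) (MvPolynomial.X i) ≤ ⊤)).op (coordSec s i)) :=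
  isGen_pullSec (polyGrading n R) s (MvPolynomial.isHomogeneous_X R i) le_rfl

theorem exists_mem_preimage (s : Spec R ⟶ ProjSpace n R) (y : (Spec R : Scheme.{u})) :
    ∃ i, y ∈ s ⁻¹ᵁ Proj.basicOpen (polyGrading n R) (MvPolynomial.X i) := by
  obtain ⟨i, hi⟩ := Opens.mem_iSup.1 ((Groth.Agent.H11Proj.ProjSpace.iSup_basicOpen (n := n) (R := R)).ge
    (trivial : s.base y ∈ (⊤ : (Proj (polyGrading n R)).Opens)))
  exact ⟨i, hi⟩

theorem isInvertible_pullback (s : Spec R ⟶ ProjSpace n R) :
    PicF.IsInvertible ((Scheme.Modules.pullback s).obj (Twist.twistProjSpace n R 1)) :=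
  isInvertible_of_isGen fun y => by
    obtain ⟨i, hi⟩ := exists_mem_preimage s y
    exact ⟨_, _, hi, isGen_coordSec s i⟩

theorem isQuasicoherent_pullback (s : Spec R ⟶ ProjSpace n R) :
    ((Scheme.Modules.pullback s).obj (Twist.twistProjSpace n R 1)).IsQuasicoherent :=
  H28Mero.isQCoh_of_isInvertible (isInvertible_pullback s)

theorem exists_genOn (s : Spec R ⟶ ProjSpace n R) (y : PrimeSpectrum R) :
    ∃ (i : Fin (n + 1)) (b : R), b ∉ y.asIdeal ∧ GenOn b (coordSec s i) ∧
      Db b ≤ s ⁻¹ᵁ Proj.basicOpen (polyGrading n R) (MvPolynomial.X i) := by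
  haveI := isQuasicoherent_pullback s
  obtain ⟨i, hi⟩ := exists_mem_preimage s y
  obtain ⟨_, ⟨b, rfl⟩, hyb, hsub⟩ :=
    PrimeSpectrum.isTopologicalBasis_basic_opens.exists_subset_of_mem_open
      (show y ∈ s ⁻¹ᵁ Proj.basicOpen (polyGrading n R) (MvPolynomial.X i) from hi)
      (s ⁻¹ᵁ Proj.basicOpen (polyGrading n R) (MvPolynomial.X i)).isOpen
  have hle : Db (R := CommRingCat.of R) b ≤ s ⁻¹ᵁ Proj.basicOpen (polyGrading n R) (MvPolynomial.X i) := hsub
  have h := (isGen_coordSec s i).res hle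
  rw [H10Coh.mres_mres] at h
  exact ⟨i, b, hyb, genOn_of_isGen _ h, hle⟩

theorem smul_top_eq {L : (Spec R).Modules} (r : R) (x : Γ(L, ⊤)) :
    r • x = (Scheme.ΓSpecIso R).inv r • x := by
  rw [smul_eq_cst_smul]
  change (Spec R).presheaf.map (homOfLE le_top).op ((Scheme.ΓSpecIso _).inv r) • x = _
  exact congrArg (· • x) (congr($((Spec R).presheaf.map_id (op ⊤)) ((Scheme.ΓSpecIso R).inv r)))

theorem mem_secKernel (s : Spec R ⟶ ProjSpace n R) (c : Fin (n + 1) → R) :
    c ∈ ProjUP.secKernel n R s ↔ ∑ i, c i • coordSec s i = 0 := by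
  unfold ProjUP.secKernel
  simp only [LinearMap.mem_ker, Fintype.linearCombination_apply]
  refine Eq.congr (Finset.sum_congr rfl fun i _ => ?_) rfl
  exact (smul_top_eq (c i) (coordSec s i)).symm

theorem section_ext (s₁ s₂ : Spec R ⟶ ProjSpace n R)
    (h₁ : s₁ ≫ ProjSpace.toSpec n R = 𝟙 _) (h₂ : s₂ ≫ ProjSpace.toSpec n R = 𝟙 _)
    (h : ∀ c : Fin (n + 1) → R, ∑ i, c i • coordSec s₁ i = 0 → ∑ i, c i • coordSec s₂ i = 0) :
    s₁ = s₂ := by
  classical
  haveI := isQuasicoherent_pullback s₁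
  haveI := isQuasicoherent_pullback s₂
  let b := Pi.basisFun R (Fin (n + 1))
  let ι : (Fin (n + 1) → R) →ₗ[R] MvPolynomial (Fin (n + 1)) R := b.constr R MvPolynomial.X
  have hιX : ∀ i, ι (b i) = MvPolynomial.X i := fun i => b.constr_basis R _ i
  have hι : ∀ m, ι m ∈ polyGrading n R 1 := fun m => by
    rw [← b.sum_repr m, map_sum]
    refine Submodule.sum_mem _ fun i _ => ?_
    rw [map_smul, hιX]
    exact Submodule.smul_mem _ _ (MvPolynomial.isHomogeneous_X R i)
  have hX : ∀ i, MvPolynomial.X i ∈ polyGrading n R 1 := fun i => MvPolynomial.isHomogeneous_X R i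
  have hsym := SymmetricAlgebra.IsSymmetricAlgebra.mvPolynomial (R := R) (Fin (n + 1)) b
  have hcov : ∀ y : Proj (polyGrading n R), ∃ g ∈ polyGrading n R 1, g ∉ y.asHomogeneousIdeal := fun y => by
    obtain ⟨i, hi⟩ := Opens.mem_iSup.1
      ((Groth.Agent.H11Proj.ProjSpace.iSup_basicOpen (n := n) (R := R)).ge (trivial : y ∈ (⊤ : (Proj (polyGrading n R)).Opens)))
    exact ⟨_, hX i, hi⟩
  -- transfer of relations between two coordinates
  have rel : ∀ (i m : Fin (n + 1)) (x a : R), x • coordSec s₁ i = a • coordSec s₁ m →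
      x • coordSec s₂ i = a • coordSec s₂ m := fun i m x a e => by
    have key : ∀ t : Spec R ⟶ ProjSpace n R,
        ∑ j, (Pi.single i x - Pi.single m a : Fin (n + 1) → R) j • coordSec t j =
          x • coordSec t i - a • coordSec t m := fun t => by
      simp only [Pi.sub_apply, sub_smul, Finset.sum_sub_distrib]
      congr 1
      · rw [Finset.sum_eq_single i (fun j _ hj => by rw [Pi.single_eq_of_ne hj, zero_smul]) (by simp),
          Pi.single_eq_same]
      · rw [Finset.sum_eq_single m (fun j _ hj => by rw [Pi.single_eq_of_ne hj, zero_smul]) (by simp),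
          Pi.single_eq_same]
    have := h _ ((key s₁).trans (sub_eq_zero.2 e))
    rw [key s₂] at this
    exact sub_eq_zero.1 this
  choose m t hyt hgen hle using exists_genOn s₁
  have hiSup : ⨆ y, Db (R := CommRingCat.of R) (t y) = ⊤ :=
    top_le_iff.1 fun y _ => Opens.mem_iSup.2 ⟨y, hyt y⟩
  refine ((Spec R).openCoverOfIsOpenCover (fun y => Db (R := CommRingCat.of R) (t y))
    hiSup).hom_ext _ _ fun y => ?_
  let V : (Spec R).Opens := Db (t y)
  let P₁ := (Scheme.Modules.pullback s₁).obj (Twist.twistProjSpace n R 1)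
  let P₂ := (Scheme.Modules.pullback s₂).obj (Twist.twistProjSpace n R 1)
  -- coefficients of all coordinates with respect to the `m`-th one
  choose j a ha using fun i => (hgen y).1 (coordSec s₁ i)
  have ha₂ := fun i => rel i (m y) _ _ (ha i)
  have hu : IsUnit (cst R V (t y)) := isUnit_cst le_rfl
  have hgen₂ : IsGen P₂ (P₂.presheaf.map (homOfLE (le_top : V ≤ ⊤)).op (coordSec s₂ (m y))) := by
    intro z hz
    obtain ⟨i, hi⟩ := exists_mem_preimage s₂ z
    have he := isGen_coordSec s₂ i z hi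
    rw [TopCat.Presheaf.germ_res_apply] at he ⊢
    have hrel := congrArg (P₂.presheaf.germ ⊤ z trivial) (ha₂ i)
    rw [smul_top_eq, smul_top_eq, H06Mod.germ_smul, H06Mod.germ_smul] at hrel
    have hut : IsUnit ((Spec R).presheaf.germ ⊤ z trivial
        ((Scheme.ΓSpecIso R).inv (t y ^ j i))) := by
      rw [map_pow, map_pow]
      refine IsUnit.pow _ ?_
      rw [← TopCat.Presheaf.germ_res_apply (Spec R).presheaf (homOfLE (le_top : V ≤ ⊤)) z hz]
      exact hu.map _
    obtain ⟨c, hc⟩ := he.2 (P₂.presheaf.germ ⊤ z trivial (coordSec s₂ (m y)))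
    beta_reduce at hc
    rw [← hc, smul_smul] at hrel
    have hk := he.1 hrel
    rw [hk] at hut
    have hc' : IsUnit c := isUnit_of_mul_isUnit_right hut
    refine Eq.mpr (congrArg Function.Bijective (funext fun r => ?_)) (he.comp (Units.mulRight hc'.unit).bijective)
    change r • P₂.presheaf.germ ⊤ z trivial (coordSec s₂ (m y)) = (r * c) • P₂.presheaf.germ ⊤ z trivial (coordSec s₂ i)
    rw [← hc, smul_smul]
  have e' : V ≤ s₂ ⁻¹ᵁ Proj.basicOpen (polyGrading n R) (MvPolynomial.X (m y)) :=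
    le_preimage_of_isGen (polyGrading n R) s₂ (hX (m y)) hcov hgen₂
  have e : V ≤ s₁ ⁻¹ᵁ Proj.basicOpen (polyGrading n R) (ι (b (m y))) := by rw [hιX]; exact hle y
  have e'' : V ≤ s₂ ⁻¹ᵁ Proj.basicOpen (polyGrading n R) (ι (b (m y))) := by rw [hιX]; exact e'
  refine hom_ext_ι_ratio (polyGrading n R) s₁ hι hsym s₂ (h₁.trans h₂.symm) b.span_eq (b (m y)) e e'' ?_
  rintro _ ⟨i, rfl⟩
  have key : ∀ (s : Spec R ⟶ ProjSpace n R)
      (es : V ≤ s ⁻¹ᵁ Proj.basicOpen (polyGrading n R) (ι (b (m y))))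
      (es' : V ≤ s ⁻¹ᵁ Proj.basicOpen (polyGrading n R) (MvPolynomial.X (m y))),
      t y ^ j i • coordSec s i = a i • coordSec s (m y) →
      cst _ V (t y) ^ j i * s.appLE _ V es (ratio (polyGrading n R) (hι (b (m y))) (hι (b i))) = cst _ V (a i) := by
    intro s es es' hs
    haveI := isQuasicoherent_pullback s
    have hres := congrArg (((Scheme.Modules.pullback s).obj (Twist.twistProjSpace n R 1)).presheaf.map
      (homOfLE (le_top : V ≤ ⊤)).op) hs
    rw [res_smul_Spec, res_smul_Spec, smul_eq_cst_smul, smul_eq_cst_smul, map_pow] at hres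
    have hp := pullSec_res (polyGrading n R) s (hι (b i)) (hι (b (m y))) es
    have c1 : ∀ k, globalSec (polyGrading n R) (hι (b k)) = globalSec (polyGrading n R) (hX k) := fun k =>
      globalSec_congr _ _ _ (hιX k)
    rw [c1, c1] at hp
    have hg := isGen_pullSec (polyGrading n R) s (hX (m y)) es'
    refine (hg.bijective le_rfl).1 ?_
    beta_reduce
    rw [H10Coh.mres_self, mul_smul]
    exact (congrArg _ hp.symm).trans hres
  exact ((hu.pow (j i)).mul_left_cancel ((key s₁ e (hle y) (ha i)).trans (key s₂ e'' e' (ha₂ i)).symm))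

theorem exists_section_iff (F : Submodule R (Fin (n + 1) → R)) :
    (∃ s : Spec R ⟶ ProjSpace n R, s ≫ ProjSpace.toSpec n R = 𝟙 _ ∧ ProjUP.secKernel n R s = F) ↔
      (Module.Projective R ((Fin (n + 1) → R) ⧸ F) ∧
        ∀ p : PrimeSpectrum R, Module.finrank (Localization.AtPrime p.asIdeal)
          (LocalizedModule p.asIdeal.primeCompl ((Fin (n + 1) → R) ⧸ F)) = 1) := by
  classical
  constructor
  · rintro ⟨s, -, rfl⟩
    let L : (Spec R).Modules := (Scheme.Modules.pullback s).obj (Twist.twistProjSpace n R 1)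
    let p : Fin (n + 1) → Γ(L, ⊤) := coordSec s
    let π : (Fin (n + 1) → R) →ₗ[R] Γ(L, ⊤) := Fintype.linearCombination R p
    have hker : LinearMap.ker π = ProjUP.secKernel n R s := Submodule.ext fun c => by
      rw [LinearMap.mem_ker, Fintype.linearCombination_apply]
      exact (mem_secKernel s c).symm
    choose i b hb hgen hle using exists_genOn s
    have hsurj : Function.Surjective π := by
      rw [← LinearMap.range_eq_top, Fintype.range_linearCombination]
      exact span_range_eq_top_of_genOn p fun y => ⟨i y, b y, hb y, hgen y⟩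
    let e : ((Fin (n + 1) → R) ⧸ ProjUP.secKernel n R s) ≃ₗ[R] Γ(L, ⊤) :=
      (Submodule.quotEquivOfEq _ _ hker.symm).trans (π.quotKerEquivOfSurjective hsurj)
    have hcov : ∀ y : PrimeSpectrum R, ∃ (b : R) (m : (Fin (n + 1) → R) ⧸ ProjUP.secKernel n R s),
        b ∉ y.asIdeal ∧ GenOn b m :=
      fun y => ⟨b y, _, hb y, (hgen y).map_equiv e.symm⟩
    exact ⟨projective_of_genOn hcov, finrank_eq_one_of_genOn hcov⟩
  · rintro ⟨hproj, hrk⟩
    haveI := hproj
    let Q := (Fin (n + 1) → R) ⧸ F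
    let M : ModuleCat.{u} R := ModuleCat.of R Q
    let L : (Spec R).Modules := tilde M
    haveI : L.IsQuasicoherent := inferInstanceAs (tilde M).IsQuasicoherent
    let T : Q →ₗ[R] Γ(L, ⊤) := (tilde.toOpen M ⊤).hom
    have hT : Function.Bijective T := ConcreteCategory.bijective_of_isIso (tilde.toOpen M ⊤)
    let T' : Q ≃ₗ[R] Γ(L, ⊤) := LinearEquiv.ofBijective T hT
    let p : Fin (n + 1) → Γ(L, ⊤) := fun i => T (F.mkQ (Pi.basisFun R (Fin (n + 1)) i))
    have hp : ∀ c : Fin (n + 1) → R, ∑ i, c i • p i = T (F.mkQ c) := fun c => by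
      conv_rhs => rw [← (Pi.basisFun R (Fin (n + 1))).sum_repr c]
      rw [map_sum, map_sum]
      exact Finset.sum_congr rfl fun i _ => by
        rw [map_smul]
        exact (map_smul T _ _).symm
    have hgenerated : ∀ y : (Spec R : Scheme.{u}), ∃ (m : Γ(L, ⊤)) (b : R), y ∈ Db b ∧
        IsGen L
          (L.presheaf.map (homOfLE (le_top : Db b ≤ ⊤)).op m) := fun y => by
      obtain ⟨b, m, hb, hm⟩ := exists_genOn_of_projective (Q := Q) y (hrk y)
      exact ⟨T' m, b, hb, isGen_of_genOn L (hm.map_equiv T')⟩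
    have hinv : PicF.IsInvertible L := isInvertible_of_isGen fun y => by
      obtain ⟨m, b, hy, he⟩ := hgenerated y
      exact ⟨_, _, hy, he⟩
    have hgen : ProjUP.GeneratedBy L p := fun y => by
      refine eq_top_iff.2 fun z _ => ?_
      obtain ⟨m, b, hy, he⟩ := hgenerated y
      obtain ⟨c, rfl⟩ := (he y hy).2 z
      beta_reduce
      refine Submodule.smul_mem _ _ ?_
      rw [TopCat.Presheaf.germ_res_apply]
      obtain ⟨q, rfl⟩ := hT.2 m
      obtain ⟨d, rfl⟩ := F.mkQ_surjective q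
      rw [← hp d, map_sum]
      refine Submodule.sum_mem _ fun i _ => ?_
      rw [smul_top_eq, Groth.Agent.H06Mod.germ_smul]
      exact Submodule.smul_mem _ _ (Submodule.subset_span ⟨i, rfl⟩)
    obtain ⟨r, hr, τ, hτ⟩ := Groth.Agent.S3572.result n (𝟙 (Spec R)) L hinv p hgen
    refine ⟨r, hr, Submodule.ext fun c => ?_⟩
    rw [mem_secKernel r c]
    have hb : Function.Bijective (τ.hom.app ⊤) :=
      ConcreteCategory.bijective_of_isIso ((Scheme.Modules.Hom.app τ.hom ⊤))
    have key : τ.hom.app ⊤ (∑ i, c i • coordSec r i) = T (F.mkQ c) := by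
      rw [map_sum, ← hp c]
      refine Finset.sum_congr rfl fun i _ => ?_
      rw [smul_top_eq, smul_top_eq,
        Scheme.Modules.Hom.app_smul]
      exact congrArg _ (hτ i)
    rw [← map_eq_zero_iff _ hb.1, key, map_eq_zero_iff _ hT.1]
    exact Submodule.Quotient.mk_eq_zero F

end Groth.Agent.H11Tilde.PnPoints
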