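import Groth.Agent.H11Tilde.ProjUP

/-!
# The universal property of `Proj` of a symmetric algebra: uniqueness
-/

set_option autoImplicit false
set_option linter.style.haveILetI false

noncomputable section

universe u

open CategoryTheory CategoryTheory.Limits AlgebraicGeometry Opposite TopologicalSpace

namespace Groth.Agent.H11Tilde

section general

/-- Generators map to generators under an isomorphism. -/
theorem IsGen.map_iso {X : Scheme.{u}} {M N : X.Modules} (τ : M ≅ N) {V : X.Opens} {e : Γ(M, V)} (he : IsGen M e) :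
    IsGen N (τ.hom.app V e) := isGen_of_bijective fun W hW => by
  have hb : Function.Bijective (τ.hom.app W) :=
    (ConcreteCategory.isIso_iff_bijective _).1 (Scheme.Modules.Hom.isIso_iff_isIso_app.mp inferInstance W)
  refine Eq.mpr (congrArg Function.Bijective (funext fun r => ?_)) (hb.comp (he.bijective hW))
  change r • N.presheaf.map (homOfLE hW).op (τ.hom.app V e) = τ.hom.app W (r • M.presheaf.map (homOfLE hW).op e)
  rw [Scheme.Modules.Hom.app_smul, app_map_apply]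

end general

variable {A : Type u} [CommRing A] {S : Type u} [CommRing S] [Algebra A S] (𝒮 : ℕ → Submodule A S) [GradedAlgebra 𝒮]
  {M : Type u} [AddCommGroup M] [Module A M] {ι : M →ₗ[A] S}

theorem exists_mem_basicOpen_ι (hι : ∀ m, ι m ∈ 𝒮 1) (hsym : IsSymmetricAlgebra ι) (y : Proj 𝒮) :
    ∃ m, y ∈ Proj.basicOpen 𝒮 (ι m) := by
  have hadj : Algebra.adjoin (𝒮 0) (Set.range ι) = ⊤ := by
    refine eq_top_iff.2 fun s _ => ?_
    induction s using hsym.induction with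
    | algebraMap c =>
      exact Subalgebra.algebraMap_mem _ (⟨algebraMap A S c, SetLike.algebraMap_mem_graded 𝒮 c⟩ : 𝒮 0)
    | ι m => exact Algebra.subset_adjoin ⟨m, rfl⟩
    | mul s t hs ht => exact mul_mem (hs trivial) (ht trivial)
    | add s t hs ht => exact add_mem (hs trivial) (ht trivial)
  exact Opens.mem_iSup.1 ((Proj.iSup_basicOpen_eq_top' 𝒮 _ (fun m => ⟨1, hι m⟩) hadj).ge trivial)

variable {X : Scheme.{u}} (r : X ⟶ Proj 𝒮)

/-- `r^* (f / 1)` on an open mapping into `D₊(g)`. -/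
theorem pullSec_res {f g : S} (hf : f ∈ 𝒮 1) (hg : g ∈ 𝒮 1) {V : X.Opens} (e : V ≤ r ⁻¹ᵁ Proj.basicOpen 𝒮 g) :
    ((Scheme.Modules.pullback r).obj (GrTwist.twist 𝒮 1)).presheaf.map (homOfLE (le_top : V ≤ ⊤)).op
        (ProjUP.pullSec r (GrTwist.twist 𝒮 1) (globalSec 𝒮 hf)) =
      r.appLE _ V e (ratio 𝒮 hg hf) •
        ((Scheme.Modules.pullback r).obj (GrTwist.twist 𝒮 1)).presheaf.map (homOfLE (le_top : V ≤ ⊤)).op
          (ProjUP.pullSec r (GrTwist.twist 𝒮 1) (globalSec 𝒮 hg)) := by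
  have h2 := congrArg (fun z => ((Scheme.Modules.pullback r).obj (GrTwist.twist 𝒮 1)).presheaf.map (homOfLE e).op
    (OmegaSh.pullSect r (GrTwist.twist 𝒮 1) _ z)) (globalSec_eq_ratio_smul 𝒮 hg hf)
  beta_reduce at h2
  rw [OmegaSh.pullSect_smul, Scheme.Modules.map_smul, pullSect_res, pullSect_res, H10Coh.mres_mres,
    H10Coh.mres_mres] at h2
  exact h2

theorem isGen_pullSec {g : S} (hg : g ∈ 𝒮 1) {V : X.Opens} (e : V ≤ r ⁻¹ᵁ Proj.basicOpen 𝒮 g) :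
    IsGen ((Scheme.Modules.pullback r).obj (GrTwist.twist 𝒮 1))
      (((Scheme.Modules.pullback r).obj (GrTwist.twist 𝒮 1)).presheaf.map (homOfLE (le_top : V ≤ ⊤)).op
        (ProjUP.pullSec r (GrTwist.twist 𝒮 1) (globalSec 𝒮 hg))) := by
  have h := ((isGen_globalSec 𝒮 hg).pullSect r).res e
  rw [pullSect_res, H10Coh.mres_mres] at h
  exact h

/-- Where `r^* (f / 1)` generates, `r` lands in `D₊(f)`. -/
theorem le_preimage_of_isGen {f : S} (hf : f ∈ 𝒮 1) (hcov : ∀ y : Proj 𝒮, ∃ g ∈ 𝒮 1, g ∉ y.asHomogeneousIdeal)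
    {V : X.Opens} (h : IsGen ((Scheme.Modules.pullback r).obj (GrTwist.twist 𝒮 1))
      (((Scheme.Modules.pullback r).obj (GrTwist.twist 𝒮 1)).presheaf.map (homOfLE (le_top : V ≤ ⊤)).op
        (ProjUP.pullSec r (GrTwist.twist 𝒮 1) (globalSec 𝒮 hf)))) :
    V ≤ r ⁻¹ᵁ Proj.basicOpen 𝒮 f := by
  intro x hx
  obtain ⟨g, hg, hgx⟩ := hcov (r.base x)
  let W := V ⊓ r ⁻¹ᵁ Proj.basicOpen 𝒮 g
  have hxW : x ∈ W := ⟨hx, hgx⟩
  have hW : W ≤ r ⁻¹ᵁ Proj.basicOpen 𝒮 g := inf_le_right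
  have he := isGen_pullSec 𝒮 r hg hW
  have hbij := (h.res (inf_le_left : W ≤ V)) x hxW
  rw [H10Coh.mres_mres, pullSec_res 𝒮 r hf hg hW, H06Mod.germ_smul] at hbij
  have hu := isUnit_of_bijective_smul he hxW hbij.2
  have hb : x ∈ X.basicOpen (r.appLE _ W hW (ratio 𝒮 hg hf)) := (X.mem_basicOpen _ x hxW).2 hu
  rw [Scheme.Hom.appLE, CommRingCat.comp_apply, Scheme.basicOpen_res, ← Scheme.preimage_basicOpen,
    basicOpen_ratio_deg1] at hb
  exact hb.2.2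

theorem ι_comp_structureMap {f : S} (hf : f ∈ 𝒮 1) (V : X.Opens) (e : V ≤ r ⁻¹ᵁ Proj.basicOpen 𝒮 f) :
    V.ι ≫ r ≫ Proj.toSpecZero 𝒮 ≫ Spec.map (CommRingCat.ofHom (algebraMap A (𝒮 0))) =
      V.toSpecΓ ≫ Spec.map ((CommRingCat.ofHom (algebraMap A (𝒮 0)) ≫
        CommRingCat.ofHom (HomogeneousLocalization.fromZeroRingHom 𝒮 (.powers f)) ≫ Proj.awayToSection 𝒮 f) ≫
          r.appLE _ V e) := by
  have hι : (Proj.basicOpen 𝒮 f).ι =
      (Proj.basicOpenIsoSpec 𝒮 f hf one_pos).hom ≫ Proj.awayι 𝒮 f hf one_pos := by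
    rw [← Proj.basicOpenIsoSpec_inv_ι, Iso.hom_inv_id_assoc]
  rw [← Scheme.Hom.resLE_comp_ι_assoc r e, hι, Category.assoc, Proj.awayι_toSpecZero_assoc,
    Proj.basicOpenIsoSpec_hom, Proj.basicOpenToSpec, Category.assoc, reassoc_of% (resLE_toSpecΓ r _ V e)]
  simp only [Category.assoc, Spec.map_comp]

theorem exists_mem_basicOpen_ι_of_span (hι : ∀ m, ι m ∈ 𝒮 1) (hsym : IsSymmetricAlgebra ι) {s : Set M}
    (hs : Submodule.span A s = ⊤) (y : Proj 𝒮) : ∃ m ∈ s, y ∈ Proj.basicOpen 𝒮 (ι m) := by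
  by_contra hne
  push Not at hne
  obtain ⟨m, hm⟩ := exists_mem_basicOpen_ι 𝒮 hι hsym y
  have hle : Submodule.span A s ≤ (y.asHomogeneousIdeal.toIdeal.restrictScalars A).comap ι :=
    Submodule.span_le.2 fun b hb => not_not.1 (hne b hb)
  exact hm (hle (hs.ge trivial))

/-- Two morphisms over `A` agreeing on the ratios `n / m`, `n` in a spanning set, agree. -/
theorem hom_ext_ι_ratio (hι : ∀ m, ι m ∈ 𝒮 1) (hsym : IsSymmetricAlgebra ι) (r' : X ⟶ Proj 𝒮)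
    (hrr' : r ≫ Proj.toSpecZero 𝒮 ≫ Spec.map (CommRingCat.ofHom (algebraMap A (𝒮 0))) =
      r' ≫ Proj.toSpecZero 𝒮 ≫ Spec.map (CommRingCat.ofHom (algebraMap A (𝒮 0))))
    {s : Set M} (hs : Submodule.span A s = ⊤) {V : X.Opens} (m : M)
    (e : V ≤ r ⁻¹ᵁ Proj.basicOpen 𝒮 (ι m)) (e' : V ≤ r' ⁻¹ᵁ Proj.basicOpen 𝒮 (ι m))
    (hn' : ∀ n ∈ s, r.appLE _ V e (ratio 𝒮 (hι m) (hι n)) = r'.appLE _ V e' (ratio 𝒮 (hι m) (hι n))) :
    V.ι ≫ r = V.ι ≫ r' := by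
  refine hom_ext_on (Proj.isAffineOpen_basicOpen 𝒮 (ι m) (hι m) one_pos) V e e' ?_
  refine ringHom_ext_ratio 𝒮 (hι m) fun k a ha => ?_
  let ev : Γ(Proj 𝒮, Proj.basicOpen 𝒮 (ι m)) →+* Γ(X, V) := (r.appLE _ V e).hom
  let ev' : Γ(Proj 𝒮, Proj.basicOpen 𝒮 (ι m)) →+* Γ(X, V) := (r'.appLE _ V e').hom
  let dh : S →+* Γ(Proj 𝒮, Proj.basicOpen 𝒮 (ι m)) := (Polynomial.evalRingHom 1).comp (dehom 𝒮 (hι m))
  have dh_eq : ∀ {l : ℕ} {b : S} (hb : b ∈ 𝒮 l), dh b = ratio 𝒮 (hι m) hb := fun {l b} hb => by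
    simp [dh, dehom_of_mem 𝒮 (hι m) hb]
  have h0 : ∀ c : A, ev (dh (algebraMap A S c)) = ev' (dh (algebraMap A S c)) := fun c => by
    have h1 := ι_comp_structureMap 𝒮 r (hι m) V e
    rw [hrr', ι_comp_structureMap 𝒮 r' (hι m) V e'] at h1
    have h2 := congrArg (fun φ => (CommRingCat.Hom.hom φ) c) (toSpecΓ_SpecMap_injective V h1).symm
    rw [dh_eq (SetLike.algebraMap_mem_graded 𝒮 c)]
    rw [← awayToSection_algebraMap 𝒮 (hι m) c]
    exact h2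
  have h1 : ∀ n, ev (dh (ι n)) = 1 * ev' (dh (ι n)) := fun n => by
    rw [one_mul]
    induction (hs.ge (trivial : n ∈ (⊤ : Submodule A M)) : n ∈ Submodule.span A s) using Submodule.span_induction with
    | zero => simp
    | add a b _ _ ha hb => simp only [map_add, ha, hb]
    | smul c a _ ha => rw [map_smul, Algebra.smul_def, map_mul, map_mul, map_mul, h0, ha]
    | mem n hn =>
      rw [dh_eq (hι n)]
      exact hn' n hn
  have key := scaled_of_isSymmetricAlgebra 𝒮 hι hsym (ev.comp dh) (ev'.comp dh) 1 h0 h1 ha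
  rw [one_pow, one_mul] at key
  change ev (dh a) = ev' (dh a) at key
  rw [dh_eq ha] at key
  exact key


/-- The universal property: uniqueness, tested on a spanning set. -/
theorem toProj_ext (hι : ∀ m, ι m ∈ 𝒮 1) (hsym : IsSymmetricAlgebra ι) (r' : X ⟶ Proj 𝒮)
    (hrr' : r ≫ Proj.toSpecZero 𝒮 ≫ Spec.map (CommRingCat.ofHom (algebraMap A (𝒮 0))) =
      r' ≫ Proj.toSpecZero 𝒮 ≫ Spec.map (CommRingCat.ofHom (algebraMap A (𝒮 0))))
    (τ : (Scheme.Modules.pullback r).obj (GrTwist.twist 𝒮 1) ≅ (Scheme.Modules.pullback r').obj (GrTwist.twist 𝒮 1))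
    {s : Set M} (hs : Submodule.span A s = ⊤)
    (hτ : ∀ m ∈ s, τ.hom.app ⊤ (ProjUP.pullSec r (GrTwist.twist 𝒮 1) (globalSec 𝒮 (hι m))) =
      ProjUP.pullSec r' (GrTwist.twist 𝒮 1) (globalSec 𝒮 (hι m))) :
    r = r' := by
  classical
  have hcov : ∀ y : Proj 𝒮, ∃ g ∈ 𝒮 1, g ∉ y.asHomogeneousIdeal := fun y => by
    obtain ⟨m, hm⟩ := exists_mem_basicOpen_ι 𝒮 hι hsym y
    exact ⟨_, hι m, hm⟩
  have hV : ∀ x : X, ∃ b : s, x ∈ r ⁻¹ᵁ Proj.basicOpen 𝒮 (ι b) := fun x => by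
    obtain ⟨b, hb, hx⟩ := exists_mem_basicOpen_ι_of_span 𝒮 hι hsym hs (r.base x)
    exact ⟨⟨b, hb⟩, hx⟩
  refine (X.openCoverOfIsOpenCover (fun b : s => r ⁻¹ᵁ Proj.basicOpen 𝒮 (ι b))
    (top_le_iff.1 fun x _ => Opens.mem_iSup.2 (hV x))).hom_ext _ _ fun b => ?_
  obtain ⟨m, hm⟩ := b
  let V := r ⁻¹ᵁ Proj.basicOpen 𝒮 (ι m)
  let P := (Scheme.Modules.pullback r).obj (GrTwist.twist 𝒮 1)
  let P' := (Scheme.Modules.pullback r').obj (GrTwist.twist 𝒮 1)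
  have hτV : ∀ n ∈ s, τ.hom.app V (P.presheaf.map (homOfLE (le_top : V ≤ ⊤)).op
      (ProjUP.pullSec r (GrTwist.twist 𝒮 1) (globalSec 𝒮 (hι n)))) =
      P'.presheaf.map (homOfLE (le_top : V ≤ ⊤)).op
        (ProjUP.pullSec r' (GrTwist.twist 𝒮 1) (globalSec 𝒮 (hι n))) := fun n hn => by rw [app_map_apply, hτ n hn]
  have hgen' : IsGen P' (P'.presheaf.map (homOfLE (le_top : V ≤ ⊤)).op
      (ProjUP.pullSec r' (GrTwist.twist 𝒮 1) (globalSec 𝒮 (hι m)))) := by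
    rw [← hτV m hm]
    exact (isGen_pullSec 𝒮 r (hι m) (le_refl V)).map_iso τ
  have e' : V ≤ r' ⁻¹ᵁ Proj.basicOpen 𝒮 (ι m) := le_preimage_of_isGen 𝒮 r' (hι m) hcov hgen'
  refine hom_ext_ι_ratio 𝒮 r hι hsym r' hrr' hs m le_rfl e' fun n hn => ?_
  refine ((hgen'.bijective le_rfl).1 ?_)
  beta_reduce
  rw [H10Coh.mres_self]
  refine Eq.trans ?_ (pullSec_res 𝒮 r' (hι n) (hι m) e')
  rw [← hτV n hn, ← hτV m hm, pullSec_res 𝒮 r (hι n) (hι m) le_rfl, Scheme.Modules.Hom.app_smul]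

end Groth.Agent.H11Tilde
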