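import Groth.Agent.H11Tilde.TwistInv
import Groth.Agent.H11Tilde.Local
import Groth.Prelude.Def_RelProj2
import Groth.Prelude.Def_RelProj3

/-!
# Modules on a relative Proj given chartwise
-/

set_option autoImplicit false

noncomputable section

universe u

open CategoryTheory CategoryTheory.Limits AlgebraicGeometry Opposite TopologicalSpace

namespace Groth.Agent.H11Tilde

section Graded

variable {A σA : Type u} [CommRing A] [SetLike σA A] [AddSubgroupClass σA A] (𝒜 : ℕ → σA) [GradedRing 𝒜]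

theorem sub_projZero_mem_span (hgen : Subring.closure ((𝒜 0 : Set A) ∪ (𝒜 1 : Set A)) = ⊤) (y : A) :
    y - GradedRing.projZeroRingHom 𝒜 y ∈ Ideal.span (𝒜 1 : Set A) := by
  classical
  have hy : y ∈ Subring.closure ((𝒜 0 : Set A) ∪ (𝒜 1 : Set A)) := hgen ▸ Subring.mem_top y
  induction hy using Subring.closure_induction with
  | mem y hy =>
    rcases hy with hy | hy
    · rw [GradedRing.projZeroRingHom_apply, DirectSum.decompose_of_mem_same 𝒜 hy, sub_self]
      exact zero_mem _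
    · rw [GradedRing.projZeroRingHom_apply, DirectSum.decompose_of_mem_ne 𝒜 hy (one_ne_zero (α := ℕ)), sub_zero]
      exact Ideal.subset_span hy
  | zero => simp
  | one => rw [map_one, sub_self]; exact zero_mem _
  | add a b _ _ ha hb =>
    rw [map_add, add_sub_add_comm]; exact add_mem ha hb
  | neg a _ ha =>
    rw [map_neg, ← neg_sub', neg_mem_iff]; exact ha
  | mul a b _ _ ha hb =>
    rw [map_mul, show a * b - GradedRing.projZeroRingHom 𝒜 a * GradedRing.projZeroRingHom 𝒜 b =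
      (a - GradedRing.projZeroRingHom 𝒜 a) * b + GradedRing.projZeroRingHom 𝒜 a *
        (b - GradedRing.projZeroRingHom 𝒜 b) by ring]
    exact add_mem (Ideal.mul_mem_right _ _ ha) (Ideal.mul_mem_left _ _ hb)

theorem exists_degOne_notMem (hgen : Subring.closure ((𝒜 0 : Set A) ∪ (𝒜 1 : Set A)) = ⊤)
    (x : ProjectiveSpectrum 𝒜) : ∃ a ∈ 𝒜 1, a ∉ x.asHomogeneousIdeal := by
  classical
  by_contra hne
  push Not at hne
  refine x.not_irrelevant_le fun y hy => ?_
  have h0 : GradedRing.projZeroRingHom 𝒜 y = 0 := by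
    rw [GradedRing.projZeroRingHom_apply]
    exact (HomogeneousIdeal.mem_irrelevant_iff 𝒜 y).1 hy
  have := sub_projZero_mem_span 𝒜 hgen y
  rw [h0, sub_zero] at this
  exact Ideal.span_le.2 hne this

variable {M τ : Type u} [AddCommGroup M] [Module A M] [SetLike τ M] [AddSubgroupClass τ M] (ℳ : ℕ → τ)
  [SetLike.GradedSMul 𝒜 ℳ]

theorem tilde_isZero_of_kill (n : ℤ)
    (h : ∀ (i : ℕ) (m : M), m ∈ ℳ i → ∀ (d : ℕ) (f : A), 0 < d → f ∈ 𝒜 d → ∃ k : ℕ, f ^ k • m = 0) :
    IsZero (GrMod.tilde 𝒜 ℳ n) := by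
  classical
  rw [IsZero.iff_id_eq_zero]
  refine Scheme.Modules.hom_ext _ _ fun U => ?_
  ext s
  refine sval_ext 𝒜 ℳ fun x => ?_
  refine Eq.trans ?_ (sval_zero 𝒜 ℳ x).symm
  rcases exists_eq_fracAt_of_mem 𝒜 ℳ x.1 ((show GrMod.sect 𝒜 ℳ n (op U) from s).1 x) with
    h0 | ⟨i, j, m, t, ht, hm, -, -, hq⟩
  · exact h0
  · refine hq.trans ((fracAt_eq_zero_iff 𝒜 x.1 m t ht).2 ?_)
    obtain ⟨a, ha, hax⟩ := SetLike.not_le_iff_exists.1 x.1.not_irrelevant_le
    have : ∃ d, 0 < d ∧ (DirectSum.decompose 𝒜 a d : A) ∉ x.1.asHomogeneousIdeal := by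
      by_contra hne
      push Not at hne
      refine hax (show a ∈ x.1.asHomogeneousIdeal.toIdeal from ?_)
      rw [← DirectSum.sum_support_decompose 𝒜 a]
      refine Ideal.sum_mem _ fun d _ => ?_
      rcases Nat.eq_zero_or_pos d with rfl | hd
      · rw [show (DirectSum.decompose 𝒜 a 0 : A) = 0 from (HomogeneousIdeal.mem_irrelevant_iff 𝒜 a).1 ha]
        exact zero_mem _
      · exact hne d hd
    obtain ⟨d, hd, hfx⟩ := this
    obtain ⟨k, hk⟩ := h i m hm d _ hd (DirectSum.decompose 𝒜 a d).2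
    exact ⟨_, pow_notMem 𝒜 hfx k, hk⟩

end Graded

section Rel

variable {S P : Scheme.{u}} {𝒮 : RelProj.QCGrAlg S} (p : P ⟶ S)
  (chart : ∀ (U : S.Opens) (hU : IsAffineOpen U), (((p ⁻¹ᵁ U : P.Opens) : Scheme.{u}) ≅ Proj (𝒮.deg U hU)))

theorem opensRange_emb (U : S.Opens) (hU : IsAffineOpen U) :
    (RelProj.emb p chart U hU).opensRange = p ⁻¹ᵁ U := by
  change ((chart U hU).inv ≫ (p ⁻¹ᵁ U).ι).opensRange = _
  rw [Scheme.Hom.opensRange_comp_of_isIso, Scheme.Opens.opensRange_ι]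

theorem exists_mem_range_emb (x : P) :
    ∃ U : S.affineOpens, x ∈ Set.range (RelProj.emb p chart U.1 U.2).base := by
  obtain ⟨U, hU, hxU, -⟩ := exists_isAffineOpen_mem_and_subset (X := S) (x := p.base x) (U := ⊤) trivial
  refine ⟨⟨U, hU⟩, ?_⟩
  have : x ∈ (RelProj.emb p chart U hU).opensRange := by rw [opensRange_emb]; exact hxU
  exact this

end Rel

end Groth.Agent.H11Tilde
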