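import Groth.Prelude.Def_RelProj2
import Mathlib.AlgebraicGeometry.Modules.Sheaf
import Mathlib.AlgebraicGeometry.Sites.SmallAffineZariski
import Mathlib

/-!
# Gluing modules given over the preimages of the affine opens of the base
-/

set_option autoImplicit false
set_option linter.style.haveILetI false

noncomputable section

universe u

open CategoryTheory CategoryTheory.Limits AlgebraicGeometry Opposite TopologicalSpace

namespace Groth.Agent.H11Tilde

variable {P S : Scheme.{u}}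

/-- Sections over an open, as a functor on modules. -/
abbrev sectionsFunctor (W : P.Opens) : P.Modules ⥤ Type u :=
  Scheme.Modules.toPresheaf P ⋙ (evaluation _ AddCommGrpCat.{u}).obj (op W) ⋙ forget AddCommGrpCat.{u}

instance preservesLimits_sectionsFunctor (W : P.Opens) : PreservesLimits (sectionsFunctor W) := by
  haveI : PreservesLimits ((evaluation (P.Opensᵒᵖ) AddCommGrpCat.{u}).obj (op W) ⋙ forget AddCommGrpCat.{u}) :=
    comp_preservesLimits _ _
  exact comp_preservesLimits (Scheme.Modules.toPresheaf P) _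

theorem exists_le_both {U V : S.AffineZariskiSite} {x : S} (hU : x ∈ U.1) (hV : x ∈ V.1) :
    ∃ D : S.AffineZariskiSite, D ≤ U ∧ D ≤ V ∧ x ∈ D.1 := by
  obtain ⟨f, g, hfg, hxf⟩ := exists_basicOpen_le_affine_inter U.2 V.2 x ⟨hU, hV⟩
  exact ⟨⟨S.basicOpen f, U.2.basicOpen f⟩, ⟨f, rfl⟩, ⟨g, hfg.symm⟩, hxf⟩

section glue

variable (p : P ⟶ S) (G : S.AffineZariskiSiteᵒᵖ ⥤ P.Modules)

theorem glue_ext {U : S.AffineZariskiSite} {W : P.Opens} {a b : Γ(G.obj (op U), W)}
    (h : ∀ x ∈ W, ∃ (W' : P.Opens) (i : W' ≤ W), x ∈ W' ∧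
      (G.obj (op U)).presheaf.map (homOfLE i).op a = (G.obj (op U)).presheaf.map (homOfLE i).op b) : a = b := by
  refine TopCat.Sheaf.eq_of_locally_eq' (U := fun x : W => (h x.1 x.2).choose)
    ⟨(G.obj (op U)).presheaf, (G.obj (op U)).isSheaf⟩ W (fun x => homOfLE (h x.1 x.2).choose_spec.choose)
    (fun x hx => Opens.mem_iSup.2 ⟨⟨x, hx⟩, (h x hx).choose_spec.choose_spec.1⟩) a b fun x => ?_
  exact (h x.1 x.2).choose_spec.choose_spec.2

variable
  (supp : ∀ (U : S.AffineZariskiSite) (W : P.Opens), Function.Bijective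
    ((G.obj (op U)).presheaf.map (homOfLE (inf_le_left : W ⊓ p ⁻¹ᵁ U.1 ≤ W)).op))
  (bij : ∀ {U V : S.AffineZariskiSite} (i : V ⟶ U) (W : P.Opens), W ≤ p ⁻¹ᵁ V.1 →
    Function.Bijective ((G.map i.op).app W))

include supp in
theorem glue_ext_supp {U : S.AffineZariskiSite} {W : P.Opens} {a b : Γ(G.obj (op U), W)}
    (h : ∀ x ∈ W, p.base x ∈ U.1 → ∃ (W' : P.Opens) (i : W' ≤ W), x ∈ W' ∧
      (G.obj (op U)).presheaf.map (homOfLE i).op a = (G.obj (op U)).presheaf.map (homOfLE i).op b) : a = b := by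
  refine (supp U W).1 (glue_ext G fun x hx => ?_)
  obtain ⟨W', i, hxW', e⟩ := h x hx.1 hx.2
  refine ⟨W' ⊓ (W ⊓ p ⁻¹ᵁ U.1), inf_le_right, ⟨hxW', hx⟩, ?_⟩
  have e' := congrArg ((G.obj (op U)).presheaf.map (homOfLE (inf_le_left : W' ⊓ (W ⊓ p ⁻¹ᵁ U.1) ≤ W')).op) e
  rw [← ConcreteCategory.comp_apply, ← Functor.map_comp, ← ConcreteCategory.comp_apply, ← Functor.map_comp]
  rw [← ConcreteCategory.comp_apply, ← Functor.map_comp, ← ConcreteCategory.comp_apply, ← Functor.map_comp] at e'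
  exact e'

theorem app_res {U V : S.AffineZariskiSite} (i : V ⟶ U) {W W' : P.Opens} (h : W' ≤ W) (a : Γ(G.obj (op U), W)) :
    (G.map i.op).app W' ((G.obj (op U)).presheaf.map (homOfLE h).op a) =
      (G.obj (op V)).presheaf.map (homOfLE h).op ((G.map i.op).app W a) :=
  congr($((G.map i.op).mapPresheaf.naturality (homOfLE h).op) a)

theorem res_res {U : S.AffineZariskiSite} {W W' W'' : P.Opens} (h : W' ≤ W) (h' : W'' ≤ W') (a : Γ(G.obj (op U), W)) :
    (G.obj (op U)).presheaf.map (homOfLE h').op ((G.obj (op U)).presheaf.map (homOfLE h).op a) =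
      (G.obj (op U)).presheaf.map (homOfLE (h'.trans h)).op a := by
  rw [← ConcreteCategory.comp_apply, ← Functor.map_comp]
  rfl

theorem map_app_comp {U V T : S.AffineZariskiSite} (i : V ⟶ U) (j : T ⟶ V) (k : T ⟶ U) (W : P.Opens)
    (a : Γ(G.obj (op U), W)) : (G.map j.op).app W ((G.map i.op).app W a) = (G.map k.op).app W a := by
  rw [Subsingleton.elim k (j ≫ i), op_comp, Functor.map_comp]
  rfl

include supp bij in
/-- The limit restricts to the given module over each affine open of the base. -/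
theorem bijective_limit_π (U : S.AffineZariskiSite) (W : P.Opens) (hW : W ≤ p ⁻¹ᵁ U.1) :
    Function.Bijective ((limit.π G (op U)).app W) := by
  let hl := isLimitOfPreserves (sectionsFunctor W) (limit.isLimit G)
  let e := Types.isLimitEquivSections hl
  constructor
  · intro a b hab
    refine e.injective (Subtype.ext (funext fun V => ?_))
    rw [Types.isLimitEquivSections_apply, Types.isLimitEquivSections_apply]
    change (limit.π G V).app W a = (limit.π G V).app W b
    obtain ⟨V⟩ := V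
    refine glue_ext_supp p G supp fun x hxW hxV => ?_
    obtain ⟨D, hDU, hDV, hxD⟩ := exists_le_both (hW hxW) hxV
    refine ⟨W ⊓ p ⁻¹ᵁ D.1, inf_le_left, ⟨hxW, hxD⟩, (bij (homOfLE hDV) _ inf_le_right).1 ?_⟩
    rw [app_res, app_res]
    congr 1
    have key : ∀ z : Γ(limit G, W), (G.map (homOfLE hDV).op).app W ((limit.π G (op V)).app W z) =
        (G.map (homOfLE hDU).op).app W ((limit.π G (op U)).app W z) := fun z =>
      (congr($(congrArg (fun φ => Scheme.Modules.Hom.app φ W) (limit.w G (homOfLE hDV).op)) z)).trans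
        (congr($(congrArg (fun φ => Scheme.Modules.Hom.app φ W) (limit.w G (homOfLE hDU).op)) z)).symm
    rw [key a, key b, hab]
  · intro τ
    have hex : ∀ V : S.AffineZariskiSite, ∃ σ : Γ(G.obj (op V), W),
        ∀ (D : S.AffineZariskiSite) (hDU : D ≤ U) (hDV : D ≤ V),
          (G.obj (op D)).presheaf.map (homOfLE (inf_le_left : W ⊓ p ⁻¹ᵁ D.1 ≤ W)).op ((G.map (homOfLE hDV).op).app W σ) =
          (G.obj (op D)).presheaf.map (homOfLE (inf_le_left : W ⊓ p ⁻¹ᵁ D.1 ≤ W)).op
            ((G.map (homOfLE hDU).op).app W τ) := by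
      intro V
      let I := {D : S.AffineZariskiSite // D ≤ U ∧ D ≤ V}
      choose s hs using fun D : I => (bij (homOfLE D.2.2) (W ⊓ p ⁻¹ᵁ D.1.1) inf_le_right).2
        ((G.obj (op D.1)).presheaf.map (homOfLE inf_le_left).op ((G.map (homOfLE D.2.1).op).app W τ))
      have hc : TopCat.Presheaf.IsCompatible (G.obj (op V)).presheaf (fun D : I => W ⊓ p ⁻¹ᵁ D.1.1) s := by
        intro D D'
        refine glue_ext G fun x hx => ?_
        obtain ⟨D'', h₁, h₂, hxD''⟩ := exists_le_both hx.1.2 hx.2.2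
        let W'' := (W ⊓ p ⁻¹ᵁ D.1.1) ⊓ (W ⊓ p ⁻¹ᵁ D'.1.1) ⊓ p ⁻¹ᵁ D''.1
        refine ⟨W'', inf_le_left, ⟨hx, hxD''⟩, ?_⟩
        refine (bij (homOfLE (h₁.trans D.2.2)) W'' inf_le_right).1 ?_
        have key : ∀ (E : I) (h : D'' ≤ E.1) (hle : W'' ≤ W ⊓ p ⁻¹ᵁ E.1.1),
            (G.map (homOfLE (h₁.trans D.2.2)).op).app W'' ((G.obj (op V)).presheaf.map (homOfLE hle).op (s E)) =
              (G.obj (op D'')).presheaf.map (homOfLE (hle.trans inf_le_left)).op
                ((G.map (homOfLE (h₁.trans D.2.1)).op).app W τ) := fun E h hle => by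
          rw [← map_app_comp G (homOfLE E.2.2) (homOfLE h) (homOfLE (h₁.trans D.2.2)), app_res, hs E,
            res_res G, app_res, map_app_comp G (homOfLE E.2.1) (homOfLE h) (homOfLE (h₁.trans D.2.1))]
        have k1 := key D h₁ (inf_le_left.trans inf_le_left)
        have k2 := key D' h₂ (inf_le_left.trans inf_le_right)
        erw [res_res G, res_res G]
        exact k1.trans k2.symm
      obtain ⟨σ₀, hσ₀, -⟩ := TopCat.Sheaf.existsUnique_gluing'
        ⟨(G.obj (op V)).presheaf, (G.obj (op V)).isSheaf⟩ (fun D : I => W ⊓ p ⁻¹ᵁ D.1.1) (W ⊓ p ⁻¹ᵁ V.1)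
        (fun D => homOfLE (inf_le_inf_left W (p.preimage_mono (Scheme.AffineZariskiSite.toOpens_mono D.2.2))))
        (fun x hx => by
          obtain ⟨D, hDU, hDV, hxD⟩ := exists_le_both (hW hx.1) hx.2
          exact Opens.mem_iSup.2 ⟨⟨D, hDU, hDV⟩, hx.1, hxD⟩) s hc
      obtain ⟨σ, rfl⟩ := (supp V W).2 σ₀
      refine ⟨σ, fun D hDU hDV => ?_⟩
      rw [← app_res, ← hs ⟨D, hDU, hDV⟩]
      congr 1
      have := hσ₀ ⟨D, hDU, hDV⟩
      rw [← this]
      exact ((congr($(((G.obj (op V)).presheaf.map_comp _ _).symm) σ))).symm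
    choose σ hσ using hex
    have hcompat : ∀ (V V' : S.AffineZariskiSite) (i : V' ⟶ V), (G.map i.op).app W (σ V) = σ V' := by
      intro V V' i
      refine glue_ext_supp p G supp fun x hxW hxV => ?_
      obtain ⟨D, hDU, hDV', hxD⟩ := exists_le_both (hW hxW) hxV
      refine ⟨W ⊓ p ⁻¹ᵁ D.1, inf_le_left, ⟨hxW, hxD⟩, (bij (homOfLE hDV') _ inf_le_right).1 ?_⟩
      rw [app_res, app_res, map_app_comp G i (homOfLE hDV') (homOfLE (hDV'.trans i.le)),
        hσ V D hDU (hDV'.trans i.le), hσ V' D hDU hDV']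
    let sec : (G ⋙ sectionsFunctor W).sections :=
      ⟨fun V => σ V.unop, fun {V V'} i => hcompat V.unop V'.unop i.unop⟩
    refine ⟨e.symm sec, ?_⟩
    refine (Types.isLimitEquivSections_symm_apply hl sec (op U)).trans ?_
    change σ U = τ
    refine glue_ext G fun x hxW => ⟨W ⊓ p ⁻¹ᵁ U.1, inf_le_left, ⟨hxW, hW hxW⟩, ?_⟩
    have := hσ U U le_rfl le_rfl
    rwa [show (homOfLE (le_refl U)).op = 𝟙 (op U) from rfl, CategoryTheory.Functor.map_id] at this

end glue

end Groth.Agent.H11Tilde
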