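import Groth.Agent.H11Proj.ProjMap
import Groth.Agent.H11Proj.RelProjExists
import Groth.Agent.H11Tilde.Rel
import Groth.Agent.H11Tilde.RelLimit

/-!
# The twisting sheaves under inverting an element of degree zero, and existence of relative twisting sheaves
-/

set_option autoImplicit false
set_option linter.style.haveILetI false

noncomputable section

universe u

open CategoryTheory CategoryTheory.Limits AlgebraicGeometry Opposite TopologicalSpace
open scoped HomogeneousIdeal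

namespace Groth.Agent.H11Tilde

section graded

variable {A σA B σB : Type u} [CommRing A] [SetLike σA A] [AddSubgroupClass σA A] {𝒜 : ℕ → σA} [GradedRing 𝒜]
  [CommRing B] [SetLike σB B] [AddSubgroupClass σB B] {ℬ : ℕ → σB} [GradedRing ℬ]
  (ψ : 𝒜 →+*ᵍ ℬ) (hψ : ℬ₊ ≤ (𝒜₊).map ψ) (c : 𝒜 0)
  (hloc : letI := ψ.toRingHom.toAlgebra; IsLocalization.Away (c : A) B) (n : ℤ)

include hloc in
theorem isUnit_map_degZero : IsUnit (ψ (c : A)) := by
  letI := ψ.toRingHom.toAlgebra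
  exact IsLocalization.Away.algebraMap_isUnit (S := B) (c : A)

include hloc in
theorem exists_eq_map {i : ℕ} {b : B} (hb : b ∈ ℬ i) :
    ∃ (k : ℕ) (a : A), a ∈ 𝒜 i ∧ b * ψ (c : A) ^ k = ψ a := by
  classical
  letI := ψ.toRingHom.toAlgebra
  obtain ⟨k, a, hk⟩ := IsLocalization.Away.surj (c : A) b
  change b * ψ (c : A) ^ k = ψ a at hk
  refine ⟨k, _, (DirectSum.decompose 𝒜 a i).2, ?_⟩
  rw [ψ.map_directSumDecompose, ← hk]
  exact (DirectSum.decompose_of_mem_same ℬ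
    (by simpa using SetLike.mul_mem_graded hb (SetLike.pow_mem_graded k (ψ.map_mem c.2)))).symm

include hloc in
theorem map_notMem {y : ProjectiveSpectrum ℬ} (k : ℕ) {t : B} (ht : t ∉ y.asHomogeneousIdeal) :
    t * ψ (c : A) ^ k ∉ y.asHomogeneousIdeal := fun h =>
  (y.isPrime.mem_or_mem h).elim ht fun h' =>
    y.isPrime.ne_top (Ideal.eq_top_of_isUnit_mem _ h' ((isUnit_map_degZero ψ c hloc).pow k))

include hloc in
theorem locMap_injective (y : ProjectiveSpectrum ℬ) : Function.Injective (GrTwist.locMap ψ hψ y) := by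
  rw [injective_iff_map_eq_zero]
  intro q hq
  induction q using Localization.induction_on with
  | H q =>
    obtain ⟨a, s⟩ := q
    rw [GrTwist.locMap_mk, Localization.mk_eq_mk', IsLocalization.mk'_eq_zero_iff] at hq
    obtain ⟨⟨t, ht⟩, hta⟩ := hq
    letI := ψ.toRingHom.toAlgebra
    obtain ⟨k, t', hk⟩ := IsLocalization.Away.surj (c : A) t
    change t * ψ (c : A) ^ k = ψ t' at hk
    have h0 : algebraMap A B (t' * a) = algebraMap A B 0 := by
      change ψ (t' * a) = ψ 0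
      rw [map_mul, ← hk, map_zero, mul_right_comm]
      simp only at hta
      rw [hta, zero_mul]
    obtain ⟨l, hl⟩ := IsLocalization.Away.exists_of_eq (S := B) (c : A) h0
    rw [Localization.mk_eq_mk', IsLocalization.mk'_eq_zero_iff]
    refine ⟨⟨(c : A) ^ l * t', ?_⟩, ?_⟩
    · change ψ ((c : A) ^ l * t') ∉ y.asHomogeneousIdeal
      rw [map_mul, map_pow, ← hk, mul_comm (ψ (c : A) ^ l), mul_assoc, ← pow_add]
      exact map_notMem ψ c hloc _ ht
    · simp only [mul_assoc]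
      rw [hl, mul_zero]

include hloc in
/-- Over the image of `Proj ℬ`, sections of `O(n)` correspond. -/
theorem comapApp_bijective (U : Opens (ProjectiveSpectrum.top 𝒜)) (V : Opens (ProjectiveSpectrum.top ℬ))
    (hUV : V.1 ⊆ ProjectiveSpectrum.comap ψ hψ ⁻¹' U.1) (hVU : ProjectiveSpectrum.comap ψ hψ ⁻¹' U.1 ⊆ V.1)
    (hrange : U.1 ⊆ Set.range (ProjectiveSpectrum.comap ψ hψ)) :
    Function.Bijective (GrTwist.comapApp ψ hψ n U V hUV) := by
  classical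
  obtain ⟨hoi, -⟩ := Groth.Agent.H11Proj.map_localization ψ hψ c hloc
  have inj : ∀ (U' : Opens (ProjectiveSpectrum.top 𝒜)) (s s' : GrTwist.sectN (𝒜 := 𝒜) n (op U')),
      U'.1 ⊆ Set.range (ProjectiveSpectrum.comap ψ hψ) →
      (∀ (y : ProjectiveSpectrum ℬ) (hy : ProjectiveSpectrum.comap ψ hψ y ∈ U'),
        GrTwist.locMap ψ hψ y (s.1 ⟨_, hy⟩).1 = GrTwist.locMap ψ hψ y (s'.1 ⟨_, hy⟩).1) → s = s' := by
    intro U' s s' hr h
    refine Subtype.ext (funext fun x => Subtype.ext ?_)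
    obtain ⟨x, hx⟩ := x
    obtain ⟨y, rfl⟩ := hr hx
    exact locMap_injective ψ hψ c hloc y (h y hx)
  refine ⟨fun s s' h => inj U s s' hrange fun y hy => ?_, fun s' => ?_⟩
  · have := congrArg (fun (z : GrTwist.sectN (𝒜 := ℬ) n (op V)) => (z.1 ⟨y, hVU hy⟩).1) h
    exact this
  · have hloc' : ∀ x : U, ∃ (N : Opens (ProjectiveSpectrum.top 𝒜)) (_ : x.1 ∈ N) (_ : N ≤ U)
        (s : GrTwist.sectN (𝒜 := 𝒜) n (op N)), ∀ (y : ProjectiveSpectrum ℬ)
          (hy : ProjectiveSpectrum.comap ψ hψ y ∈ N) (hy' : y ∈ V),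
          GrTwist.locMap ψ hψ y (s.1 ⟨_, hy⟩).1 = (s'.1 ⟨y, hy'⟩).1 := by
      rintro ⟨x, hx⟩
      obtain ⟨y, rfl⟩ := hrange hx
      obtain ⟨W, hyW, iWV, i, j, ⟨b, hb⟩, ⟨t, ht⟩, htW, hij, hfrac⟩ := s'.2 ⟨y, hVU hx⟩
      change (i : ℤ) = j + n ∨ b = 0 at hij
      obtain ⟨k, a₀, ha₀, hka⟩ := exists_eq_map ψ c hloc hb
      obtain ⟨l, t₀, ht₀, hlt⟩ := exists_eq_map ψ c hloc ht
      let a : A := if b = 0 then 0 else (c : A) ^ l * a₀
      have ha : a ∈ 𝒜 i := by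
        simp only [a]
        split_ifs
        · exact zero_mem _
        · simpa using SetLike.mul_mem_graded (SetLike.pow_mem_graded l c.2) ha₀
      have hψa : ψ a = b * ψ (c : A) ^ (l + k) := by
        simp only [a]
        split_ifs with h
        · rw [h, zero_mul, map_zero]
        · rw [map_mul, map_pow, ← hka]; ring
      let s₀ : A := (c : A) ^ k * t₀
      have hs₀ : s₀ ∈ 𝒜 j := by simpa using SetLike.mul_mem_graded (SetLike.pow_mem_graded k c.2) ht₀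
      have hψs : ψ s₀ = t * ψ (c : A) ^ (l + k) := by
        simp only [s₀, map_mul, map_pow, ← hlt]; ring
      haveI := hoi
      let N : Opens (ProjectiveSpectrum.top 𝒜) := (Proj.map ψ hψ) ''ᵁ W
      have hN : ∀ z ∈ N, s₀ ∉ z.asHomogeneousIdeal := by
        rintro _ ⟨w, hw, rfl⟩ h
        refine map_notMem ψ c hloc (l + k) (htW ⟨w, hw⟩) ?_
        rw [← hψs]
        exact h
      have hNU : N ≤ U := by
        rintro _ ⟨w, hw, rfl⟩
        exact hUV (iWV.le hw)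
      refine ⟨N, ⟨y, hyW, rfl⟩, hNU, ⟨fun z => ⟨Localization.mk a ⟨s₀, hN z.1 z.2⟩, ?_⟩, fun z =>
        ⟨N, z.2, 𝟙 _, i, j, ⟨a, ha⟩, ⟨s₀, hs₀⟩, fun w => hN w.1 w.2, ?_, fun w => rfl⟩⟩, ?_⟩
      · rcases hij with hij | hij
        · exact Submodule.subset_span ⟨i, j, ⟨a, ha⟩, ⟨s₀, hs₀⟩, hN z.1 z.2, hij, rfl⟩
        · rw [show a = 0 from if_pos hij, Localization.mk_zero]
          exact zero_mem _
      · exact hij.imp id fun h => show a = 0 from if_pos h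
      · intro w hw hw'
        obtain ⟨w', hwW, hww⟩ := hw
        obtain rfl : w' = w := (Proj.map ψ hψ).isOpenEmbedding.injective hww
        refine (GrTwist.locMap_mk ψ hψ w' a _).trans ?_
        refine Eq.trans ?_ (hfrac ⟨w', hwW⟩).symm
        rw [Localization.mk_eq_mk_iff, Localization.r_iff_exists]
        refine ⟨1, ?_⟩
        simp only [OneMemClass.coe_one, one_mul, hψa, hψs]
        ring
    choose N hxN hNU s hs using hloc'
    obtain ⟨s₁, hs₁, -⟩ := TopCat.Sheaf.existsUnique_gluing'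
      ⟨(GrTwist.twist 𝒜 n).presheaf, (GrTwist.twist 𝒜 n).isSheaf⟩ N U (fun x => homOfLE (hNU x))
      (fun x hx => Opens.mem_iSup.2 ⟨⟨x, hx⟩, hxN ⟨x, hx⟩⟩) s (fun x x' => by
        refine inj (N x ⊓ N x') _ _ (fun z hz => hrange (hNU x hz.1)) fun y hy => ?_
        exact (hs x y hy.1 (hVU (hNU x hy.1))).trans (hs x' y hy.2 (hVU (hNU x hy.1))).symm)
    refine ⟨s₁, Subtype.ext (funext fun y => Subtype.ext ?_)⟩
    have hy := hUV y.2
    refine Eq.trans ?_ (hs ⟨_, hy⟩ y.1 (hxN ⟨_, hy⟩) y.2)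
    rw [← hs₁ ⟨_, hy⟩]
    rfl

theorem locMap_id (hψ : 𝒜₊ ≤ (𝒜₊).map (GradedRingHom.id 𝒜)) (y : ProjectiveSpectrum 𝒜)
    (q : GrTwist.Loc 𝒜 y) : GrTwist.locMap (GradedRingHom.id 𝒜) hψ y q = q := by
  induction q using Localization.induction_on with
  | H q => exact GrTwist.locMap_mk (GradedRingHom.id 𝒜) hψ y q.1 q.2

theorem comapApp_id {ψ : 𝒜 →+*ᵍ 𝒜} (e : ψ = GradedRingHom.id 𝒜) (hψ : 𝒜₊ ≤ (𝒜₊).map ψ)
    (U V : Opens (ProjectiveSpectrum.top 𝒜)) (h : V.1 ⊆ ProjectiveSpectrum.comap ψ hψ ⁻¹' U.1) (hVU : V ≤ U)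
    (s : GrTwist.sectN (𝒜 := 𝒜) n (op U)) (y : V) :
    ((GrTwist.comapApp ψ hψ n U V h s).1 y).1 = (s.1 ⟨y.1, hVU y.2⟩).1 := by
  subst e
  exact (GrTwist.comapApp_apply_coe (GradedRingHom.id 𝒜) hψ n U V h s y).trans (locMap_id hψ y.1 _)

variable {C σC : Type u} [CommRing C] [SetLike σC C] [AddSubgroupClass σC C] {𝒞 : ℕ → σC} [GradedRing 𝒞]

theorem locMap_comp (ψ' : ℬ →+*ᵍ 𝒞) (hψ' : 𝒞₊ ≤ (ℬ₊).map ψ') (hχ : 𝒞₊ ≤ (𝒜₊).map (ψ'.comp ψ))
    (y : ProjectiveSpectrum 𝒞)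
    (q : GrTwist.Loc 𝒜 (ProjectiveSpectrum.comap ψ hψ (ProjectiveSpectrum.comap ψ' hψ' y))) :
    GrTwist.locMap ψ' hψ' y (GrTwist.locMap ψ hψ (ProjectiveSpectrum.comap ψ' hψ' y) q) =
      GrTwist.locMap (ψ'.comp ψ) hχ y q := by
  induction q using Localization.induction_on with
  | H q =>
    obtain ⟨a, t⟩ := q
    exact (congrArg (GrTwist.locMap ψ' hψ' y) (GrTwist.locMap_mk ψ hψ _ a t)).trans
      ((GrTwist.locMap_mk ψ' hψ' y (ψ a) _).trans (GrTwist.locMap_mk (ψ'.comp ψ) hχ y a t).symm)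

theorem comapApp_comp (ψ' : ℬ →+*ᵍ 𝒞) (hψ' : 𝒞₊ ≤ (ℬ₊).map ψ') {χ : 𝒜 →+*ᵍ 𝒞} (e : χ = ψ'.comp ψ)
    (hχ : 𝒞₊ ≤ (𝒜₊).map χ) (U : Opens (ProjectiveSpectrum.top 𝒜)) (V : Opens (ProjectiveSpectrum.top ℬ))
    (W : Opens (ProjectiveSpectrum.top 𝒞)) (h₁ : V.1 ⊆ ProjectiveSpectrum.comap ψ hψ ⁻¹' U.1)
    (h₂ : W.1 ⊆ ProjectiveSpectrum.comap ψ' hψ' ⁻¹' V.1) (h₃ : W.1 ⊆ ProjectiveSpectrum.comap χ hχ ⁻¹' U.1)
    (s : GrTwist.sectN (𝒜 := 𝒜) n (op U)) :
    GrTwist.comapApp ψ' hψ' n V W h₂ (GrTwist.comapApp ψ hψ n U V h₁ s) = GrTwist.comapApp χ hχ n U W h₃ s := by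
  subst e
  exact Subtype.ext (funext fun y => Subtype.ext (locMap_comp ψ hψ ψ' hψ' hχ y.1 _))

end graded

section transfer

variable {A σA B σB : Type u} [CommRing A] [SetLike σA A] [AddSubgroupClass σA A] {𝒜 : ℕ → σA} [GradedRing 𝒜]
  [CommRing B] [SetLike σB B] [AddSubgroupClass σB B] {ℬ : ℕ → σB} [GradedRing ℬ]
  (ψ : 𝒜 →+*ᵍ ℬ) (hψ : ℬ₊ ≤ (𝒜₊).map ψ) (n : ℤ) {P : Scheme.{u}} (eA : Proj 𝒜 ⟶ P) (eB : Proj ℬ ⟶ P)
  (he : Proj.map ψ hψ ≫ eA = eB)

/-- The comparison of twisting sheaves, pushed forward to a scheme receiving both. -/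
def transfer : (Scheme.Modules.pushforward eA).obj (GrTwist.twist 𝒜 n) ⟶
    (Scheme.Modules.pushforward eB).obj (GrTwist.twist ℬ n) :=
  (Scheme.Modules.pushforward eA).map (GrTwist.comap ψ hψ n) ≫
    (Scheme.Modules.pushforwardComp (Proj.map ψ hψ) eA).hom.app _ ≫
    (Scheme.Modules.pushforwardCongr he).hom.app _

include he in
theorem preimage_le (W : P.Opens) :
    (eB ⁻¹ᵁ W : (Proj ℬ).Opens).1 ⊆ ProjectiveSpectrum.comap ψ hψ ⁻¹' (eA ⁻¹ᵁ W : (Proj 𝒜).Opens).1 := by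
  subst he
  exact fun y hy => hy

theorem transfer_app (W : P.Opens) (s : GrTwist.sectN (𝒜 := 𝒜) n (op (eA ⁻¹ᵁ W))) :
    (transfer ψ hψ n eA eB he).app W s =
      GrTwist.comapApp ψ hψ n (eA ⁻¹ᵁ W) (eB ⁻¹ᵁ W) (preimage_le ψ hψ eA eB he W) s := by
  subst he
  rfl

end transfer

section relative

open RelProj Scheme.AffineZariskiSite

variable {Y P : Scheme.{u}} {𝒮 : RelProj.QCGrAlg Y} {p : P ⟶ Y}
  {chart : ∀ (U : Y.Opens) (hU : IsAffineOpen U), (((p ⁻¹ᵁ U : P.Opens) : Scheme.{u}) ≅ Proj (𝒮.deg U hU))}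

theorem map_res_emb_site (hP : RelProj.IsRelProj 𝒮 p chart) {U V : Y.AffineZariskiSite} (i : V ≤ U) :
    Proj.map (𝒮.res U.2 V.2 (toOpens_mono i)) (Groth.Agent.H11Proj.site_irrelevant_le 𝒮 i) ≫ emb p chart U.1 U.2 =
      emb p chart V.1 V.2 := by
  obtain ⟨V, hV⟩ := V
  obtain ⟨r, hr⟩ := i
  change Y.basicOpen r = V at hr
  subst hr
  exact map_res_emb hP U.1 U.2 r

/-- The diagram of the chartwise twisting sheaves, pushed forward to `P`. -/
def twistDiagram (hP : RelProj.IsRelProj 𝒮 p chart) (n : ℤ) : Y.AffineZariskiSiteᵒᵖ ⥤ P.Modules where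
  obj U := (Scheme.Modules.pushforward (emb p chart U.unop.1 U.unop.2)).obj (GrTwist.twist (𝒮.deg U.unop.1 U.unop.2) n)
  map {U V} i := transfer (𝒮.res U.unop.2 V.unop.2 (toOpens_mono i.unop.le))
    (Groth.Agent.H11Proj.site_irrelevant_le 𝒮 i.unop.le) n _ _ (map_res_emb_site hP i.unop.le)
  map_id U := by
    refine Scheme.Modules.hom_ext _ _ fun W => ?_
    ext s
    refine (transfer_app _ _ n _ _ _ W s).trans (Subtype.ext (funext fun y => Subtype.ext ?_))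
    exact comapApp_id n (Groth.Agent.H11Proj.res_self 𝒮 U.unop.2) _ _ _ _ le_rfl s y
  map_comp {U V T} i j := by
    refine Scheme.Modules.hom_ext _ _ fun W => ?_
    ext s
    refine (transfer_app _ _ n _ _ _ W s).trans ?_
    refine Eq.trans ?_ (transfer_app _ _ n _ _ (map_res_emb_site hP j.unop.le) W _).symm
    refine Eq.trans ?_ (congrArg _ (transfer_app _ _ n _ _ (map_res_emb_site hP i.unop.le) W s).symm)
    exact (comapApp_comp _ (Groth.Agent.H11Proj.site_irrelevant_le 𝒮 i.unop.le) n _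
      (Groth.Agent.H11Proj.site_irrelevant_le 𝒮 j.unop.le)
      (Groth.Agent.H11Proj.res_trans 𝒮 U.unop.2 V.unop.2 T.unop.2 (toOpens_mono i.unop.le) (toOpens_mono j.unop.le))
      _ _ _ _ _ _ _ s).symm

theorem twistDiagram_supp (hP : RelProj.IsRelProj 𝒮 p chart) (n : ℤ) (U : Y.AffineZariskiSite) (W : P.Opens) :
    Function.Bijective (((twistDiagram hP n).obj (op U)).presheaf.map
      (homOfLE (inf_le_left : W ⊓ p ⁻¹ᵁ U.1 ≤ W)).op) := by
  let j := emb p chart U.1 U.2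
  have e : j ⁻¹ᵁ (W ⊓ p ⁻¹ᵁ U.1) = j ⁻¹ᵁ W := by
    refine le_antisymm (j.preimage_mono inf_le_left) fun y hy => ?_
    exact ⟨hy, (opensRange_emb p chart U.1 U.2).le ⟨y, rfl⟩⟩
  haveI : IsIso (homOfLE (j.preimage_mono (inf_le_left : W ⊓ p ⁻¹ᵁ U.1 ≤ W))) := homOfLE_isIso_of_eq _ e
  exact ConcreteCategory.bijective_of_isIso
    ((GrTwist.twist (𝒮.deg U.1 U.2) n).presheaf.map
      (homOfLE (j.preimage_mono (inf_le_left : W ⊓ p ⁻¹ᵁ U.1 ≤ W))).op)

theorem twistDiagram_bij (hP : RelProj.IsRelProj 𝒮 p chart) (n : ℤ) {U V : Y.AffineZariskiSite} (i : V ⟶ U)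
    (W : P.Opens) (hW : W ≤ p ⁻¹ᵁ V.1) : Function.Bijective (((twistDiagram hP n).map i.op).app W) := by
  have hi := i.le
  let ψ := 𝒮.res U.2 V.2 (toOpens_mono hi)
  have hψ := Groth.Agent.H11Proj.site_irrelevant_le 𝒮 hi
  have he := map_res_emb_site (chart := chart) hP hi
  obtain ⟨r, hr⟩ : ∃ r : Γ(Y, U.1), Y.basicOpen r = V.1 := hi
  have hloc : letI := ψ.toRingHom.toAlgebra
      IsLocalization.Away ((𝒮.str.app (op U.1)).hom r) (𝒮.presheaf.obj (op V.1)) := by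
    obtain ⟨V, hV⟩ := V
    change Y.basicOpen r = V at hr
    subst hr
    exact 𝒮.isQC U.1 U.2 r
  let eU := emb p chart U.1 U.2
  let eV := emb p chart V.1 V.2
  have hb := comapApp_bijective ψ hψ ⟨(𝒮.str.app (op U.1)).hom r, 𝒮.str_mem U.1 U.2 r⟩ hloc n (eU ⁻¹ᵁ W) (eV ⁻¹ᵁ W)
    (preimage_le ψ hψ eU eV he W) (fun y hy => by
      change eV.base y ∈ W
      rw [show eV = Proj.map ψ hψ ≫ eU from he.symm]
      exact hy) (fun z hz => by
      obtain ⟨y, hy⟩ := (opensRange_emb p chart V.1 V.2).ge (hW hz)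
      refine ⟨y, eU.isOpenEmbedding.injective ?_⟩
      rw [← hy]
      exact congr($(he).base y))
  refine Eq.mpr (congrArg Function.Bijective (funext fun s => ?_)) hb
  exact transfer_app ψ hψ n eU eV he W s

/-- The twisting sheaf on a relative Proj exists. -/
theorem exists_isRelTwist (hP : RelProj.IsRelProj 𝒮 p chart) (n : ℤ) :
    ∃ (L : P.Modules) (lam : ∀ (U : Y.Opens) (hU : IsAffineOpen U),
      L ⟶ (Scheme.Modules.pushforward (RelProj.emb p chart U hU)).obj (GrTwist.twist (𝒮.deg U hU) n)),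
      RelProj.IsRelTwist 𝒮 p chart n L lam := by
  let G := twistDiagram hP n
  refine ⟨limit G, fun U hU => limit.π G (op ⟨U, hU⟩), fun U hU W hW =>
    bijective_limit_π p G (twistDiagram_supp hP n) (twistDiagram_bij hP n) ⟨U, hU⟩ W hW, ?_⟩
  intro U hU r W s y hy hy'
  let U₀ : Y.AffineZariskiSite := ⟨U, hU⟩
  let i : U₀.basicOpen r ⟶ U₀ := homOfLE (Scheme.AffineZariskiSite.basicOpen_le U₀ r)
  have h := congr($(congrArg (fun φ => Scheme.Modules.Hom.app φ W) (limit.w G i.op)) s)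
  have h' := h.symm.trans (transfer_app _ _ n _ _ (map_res_emb_site hP i.le) W ((limit.π G (op ⟨U, hU⟩)).app W s))
  exact congrArg (fun (z : GrTwist.sectN (𝒜 := 𝒮.deg (Y.basicOpen r) (hU.basicOpen r)) n
    (op (emb p chart (Y.basicOpen r) (hU.basicOpen r) ⁻¹ᵁ W))) => (z.1 ⟨y, hy⟩).1) h'

end relative

end Groth.Agent.H11Tilde
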