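import Groth.Agent.H11Tilde.QCoh
import Groth.Agent.H11Tilde.Gen
import Groth.Prelude.Def_Pic

/-!
# `O(nd)` is trivial on `D₊(f)`, `f` of degree `d`
-/

set_option autoImplicit false

noncomputable section

universe u

open CategoryTheory AlgebraicGeometry TopologicalSpace Opposite

namespace Groth.Agent.H11Tilde

open GrMod

variable {A σA : Type u} [CommRing A] [SetLike σA A] [AddSubgroupClass σA A] (𝒜 : ℕ → σA) [GradedRing 𝒜]

theorem bijective_smul_gen {V : (Proj 𝒜).Opens} {n : ℤ} {p q : ℕ} {a b : A} (ha : a ∈ 𝒜 p) (hb : b ∈ 𝒜 q)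
    (hax : ∀ x ∈ V, a ∉ x.asHomogeneousIdeal) (hbx : ∀ x ∈ V, b ∉ x.asHomogeneousIdeal)
    (hdeg : (p : ℤ) = q + n) (g : Γ(tilde 𝒜 𝒜 n, V))
    (hg : ∀ x : V, sval 𝒜 𝒜 g x = fracAt 𝒜 x.1 a b (hbx x.1 x.2)) :
    Function.Bijective fun r : Γ(Proj 𝒜, V) => r • g := by
  classical
  constructor
  · intro r r' h
    apply Subtype.ext
    funext x
    apply HomogeneousLocalization.val_injective
    have h1 := congrArg (fun t => sval 𝒜 𝒜 t x) h
    simp only [sval_smul, hg x] at h1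
    have hu : IsUnit (Localization.mk a ⟨b, hbx x.1 x.2⟩ : GrTwist.Loc 𝒜 x.1) :=
      (isUnit_mk_iff 𝒜 x.1 a _).2 (hax x.1 x.2)
    exact hu.mul_left_injective h1
  · intro s
    have key : ∀ x : V, ∃ c : GrTwist.A0 𝒜 x.1, c.val * Localization.mk a ⟨b, hbx x.1 x.2⟩ = sval 𝒜 𝒜 s x := by
      intro x
      rcases exists_eq_fracAt_of_mem 𝒜 𝒜 x.1 ((show sect 𝒜 𝒜 n (op V) from s).1 x) with
        h0 | ⟨i, j, m, t, ht, hm, htj, hd, hq⟩
      · refine ⟨0, ?_⟩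
        rw [HomogeneousLocalization.val_zero, zero_mul]
        exact h0.symm
      · refine ⟨HomogeneousLocalization.mk ⟨j + p, ⟨m * b, ?_⟩,
          ⟨t * a, SetLike.mul_mem_graded htj ha⟩, mul_notMem 𝒜 ht (hax x.1 x.2)⟩, ?_⟩
        · have : i + q = j + p := by omega
          exact this ▸ SetLike.mul_mem_graded hm hb
        · rw [HomogeneousLocalization.val_mk, Localization.mk_mul]
          refine Eq.trans ?_ hq.symm
          refine Localization.mk_eq_mk_iff.2 (Localization.r_iff_exists.2 ⟨1, ?_⟩)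
          simp only [OneMemClass.coe_one, one_mul, Submonoid.coe_mul]
          ring
    choose c hc using key
    refine ⟨⟨c, fun x => ?_⟩, sval_ext 𝒜 𝒜 fun x => ?_⟩
    · obtain ⟨W, hxW, iW, i, j, ⟨m, hm⟩, ⟨t, htj⟩, tnin, hd, hw⟩ := (show sect 𝒜 𝒜 n (op V) from s).2 x
      replace hd : (i : ℤ) = j + n ∨ m = 0 := hd
      have hmem : m * b ∈ 𝒜 (j + p) := by
        rcases hd with hd | hd
        · have : i + q = j + p := by omega
          exact this ▸ SetLike.mul_mem_graded hm hb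
        · rw [hd, zero_mul]; exact zero_mem _
      refine ⟨W, hxW, iW, j + p, ⟨m * b, hmem⟩, ⟨t * a, SetLike.mul_mem_graded htj ha⟩,
        fun y => mul_notMem 𝒜 (tnin y) (hax _ (iW.le y.2)), fun y => ?_⟩
      apply HomogeneousLocalization.val_injective
      have hu : IsUnit (Localization.mk a ⟨b, hbx y.1 (iW.le y.2)⟩ : GrTwist.Loc 𝒜 y.1) :=
        (isUnit_mk_iff 𝒜 y.1 a _).2 (hax y.1 (iW.le y.2))
      refine hu.mul_left_injective ?_
      refine ((hc ⟨y.1, iW.le y.2⟩).trans (hw y)).trans ?_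
      beta_reduce
      rw [HomogeneousLocalization.val_mk, Localization.mk_mul]
      change (Localization.mk m ⟨t, tnin y⟩ : GrTwist.Loc 𝒜 y.1) = _
      refine Localization.mk_eq_mk_iff.2 (Localization.r_iff_exists.2 ⟨1, ?_⟩)
      simp only [OneMemClass.coe_one, one_mul, Submonoid.coe_mul]
      ring
    · rw [sval_smul, hg x]
      exact hc x

theorem nonempty_twist_restrict_iso {f : A} {d : ℕ} (hf : f ∈ 𝒜 d) (n : ℤ) (U : (Proj 𝒜).Opens)
    (hU : U ≤ Proj.basicOpen 𝒜 f) :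
    Nonempty ((GrTwist.twist 𝒜 (n * d)).restrict U.ι ≅ Coh.structureModule (↑U : Scheme.{u})) := by
  have hdeg : ((n.toNat * d : ℕ) : ℤ) = ((-n).toNat * d : ℕ) + n * d := by
    have := Int.toNat_sub_toNat_neg n
    push_cast
    rw [← add_mul]
    congr 1
    omega
  refine nonempty_iso_structureModule (tilde 𝒜 𝒜 (n * d)) U
    (secOf 𝒜 𝒜 (SetLike.pow_mem_graded n.toNat hf) (SetLike.pow_mem_graded (-n).toNat hf) (V := U)
      (fun x hx => pow_notMem 𝒜 (hU hx) _) hdeg) fun V hV => ?_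
  exact bijective_smul_gen 𝒜 (SetLike.pow_mem_graded n.toNat hf) (SetLike.pow_mem_graded (-n).toNat hf)
    (fun x hx => pow_notMem 𝒜 (hU (hV hx)) _) (fun x hx => pow_notMem 𝒜 (hU (hV hx)) _) hdeg _ fun x => rfl

theorem nonempty_twist_restrict_iso_of_frac {i j d : ℕ} {a b : A} (ha : a ∈ 𝒜 i) (hb : b ∈ 𝒜 j) (hij : i = j + d)
    (n : ℤ) (U : (Proj 𝒜).Opens) (hU : U ≤ Proj.basicOpen 𝒜 (a * b)) :
    Nonempty ((GrTwist.twist 𝒜 (n * d)).restrict U.ι ≅ Coh.structureModule (↑U : Scheme.{u})) := by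
  have hax : ∀ x ∈ U, a ∉ x.asHomogeneousIdeal := fun x hx h =>
    hU hx (x.asHomogeneousIdeal.toIdeal.mul_mem_right _ h)
  have hbx : ∀ x ∈ U, b ∉ x.asHomogeneousIdeal := fun x hx h =>
    hU hx (x.asHomogeneousIdeal.toIdeal.mul_mem_left _ h)
  let p := n.toNat
  let q := (-n).toNat
  have ha' : a ^ p * b ^ q ∈ 𝒜 (p * i + q * j) :=
    SetLike.mul_mem_graded (SetLike.pow_mem_graded p ha) (SetLike.pow_mem_graded q hb)
  have hb' : b ^ p * a ^ q ∈ 𝒜 (p * j + q * i) :=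
    SetLike.mul_mem_graded (SetLike.pow_mem_graded p hb) (SetLike.pow_mem_graded q ha)
  have hdeg : ((p * i + q * j : ℕ) : ℤ) = ((p * j + q * i : ℕ) : ℤ) + n * d := by
    have : (p : ℤ) - q = n := Int.toNat_sub_toNat_neg n
    rw [← this, hij]
    push_cast
    ring
  refine nonempty_iso_structureModule (tilde 𝒜 𝒜 (n * d)) U
    (secOf 𝒜 𝒜 ha' hb' (V := U)
      (fun x hx => mul_notMem 𝒜 (pow_notMem 𝒜 (hbx x hx) _) (pow_notMem 𝒜 (hax x hx) _)) hdeg) fun V hV => ?_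
  exact bijective_smul_gen 𝒜 ha' hb'
    (fun x hx => mul_notMem 𝒜 (pow_notMem 𝒜 (hax x (hV hx)) _) (pow_notMem 𝒜 (hbx x (hV hx)) _))
    (fun x hx => mul_notMem 𝒜 (pow_notMem 𝒜 (hbx x (hV hx)) _) (pow_notMem 𝒜 (hax x (hV hx)) _))
    hdeg _ fun x => rfl

theorem isInvertible_twist_restrict {d : ℕ} (n : ℤ) (U : (Proj 𝒜).Opens)
    (hU : ∀ x ∈ U, ∃ f ∈ 𝒜 d, f ∉ x.asHomogeneousIdeal) :
    PicF.IsInvertible ((GrTwist.twist 𝒜 (n * d)).restrict U.ι) := by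
  intro y
  obtain ⟨f, hf, hfy⟩ := hU y.1 y.2
  let W : (↑U : Scheme.{u}).Opens := U.ι ⁻¹ᵁ Proj.basicOpen 𝒜 f
  refine ⟨W, hfy, ?_⟩
  obtain ⟨e⟩ := nonempty_twist_restrict_iso 𝒜 hf n (U.ι ''ᵁ W) (U.ι.image_preimage_eq_opensRange_inf _ ▸ inf_le_right)
  let i := (U.ι.isoImage W)
  have hi : W.ι ≫ U.ι = i.hom ≫ (U.ι ''ᵁ W).ι := (U.ι.isoImage_hom_ι W).symm
  exact ⟨(Scheme.Modules.restrictFunctorComp W.ι U.ι).symm.app _ ≪≫
    (Scheme.Modules.restrictFunctorCongr hi).app _ ≪≫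
    (Scheme.Modules.restrictFunctorComp i.hom (U.ι ''ᵁ W).ι).app _ ≪≫
    (Scheme.Modules.restrictFunctor i.hom).mapIso e ≪≫ Scheme.Modules.restrictUnitIso i.hom⟩

end Groth.Agent.H11Tilde
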