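import Groth.Agent.H11Tilde.RelMap
import Groth.Agent.H11Proj.Graded
import Groth.Agent.H10Coh.FinType2

/-!
# Sections of `M(n)~` over `D₊(f)` are finitely generated when a tail of `M` is
-/

set_option autoImplicit false

noncomputable section

universe u

open CategoryTheory CategoryTheory.Limits AlgebraicGeometry Opposite TopologicalSpace

namespace Groth.Agent.H11Tilde

variable {A σA : Type u} [CommRing A] [SetLike σA A] [AddSubgroupClass σA A] (𝒜 : ℕ → σA) [GradedRing 𝒜]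

/-- Homogeneous elements are combinations of monomials in homogeneous generators of the irrelevant ideal. -/
theorem mem_closure_monomials {ι : Type*} [Fintype ι] [DecidableEq ι] (g : ι → A) (dg : ι → ℕ)
    (hg : ∀ j, g j ∈ 𝒜 (dg j)) (hpos : ∀ j, 0 < dg j)
    (hspan : (HomogeneousIdeal.irrelevant 𝒜).toIdeal ≤ Ideal.span (Set.range g)) {q : ℕ} {a : A} (ha : a ∈ 𝒜 q) :
    a ∈ AddSubmonoid.closure
      {y : A | ∃ α : ι → ℕ, ∃ c ∈ 𝒜 0, ∑ j, α j * dg j = q ∧ y = c * ∏ j, g j ^ α j} := by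
  classical
  induction q using Nat.strong_induction_on generalizing a with
  | _ q ih =>
    rcases Nat.eq_zero_or_pos q with rfl | hq
    · exact AddSubmonoid.subset_closure ⟨fun _ => 0, a, ha, by simp, by simp⟩
    · let deg : A → ℕ := fun e => if h : ∃ j, g j = e then dg h.choose else 0
      have hdeg : ∀ e ∈ Set.range g, e ∈ 𝒜 (deg e) := by
        intro e he
        obtain ⟨h, hdef⟩ : ∃ h : ∃ j, g j = e, deg e = dg h.choose := ⟨he, dif_pos he⟩
        rw [hdef]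
        have := hg h.choose
        rwa [h.choose_spec] at this
      have h := H11Proj.mem_closure_of_mem_span 𝒜 deg hdeg ha (hspan (H11Proj.mem_irrelevant_of_pos 𝒜 hq ha))
      refine AddSubmonoid.closure_induction ?_ (zero_mem _) (fun a b _ _ ha hb => add_mem ha hb) h
      rintro y ⟨e, he, l, c, hc, hl, rfl⟩
      have hex : ∃ j, g j = e := he
      obtain ⟨j, hje, hjd⟩ : ∃ j, g j = e ∧ deg e = dg j := ⟨hex.choose, hex.choose_spec, dif_pos hex⟩
      have := hpos j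
      have hmem := ih l (by omega) hc
      refine AddSubmonoid.closure_induction (motive := fun y _ => y * e ∈ _) ?_ (by simp)
        (fun a b _ _ ha hb => by rw [add_mul]; exact add_mem ha hb) hmem
      rintro y ⟨α, c₀, hc₀, hα, rfl⟩
      refine AddSubmonoid.subset_closure ⟨Function.update α j (α j + 1), c₀, hc₀, ?_, ?_⟩
      · have h1 : ∀ i ∈ Finset.univ.erase j, Function.update α j (α j + 1) i * dg i = α i * dg i := fun i hi => by
          rw [Function.update_of_ne (Finset.ne_of_mem_erase hi)]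
        rw [← Finset.add_sum_erase _ _ (Finset.mem_univ j), Finset.sum_congr rfl h1, Function.update_self]
        rw [← Finset.add_sum_erase _ _ (Finset.mem_univ j)] at hα
        rw [add_mul, one_mul]
        omega
      · have h1 : ∀ i ∈ Finset.univ.erase j, g i ^ Function.update α j (α j + 1) i = g i ^ α i := fun i hi => by
          rw [Function.update_of_ne (Finset.ne_of_mem_erase hi)]
        rw [← Finset.mul_prod_erase Finset.univ (fun i => g i ^ Function.update α j (α j + 1) i) (Finset.mem_univ j),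
          Finset.prod_congr rfl h1, ← Finset.mul_prod_erase Finset.univ (fun i => g i ^ α i) (Finset.mem_univ j),
          Function.update_self, ← hje, pow_succ]
        ring

theorem fval_awayToSection' {f : A} {d : ℕ} (hf : f ∈ 𝒜 d) (k : ℕ) (a : A) (ha : a ∈ 𝒜 (k * d)) :
    ∃ r : Γ(Proj 𝒜, Proj.basicOpen 𝒜 f), ∀ (x : Proj.basicOpen 𝒜 f) (hx : f ^ k ∉ x.1.asHomogeneousIdeal),
      fval 𝒜 r x = Localization.mk a ⟨f ^ k, hx⟩ :=
  ⟨Proj.awayToSection 𝒜 f (HomogeneousLocalization.Away.mk 𝒜 hf k a (by simpa using ha)),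
    fun x _ => fval_awayToSection 𝒜 hf k a (by simpa using ha) x⟩

/-- Generation by degree one with finitely generated degree one piece gives a finitely generated irrelevant ideal. -/
theorem irrelevant_fg_of_genDegOne (hgen : Subring.closure ((𝒜 0 : Set A) ∪ (𝒜 1 : Set A)) = ⊤) (T : Finset A)
    (hT : (T : Set A) ⊆ 𝒜 1) (hspan : ∀ x ∈ 𝒜 1, x ∈ Ideal.span (T : Set A)) :
    (HomogeneousIdeal.irrelevant 𝒜).toIdeal.FG := by
  have hE : (𝒜 1 : Set A) ⊆ H11Proj.posHom 𝒜 := fun a ha => ⟨1, Nat.one_pos, ha⟩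
  have htop : Algebra.adjoin (𝒜 0) (𝒜 1 : Set A) = ⊤ := by
    refine top_le_iff.1 fun x _ => ?_
    have h : Subring.closure ((𝒜 0 : Set A) ∪ (𝒜 1 : Set A)) ≤ (Algebra.adjoin (𝒜 0) (𝒜 1 : Set A)).toSubring := by
      rw [Subring.closure_le]
      rintro a (ha | ha)
      · exact Subalgebra.algebraMap_mem (Algebra.adjoin (𝒜 0) (𝒜 1 : Set A)) ⟨a, ha⟩
      · exact Algebra.subset_adjoin ha
    exact h (hgen ▸ Subring.mem_top x)
  refine ⟨T, le_antisymm ?_ ((H11Proj.irrelevant_le_span_of_adjoin_eq_top 𝒜 hE htop).trans (Ideal.span_le.2 hspan))⟩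
  exact H11Proj.span_le_irrelevant 𝒜 (hT.trans hE)

variable {M τ : Type u} [AddCommGroup M] [Module A M] [SetLike τ M] [AddSubgroupClass τ M] (ℳ : ℕ → τ)
  [DirectSum.Decomposition ℳ] [SetLike.GradedSMul 𝒜 ℳ]

theorem sval_add {n : ℤ} {U : (Proj 𝒜).Opens} (s t : Γ(GrMod.tilde 𝒜 ℳ n, U)) (x : U) :
    sval 𝒜 ℳ (s + t) x = sval 𝒜 ℳ s x + sval 𝒜 ℳ t x := rfl

theorem finite_sections_basicOpen (hfg : (HomogeneousIdeal.irrelevant 𝒜).toIdeal.FG)
    (hTF : ∃ n₀ : ℕ, (Submodule.span A (⋃ k ∈ Set.Ici n₀, (ℳ k : Set M))).FG)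
    (n : ℤ) {d : ℕ} (hd : 0 < d) {f : A} (hf : f ∈ 𝒜 d) :
    Module.Finite Γ(Proj 𝒜, Proj.basicOpen 𝒜 f) Γ(GrMod.tilde 𝒜 ℳ n, Proj.basicOpen 𝒜 f) := by
  classical
  obtain ⟨E, hE, hEspan⟩ := H11Proj.exists_finset_posHom_of_fg 𝒜 hfg
  obtain ⟨dg, hdg, hpos⟩ := H11Proj.exists_degree_fun 𝒜 hE
  obtain ⟨n₀, hn₀⟩ := hTF
  obtain ⟨T, hT, hspanT⟩ := (Submodule.fg_span_iff_fg_span_finset_subset _).1 hn₀
  choose deg hdeg' hdeg using fun z : (T : Set M) => Set.mem_iUnion₂.1 (hT z.2)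
  let g : ↥(E : Set A) → A := fun e => e.1
  let dE : ↥(E : Set A) → ℕ := fun e => dg e.1
  have hg : ∀ e, g e ∈ 𝒜 (dE e) := fun e => hdg _ e.2
  let r := n.natAbs
  have key : ∀ (γ : ↥(E : Set A) → Fin d) (z : (T : Set M)), ∃ G : Γ(GrMod.tilde 𝒜 ℳ n, Proj.basicOpen 𝒜 f),
      ∀ (l : ℕ), ((l : ℤ) - r) * d + n = ((∑ j, (γ j : ℕ) * dE j) + deg z : ℕ) →
        ∀ (x : Proj.basicOpen 𝒜 f) (hx : f ^ l ∉ x.1.asHomogeneousIdeal),
          sval 𝒜 ℳ G x = fracAt 𝒜 x.1 ((f ^ r * ∏ j, g j ^ (γ j : ℕ)) • z.1) (f ^ l) hx := by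
    intro γ z
    by_cases h : ∃ l : ℕ, ((l : ℤ) - r) * d + n = ((∑ j, (γ j : ℕ) * dE j) + deg z : ℕ)
    · obtain ⟨l, hl⟩ := h
      have hmem : (f ^ r * ∏ j, g j ^ (γ j : ℕ)) • z.1 ∈ ℳ (r * d + (∑ j, (γ j : ℕ) * dE j) + deg z) := by
        refine SetLike.GradedSMul.smul_mem (SetLike.mul_mem_graded (SetLike.pow_mem_graded r hf) ?_) (hdeg z)
        simpa using SetLike.prod_pow_mem_graded 𝒜 (F := Finset.univ) dE g (fun j => (γ j : ℕ)) (fun j _ => hg j)
      refine ⟨secOf 𝒜 ℳ hmem (SetLike.pow_mem_graded l hf) (V := Proj.basicOpen 𝒜 f)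
        (fun x hx => pow_notMem 𝒜 hx _) (by simp only [smul_eq_mul]; push_cast at hl ⊢; linarith), ?_⟩
      intro l' hl' x hx
      have hll : l' = l := by
        have h1 : ((l' : ℤ) - r) * d = ((l : ℤ) - r) * d := by linarith
        have h2 := mul_right_cancel₀ (by exact_mod_cast hd.ne') h1
        omega
      subst hll
      rfl
    · exact ⟨0, fun l hl => absurd ⟨l, hl⟩ h⟩
  choose G hG using key
  refine ⟨⟨Finset.univ.image (fun p : (↥(E : Set A) → Fin d) × (T : Set M) => G p.1 p.2),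
    Submodule.eq_top_iff'.2 fun s => ?_⟩⟩
  let N := Submodule.span Γ(Proj 𝒜, Proj.basicOpen 𝒜 f)
    (↑(Finset.univ.image (fun p : (↥(E : Set A) → Fin d) × (T : Set M) => G p.1 p.2)) :
      Set Γ(GrMod.tilde 𝒜 ℳ n, Proj.basicOpen 𝒜 f))
  obtain ⟨k₀, i₀, m₀, hm₀, hi₀, hσ⟩ := exists_eq_fracAt 𝒜 ℳ hd hf s
  -- enlarge the exponent
  let k := n₀ + k₀
  have hm : f ^ n₀ • m₀ ∈ ℳ (n₀ * d + i₀) := SetLike.GradedSMul.smul_mem (SetLike.pow_mem_graded n₀ hf) hm₀
  have hi : ((n₀ * d + i₀ : ℕ) : ℤ) = k * d + n := by simp only [k]; push_cast; rw [hi₀]; ring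
  let P : M → Prop := fun y => ∃ t ∈ N, ∀ (x : Proj.basicOpen 𝒜 f) (hx : f ^ k ∉ x.1.asHomogeneousIdeal),
    sval 𝒜 ℳ t x = fracAt 𝒜 x.1 y (f ^ k) hx
  have hP0 : P 0 := ⟨0, zero_mem N, fun x hx => (sval_zero 𝒜 ℳ x).trans (fracAt_zero 𝒜 x.1 _ hx).symm⟩
  have hPadd : ∀ a b, P a → P b → P (a + b) := by
    rintro a b ⟨t, ht, h1⟩ ⟨t', ht', h2⟩
    refine ⟨t + t', add_mem ht ht', fun x hx => ?_⟩
    rw [sval_add, h1 x hx, h2 x hx, fracAt, fracAt, fracAt, LocalizedModule.mk_add_mk]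
    refine fracAt_eq_of 𝒜 x.1 (mul_notMem 𝒜 hx hx) hx ?_
    change f ^ k • (f ^ k • a + f ^ k • b) = (f ^ k * f ^ k) • (a + b)
    rw [← smul_add, ← mul_smul]
  have hPmain : P (f ^ n₀ • m₀) := by
    have hmem : f ^ n₀ • m₀ ∈ Submodule.span A (T : Set M) := hspanT ▸
      Submodule.subset_span (Set.mem_iUnion₂.2 ⟨n₀ * d + i₀, le_add_right (Nat.le_mul_of_pos_right n₀ hd), hm⟩)
    obtain ⟨c, hc⟩ := Submodule.mem_span_finset'.1 hmem
    rw [← DirectSum.decompose_of_mem_same ℳ hm, ← hc, DirectSum.decompose_sum, DFinsupp.finsetSum_apply,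
      AddSubmonoidClass.coe_finsetSum]
    refine Finset.sum_induction _ P hPadd hP0 fun z _ => ?_
    rw [← DirectSum.sum_support_decompose 𝒜 (c z), Finset.sum_smul, DirectSum.decompose_sum,
      DFinsupp.finsetSum_apply, AddSubmonoidClass.coe_finsetSum]
    let z' : (T : Set M) := ⟨z.1, z.2⟩
    have hPq : ∀ q : ℕ, P (DirectSum.decompose ℳ ((DirectSum.decompose 𝒜 (c z) q : A) • z.1) (n₀ * d + i₀) : M) := by
      intro q
      have hq : (DirectSum.decompose 𝒜 (c z) q : A) • z.1 ∈ ℳ (q + deg z') :=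
        SetLike.GradedSMul.smul_mem (DirectSum.decompose 𝒜 (c z) q).2 (hdeg z')
      by_cases hqk : q + deg z' = n₀ * d + i₀
      · rw [DirectSum.decompose_of_mem_same ℳ (hqk ▸ hq)]
        have hmon := mem_closure_monomials 𝒜 g dE hg (fun e => hpos _ e.2)
          (by rw [hEspan]; exact Ideal.span_mono fun e he => ⟨⟨e, he⟩, rfl⟩)
          (DirectSum.decompose 𝒜 (c z) q).2
        refine AddSubmonoid.closure_induction (motive := fun y _ => P (y • z.1)) ?_ (by rw [zero_smul]; exact hP0)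
          (fun a b _ _ ha hb => by rw [add_smul]; exact hPadd _ _ ha hb) hmon
        rintro _ ⟨α, c₀, hc₀, hα, rfl⟩
        let γ : ↥(E : Set A) → Fin d := fun j => ⟨α j % d, Nat.mod_lt _ hd⟩
        let β : ↥(E : Set A) → ℕ := fun j => α j / d
        let w := ∑ j, β j * dE j
        have hαsum : ∑ j, α j * dE j = d * w + ∑ j, (γ j : ℕ) * dE j := by
          simp only [w, Finset.mul_sum, ← Finset.sum_add_distrib]
          refine Finset.sum_congr rfl fun j _ => ?_
          change α j * dE j = d * (α j / d * dE j) + α j % d * dE j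
          rw [← mul_assoc, ← add_mul, Nat.div_add_mod]
        have hαprod : ∏ j, g j ^ α j = (∏ j, g j ^ (d * β j)) * ∏ j, g j ^ (γ j : ℕ) := by
          rw [← Finset.prod_mul_distrib]
          refine Finset.prod_congr rfl fun j _ => ?_
          rw [← pow_add]
          exact congrArg _ (Nat.div_add_mod _ _).symm
        have hL : ((k : ℤ) - w) * d + n = ((∑ j, (γ j : ℕ) * dE j) + deg z' : ℕ) := by
          have h1 : ((q + deg z' : ℕ) : ℤ) = k * d + n := hqk ▸ hi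
          rw [← hα, hαsum] at h1
          push_cast at h1 ⊢
          linarith
        have hl0 : 0 ≤ (r : ℤ) + ((k : ℤ) - w) := by
          have hr : n ≤ (r : ℤ) := Int.le_natAbs
          have h0 : (0 : ℤ) ≤ ((∑ j, (γ j : ℕ) * dE j) + deg z' : ℕ) := Int.natCast_nonneg _
          by_contra hneg
          have h2 : ((k : ℤ) - w) * d ≤ -((r : ℤ) + 1) * d :=
            mul_le_mul_of_nonneg_right (by omega) (by positivity)
          have h3 : (r : ℤ) + 1 ≤ ((r : ℤ) + 1) * d := le_mul_of_one_le_right (by positivity) (by omega)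
          rw [neg_mul] at h2
          omega
        obtain ⟨l, hl⟩ : ∃ l : ℕ, (l : ℤ) = (r : ℤ) + ((k : ℤ) - w) := ⟨_, Int.toNat_of_nonneg hl0⟩
        have hb : c₀ * ∏ j, g j ^ (d * β j) ∈ 𝒜 (w * d) := by
          have h1 := SetLike.mul_mem_graded hc₀
            (SetLike.prod_pow_mem_graded 𝒜 (F := Finset.univ) dE g (fun j => d * β j) (fun j _ => hg j))
          have h2 : 0 + ∑ j, (d * β j) • dE j = w * d := by
            simp only [w, zero_add, smul_eq_mul, Finset.sum_mul]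
            exact Finset.sum_congr rfl fun j _ => by ring
          exact h2 ▸ h1
        obtain ⟨b, hb'⟩ := fval_awayToSection' 𝒜 hf w _ hb
        refine ⟨b • G γ z', N.smul_mem b (Submodule.subset_span (Finset.mem_coe.2
          (Finset.mem_image.2 ⟨(γ, z'), Finset.mem_univ _, rfl⟩))), fun x hx => ?_⟩
        rw [sval_smul, hb' x (pow_notMem 𝒜 x.2 w), hG γ z' l (by rw [hl, add_sub_cancel_left]; exact hL) x
          (pow_notMem 𝒜 x.2 l), fracAt, LocalizedModule.mk_smul_mk]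
        refine fracAt_eq_of 𝒜 x.1 (mul_notMem 𝒜 (pow_notMem 𝒜 x.2 w) (pow_notMem 𝒜 x.2 l)) hx ?_
        change f ^ k • ((c₀ * ∏ j, g j ^ (d * β j)) • ((f ^ r * ∏ j, g j ^ (γ j : ℕ)) • z.1)) =
          (f ^ w * f ^ l) • ((c₀ * ∏ j, g j ^ α j) • z.1)
        have e : w + l = k + r := by omega
        rw [← mul_smul, ← mul_smul, ← mul_smul, ← pow_add, e, hαprod, pow_add]
        congr 1
        ring
      · rw [DirectSum.decompose_of_mem_ne ℳ hq hqk]
        exact hP0
    exact Finset.sum_induction _ P hPadd hP0 fun q _ => hPq q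
  obtain ⟨t, ht, h⟩ := hPmain
  rw [show s = t from sval_ext 𝒜 ℳ fun x => ?_]
  · exact ht
  · rw [h x (pow_notMem 𝒜 x.2 k)]
    refine (hσ x (pow_notMem 𝒜 x.2 k₀)).trans (fracAt_eq_of 𝒜 x.1 _ _ ?_)
    rw [← mul_smul, ← pow_add, add_comm k₀ n₀]

end Groth.Agent.H11Tilde
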