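import Groth.Agent.H11Tilde.Rel
import Groth.Agent.H11Tilde.ModLoc

/-!
# Maps between graded-module sheaves on Proj and on relative Proj
-/

set_option autoImplicit false

noncomputable section

universe u

open CategoryTheory CategoryTheory.Limits AlgebraicGeometry Opposite TopologicalSpace

namespace Groth.Agent.H11Tilde

section Graded

variable {A σA : Type u} [CommRing A] [SetLike σA A] [AddSubgroupClass σA A] (𝒜 : ℕ → σA) [GradedRing 𝒜]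
variable {M τ : Type u} [AddCommGroup M] [Module A M] [SetLike τ M] [AddSubgroupClass τ M] {ℳ : ℕ → τ}
  [SetLike.GradedSMul 𝒜 ℳ] [DirectSum.Decomposition ℳ]
variable {N τ' : Type u} [AddCommGroup N] [Module A N] [SetLike τ' N] [AddSubgroupClass τ' N] {𝒩 : ℕ → τ'}
  [SetLike.GradedSMul 𝒜 𝒩] [DirectSum.Decomposition 𝒩]
variable (u : M →ₗ[A] N) (hu : ∀ (i : ℕ) (m : M), m ∈ ℳ i → u m ∈ 𝒩 i) (n : ℤ)

theorem exists_posHom_notMem (x : ProjectiveSpectrum 𝒜) :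
    ∃ (d : ℕ) (f : A), 0 < d ∧ f ∈ 𝒜 d ∧ f ∉ x.asHomogeneousIdeal := by
  classical
  obtain ⟨a, ha, hax⟩ := SetLike.not_le_iff_exists.1 x.not_irrelevant_le
  by_contra hne
  push Not at hne
  refine hax (show a ∈ x.asHomogeneousIdeal.toIdeal from ?_)
  rw [← DirectSum.sum_support_decompose 𝒜 a]
  refine Ideal.sum_mem _ fun d _ => ?_
  rcases Nat.eq_zero_or_pos d with rfl | hd
  · rw [show (DirectSum.decompose 𝒜 a 0 : A) = 0 from (HomogeneousIdeal.mem_irrelevant_iff 𝒜 a).1 ha]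
    exact zero_mem _
  · exact hne d _ hd (DirectSum.decompose 𝒜 a d).2

/-- An element of a homogeneous annihilator may be taken homogeneous. -/
theorem exists_homogeneous_kill {x : ProjectiveSpectrum 𝒜} {i : ℕ} {m : N} (hm : m ∈ 𝒩 i) {t : A}
    (ht : t ∉ x.asHomogeneousIdeal) (h : t • m = 0) :
    ∃ (j : ℕ) (s : A), s ∈ 𝒜 j ∧ s ∉ x.asHomogeneousIdeal ∧ s • m = 0 := by
  classical
  by_contra hne
  push Not at hne
  refine ht (show t ∈ x.asHomogeneousIdeal.toIdeal from ?_)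
  rw [← DirectSum.sum_support_decompose 𝒜 t]
  refine Ideal.sum_mem _ fun j _ => ?_
  by_contra hj
  exact hne j _ (DirectSum.decompose 𝒜 t j).2 hj (smul_component_eq_zero 𝒜 𝒩 hm h j)

theorem injective_map_app {n₀ : ℕ} (hinj : ∀ k, n₀ ≤ k → ∀ m ∈ ℳ k, u m = 0 → m = 0) (W : (Proj 𝒜).Opens) :
    Function.Injective ((GrMod.map 𝒜 u hu n).app W) := by
  rw [injective_iff_map_eq_zero]
  intro s hs
  refine sval_ext 𝒜 ℳ fun x => ?_
  refine Eq.trans ?_ (sval_zero 𝒜 ℳ x).symm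
  rcases exists_eq_fracAt_of_mem 𝒜 ℳ x.1 ((show GrMod.sect 𝒜 ℳ n (op W) from s).1 x) with
    h0 | ⟨i, j, m, t, ht, hm, -, -, hq⟩
  · exact h0
  · have h1 : GrMod.locMap u x.1 (GrMod.val s x) = 0 :=
      (GrMod.map_app_val u hu n _ s x).symm.trans (congrArg (fun r => GrMod.val r x) hs)
    rw [show GrMod.val s x = fracAt 𝒜 x.1 m t ht from hq] at h1
    obtain ⟨r, hr, hr0⟩ := (fracAt_eq_zero_iff 𝒜 x.1 (u m) t ht).1 ((GrMod.locMap_mk u x.1 m _).symm.trans h1)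
    obtain ⟨e, a, ha, hax, ha0⟩ := exists_homogeneous_kill 𝒜 (hu i m hm) hr hr0
    obtain ⟨d, f, hd, hf, hfx⟩ := exists_posHom_notMem 𝒜 x.1
    refine hq.trans ((fracAt_eq_zero_iff 𝒜 x.1 m t ht).2
      ⟨f ^ n₀ * a, mul_notMem 𝒜 (pow_notMem 𝒜 hfx n₀) hax, ?_⟩)
    refine hinj (n₀ * d + e + i) ?_ _ (SetLike.GradedSMul.smul_mem
      (SetLike.mul_mem_graded (SetLike.pow_mem_graded n₀ hf) ha) hm) ?_
    · have := Nat.le_mul_of_pos_right n₀ hd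
      omega
    · rw [map_smul, mul_smul, ha0, smul_zero]

theorem surjective_map_app {n₀ : ℕ} (hsurj : ∀ k, n₀ ≤ k → ∀ m' ∈ 𝒩 k, ∃ m ∈ ℳ k, u m = m')
    {d : ℕ} (hd : 0 < d) {f : A} (hf : f ∈ 𝒜 d) :
    Function.Surjective ((GrMod.map 𝒜 u hu n).app (Proj.basicOpen 𝒜 f)) := by
  intro s
  obtain ⟨k, i, m', hm', hi, hσ⟩ := exists_eq_fracAt 𝒜 𝒩 hd hf s
  have hk : n₀ ≤ n₀ * d + i := le_add_right (Nat.le_mul_of_pos_right n₀ hd)
  obtain ⟨m, hm, hum⟩ := hsurj _ hk _ (SetLike.GradedSMul.smul_mem (SetLike.pow_mem_graded n₀ hf) hm')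
  refine ⟨secOf 𝒜 ℳ hm (SetLike.pow_mem_graded (n₀ + k) hf) (V := Proj.basicOpen 𝒜 f)
    (fun x hx => pow_notMem 𝒜 hx _)
    (by simp only [smul_eq_mul, Nat.cast_add, Nat.cast_mul]; rw [hi]; push_cast; ring), ?_⟩
  refine sval_ext 𝒜 𝒩 fun x => ?_
  refine (GrMod.map_app_val u hu n _ _ x).trans ((GrMod.locMap_mk u x.1 _ _).trans ?_)
  refine Eq.trans ?_ (hσ x (pow_notMem 𝒜 x.2 k)).symm
  refine fracAt_eq_of 𝒜 x.1 (pow_notMem 𝒜 x.2 (n₀ + k)) (pow_notMem 𝒜 x.2 k) ?_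
  rw [hum]
  change f ^ k • f ^ n₀ • m' = _
  rw [← mul_smul, ← pow_add, add_comm]

end Graded

section Rel

variable {S P : Scheme.{u}} {𝒮 : RelProj.QCGrAlg S} (p : P ⟶ S)
  (chart : ∀ (U : S.Opens) (hU : IsAffineOpen U), (((p ⁻¹ᵁ U : P.Opens) : Scheme.{u}) ≅ Proj (𝒮.deg U hU)))

/-- Every point of an open has a neighbourhood which is the image of a standard open of a chart. -/
theorem exists_chart_nhd {W : P.Opens} {x : P} (hx : x ∈ W) :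
    ∃ (U : S.Opens) (hU : IsAffineOpen U) (e : ℕ) (g : 𝒮.presheaf.obj (op U)), 0 < e ∧ g ∈ 𝒮.deg U hU e ∧
      ∃ V : P.Opens, x ∈ V ∧ V ≤ W ∧ V ≤ p ⁻¹ᵁ U ∧
        RelProj.emb p chart U hU ⁻¹ᵁ V = Proj.basicOpen (𝒮.deg U hU) g := by
  obtain ⟨⟨U, hU⟩, y, hy⟩ := exists_mem_range_emb p chart x
  obtain ⟨d, f, hd, hf, hfy⟩ := exists_posHom_notMem (𝒮.deg U hU) y
  have hyW : y ∈ RelProj.emb p chart U hU ⁻¹ᵁ W := by
    change (RelProj.emb p chart U hU).base y ∈ W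
    exact hy ▸ hx
  obtain ⟨e, g, he, hg, hgy, hgV⟩ := exists_basicOpen_nhd (𝒮.deg U hU) hd hf hfy hyW
  refine ⟨U, hU, e, g, he, hg, RelProj.emb p chart U hU ''ᵁ Proj.basicOpen (𝒮.deg U hU) g, ⟨y, hgy, hy⟩, ?_,
    (Scheme.Hom.image_le_opensRange _ _).trans (opensRange_emb p chart U hU).le, Scheme.Hom.preimage_image_eq _ _⟩
  rintro _ ⟨z, hz, rfl⟩
  exact (hgV z hz).1

end Rel

end Groth.Agent.H11Tilde
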