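import Groth.Agent.H29Fitt.Sheaf
import Groth.Agent.H29Fitt.PullbackQCoh
import Groth.Agent.H8Props.RelFP.PullSections
import Groth.Agent.H10Coh.SchemeH
import Mathlib.LinearAlgebra.TensorProduct.Basis

/-!
# Transposes of maps of quasi-coherent modules, tested on one affine cover
-/

set_option autoImplicit false
set_option linter.style.haveILetI false

universe u

open CategoryTheory CategoryTheory.Limits AlgebraicGeometry Opposite TopologicalSpace
open scoped TensorProduct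

namespace Groth.Agent.H11Tilde.TransposeCover

variable {X : Scheme.{u}} {M N : X.Modules} (g : M ⟶ N)

theorem bijective_basicOpen (hM : Coh.IsQCoh M) (hN : Coh.IsQCoh N) {U : X.Opens} (hU : IsAffineOpen U)
    (r : Γ(X, U)) (h : Function.Bijective (g.app U)) : Function.Bijective (g.app (X.basicOpen r)) := by
  letI := Module.compHom Γ(M, X.basicOpen r) (algebraMap Γ(X, U) Γ(X, X.basicOpen r))
  letI := Module.compHom Γ(N, X.basicOpen r) (algebraMap Γ(X, U) Γ(X, X.basicOpen r))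
  haveI := H29Fitt.isLocalizedModule_resLin M hM hU r
  haveI := H29Fitt.isLocalizedModule_resLin N hN hU r
  let gr : Γ(M, X.basicOpen r) →ₗ[Γ(X, U)] Γ(N, X.basicOpen r) :=
    { toFun := g.app (X.basicOpen r), map_add' := map_add _,
      map_smul' := fun a m => g.app_smul (algebraMap Γ(X, U) Γ(X, X.basicOpen r) a) m }
  have hsq : ∀ m, gr (H29Fitt.resLin M r m) = H29Fitt.resLin N r (g.app U m) := fun m =>
    congr($(g.mapPresheaf.naturality (homOfLE (X.basicOpen_le r)).op) m)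
  refine ⟨(injective_iff_map_eq_zero gr).2 fun m hm => ?_, fun n => ?_⟩
  · obtain ⟨⟨a, s⟩, ha⟩ := IsLocalizedModule.surj (Submonoid.powers r) (H29Fitt.resLin M r) m
    have h1 : H29Fitt.resLin N r (g.app U a) = 0 := by
      rw [← hsq, ← ha, Submonoid.smul_def, map_smul, hm, smul_zero]
    obtain ⟨c, hc⟩ := (IsLocalizedModule.eq_zero_iff (Submonoid.powers r) (H29Fitt.resLin N r)).1 h1
    have h2 : (c : Γ(X, U)) • a = 0 := by
      apply h.1
      rw [map_zero]
      exact (g.app_smul _ a).trans hc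
    have h3 : H29Fitt.resLin M r a = 0 :=
      (IsLocalizedModule.eq_zero_iff (Submonoid.powers r) (H29Fitt.resLin M r)).2 ⟨c, h2⟩
    have h4 : s • m = s • 0 := by rw [ha, h3, smul_zero]
    exact (IsLocalizedModule.smul_injective (H29Fitt.resLin M r) s) h4
  · obtain ⟨⟨b, s⟩, hb⟩ := IsLocalizedModule.surj (Submonoid.powers r) (H29Fitt.resLin N r) n
    obtain ⟨a, rfl⟩ := h.2 b
    obtain ⟨m, hm⟩ := ((Module.End.isUnit_iff _).1
      (IsLocalizedModule.map_units (H29Fitt.resLin M r) s)).2 (H29Fitt.resLin M r a)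
    refine ⟨m, IsLocalizedModule.smul_injective (H29Fitt.resLin N r) s ?_⟩
    change s • gr m = s • n
    rw [hb, ← hsq, ← hm]
    exact (map_smul gr (s : Γ(X, U)) m).symm

/-- A map of quasi-coherent modules bijective on the members of an affine cover is an isomorphism. -/
theorem isIso_of_bijective_cover (hM : Coh.IsQCoh M) (hN : Coh.IsQCoh N) (T : X.Opens → Prop)
    (hT : ∀ x : X, ∃ U, T U ∧ IsAffineOpen U ∧ x ∈ U)
    (h : ∀ U, T U → IsAffineOpen U → Function.Bijective (g.app U)) : IsIso g := by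
  haveI : IsIso ((H10Coh.shF X).map g) := by
    refine TopCat.Sheaf.isIso_iff_isIso_basis
      (B := fun i : {W : X.Opens // ∃ (U : X.Opens) (r : Γ(X, U)), T U ∧ IsAffineOpen U ∧ W = X.basicOpen r} => i.1)
      ?_ fun ⟨W, U, r, hTU, hU, hW⟩ => ?_
    · rw [Opens.isBasis_iff_nbhd]
      intro W x hx
      obtain ⟨U, hTU, hU, hxU⟩ := hT x
      obtain ⟨r, hr, hxr⟩ := hU.exists_basicOpen_le (V := W) ⟨x, hx⟩ hxU
      exact ⟨X.basicOpen r, ⟨⟨_, U, r, hTU, hU, rfl⟩, rfl⟩, hxr, hr⟩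
    · subst hW
      exact (ConcreteCategory.isIso_iff_bijective _).2 (bijective_basicOpen g hM hN hU r (h U hTU hU))
  exact isIso_of_reflects_iso g (H10Coh.shF X)

variable {S S' : Scheme.{u}} (g : S' ⟶ S) {L : S.Modules} {L' : S'.Modules}
  (τ : L ⟶ (Scheme.Modules.pushforward g).obj L')

/-- `τ` on sections over an open, as a semilinear-free linear map. -/
noncomputable def appLin (V : S.Opens) :
    letI := Module.compHom Γ(L', g ⁻¹ᵁ V) (g.app V).hom
    Γ(L, V) →ₗ[Γ(S, V)] Γ(L', g ⁻¹ᵁ V) :=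
  letI := Module.compHom Γ(L', g ⁻¹ᵁ V) (g.app V).hom
  { toFun := τ.app V, map_add' := map_add _, map_smul' := fun r m => τ.app_smul r m }

/-- The unit of the adjunction is the base change on an affine pair. -/
theorem isBaseChange_unit (hL : Coh.IsQCoh L) {V : S.Opens} (hV : IsAffineOpen V) (hV' : IsAffineOpen (g ⁻¹ᵁ V)) :
    letI := (g.app V).hom.toAlgebra
    letI := Module.compHom Γ((Scheme.Modules.pullback g).obj L, g ⁻¹ᵁ V) (g.app V).hom
    haveI : IsScalarTower Γ(S, V) Γ(S', g ⁻¹ᵁ V) Γ((Scheme.Modules.pullback g).obj L, g ⁻¹ᵁ V) :=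
      .of_algebraMap_smul fun _ _ => rfl
    ∀ p : Γ(L, V) →ₗ[Γ(S, V)] Γ((Scheme.Modules.pullback g).obj L, g ⁻¹ᵁ V),
      (∀ m, p m = ((Scheme.Modules.pullbackPushforwardAdjunction g).unit.app L).app V m) →
        IsBaseChange Γ(S', g ⁻¹ᵁ V) p := by
  intro p hp
  have h0 := H8Props.PullSections.isBaseChange_pullLin g L (le_refl (g ⁻¹ᵁ V)) hL hV hV'
  have e : g.appLE V (g ⁻¹ᵁ V) le_rfl = g.app V := (Scheme.Hom.app_eq_appLE g).symm
  have key : ∀ (φ : Γ(S, V) ⟶ Γ(S', g ⁻¹ᵁ V)), g.appLE V (g ⁻¹ᵁ V) le_rfl = φ →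
      letI := φ.hom.toAlgebra
      letI := Module.compHom Γ((Scheme.Modules.pullback g).obj L, g ⁻¹ᵁ V) φ.hom
      haveI : IsScalarTower Γ(S, V) Γ(S', g ⁻¹ᵁ V) Γ((Scheme.Modules.pullback g).obj L, g ⁻¹ᵁ V) :=
        .of_algebraMap_smul fun _ _ => rfl
      ∀ q : Γ(L, V) →ₗ[Γ(S, V)] Γ((Scheme.Modules.pullback g).obj L, g ⁻¹ᵁ V),
        (∀ m, q m = ((Scheme.Modules.pullback g).obj L).presheaf.map (homOfLE (le_refl (g ⁻¹ᵁ V))).op
          (OmegaSh.pullSect g L V m)) → IsBaseChange Γ(S', g ⁻¹ᵁ V) q := by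
    rintro φ rfl q hq
    letI := Module.compHom Γ((Scheme.Modules.pullback g).obj L, g ⁻¹ᵁ V) (g.appLE V (g ⁻¹ᵁ V) le_rfl).hom
    have : q = H8Props.PullSections.pullLin g L (le_refl (g ⁻¹ᵁ V)) := by
      refine @LinearMap.ext _ _ _ _ _ _ _ _ _ _ _ _ _ fun m => hq m
    rw [this]
    exact h0
  exact key _ e p fun m => (hp m).trans
    (congr($(((Scheme.Modules.pullback g).obj L).presheaf.map_id (op (g ⁻¹ᵁ V))) (OmegaSh.pullSect g L V m))).symm

/-- **A transpose is an isomorphism if it is a base change on the members of an affine cover with affine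
preimages.** -/
theorem isIso_transpose_of_cover (hL : Coh.IsQCoh L) (hL' : Coh.IsQCoh L') (T : S.Opens → Prop)
    (hT : ∀ x : S', ∃ V, T V ∧ IsAffineOpen V ∧ IsAffineOpen (g ⁻¹ᵁ V) ∧ g x ∈ V)
    (h : ∀ V : S.Opens, T V → IsAffineOpen V →
      letI := (g.app V).hom.toAlgebra
      letI := Module.compHom Γ(L', g ⁻¹ᵁ V) (g.app V).hom
      haveI : IsScalarTower Γ(S, V) Γ(S', g ⁻¹ᵁ V) Γ(L', g ⁻¹ᵁ V) := .of_algebraMap_smul fun _ _ => rfl
      Function.Bijective (LinearMap.liftBaseChange Γ(S', g ⁻¹ᵁ V) (appLin g τ V))) :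
    IsIso (((Scheme.Modules.pullbackPushforwardAdjunction g).homEquiv L L').symm τ) := by
  let ψ := ((Scheme.Modules.pullbackPushforwardAdjunction g).homEquiv L L').symm τ
  have hψ : (Scheme.Modules.pullbackPushforwardAdjunction g).unit.app L ≫
      (Scheme.Modules.pushforward g).map ψ = τ :=
    ((Scheme.Modules.pullbackPushforwardAdjunction g).homEquiv_unit L L' ψ).symm.trans (Equiv.apply_symm_apply _ τ)
  refine isIso_of_bijective_cover ψ (H29Fitt.isQCoh_pullback g L hL) hL'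
    (fun W => ∃ V, T V ∧ IsAffineOpen V ∧ W = g ⁻¹ᵁ V) (fun x => ?_) ?_
  · obtain ⟨V, hTV, hV, hV', hxV⟩ := hT x
    exact ⟨g ⁻¹ᵁ V, ⟨V, hTV, hV, rfl⟩, hV', hxV⟩
  rintro W ⟨V, hTV, hV, rfl⟩ hV'
  have hb := h V hTV hV
  letI := (g.app V).hom.toAlgebra
  letI := Module.compHom Γ(L', g ⁻¹ᵁ V) (g.app V).hom
  haveI : IsScalarTower Γ(S, V) Γ(S', g ⁻¹ᵁ V) Γ(L', g ⁻¹ᵁ V) := .of_algebraMap_smul fun _ _ => rfl
  letI := Module.compHom Γ((Scheme.Modules.pullback g).obj L, g ⁻¹ᵁ V) (g.app V).hom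
  haveI : IsScalarTower Γ(S, V) Γ(S', g ⁻¹ᵁ V) Γ((Scheme.Modules.pullback g).obj L, g ⁻¹ᵁ V) :=
    .of_algebraMap_smul fun _ _ => rfl
  let p : Γ(L, V) →ₗ[Γ(S, V)] Γ((Scheme.Modules.pullback g).obj L, g ⁻¹ᵁ V) :=
    { toFun := ((Scheme.Modules.pullbackPushforwardAdjunction g).unit.app L).app V
      map_add' := map_add _
      map_smul' := fun r m => ((Scheme.Modules.pullbackPushforwardAdjunction g).unit.app L).app_smul r m }
  have hbc : IsBaseChange Γ(S', g ⁻¹ᵁ V) p := isBaseChange_unit g hL hV hV' p fun _ => rfl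
  refine (Function.Bijective.of_comp_iff _ hbc.equiv.bijective).1 ?_
  convert hb using 1
  funext z
  induction z using TensorProduct.induction_on with
  | zero => simp
  | add x y hx hy => simp only [Function.comp_apply] at hx hy ⊢; rw [map_add, map_add, map_add, hx, hy]
  | tmul b m =>
    rw [Function.comp_apply, IsBaseChange.equiv_tmul, LinearMap.liftBaseChange_tmul]
    refine (ψ.app_smul b (p m)).trans ?_
    refine congrArg (b • ·) ?_
    exact congr($(congrArg (fun k => Scheme.Modules.Hom.app k V) hψ) m)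

end Groth.Agent.H11Tilde.TransposeCover
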