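import Groth.Agent.S3584
import Groth.Agent.H10Coh.TwistExact
import Groth.Agent.H11Ample.UnitIso
import Groth.Agent.H11Tilde.TwistPow

/-!
# Finite-type quasi-coherent modules on Proj are quotients of sums of negative twists
-/

set_option autoImplicit false
set_option backward.isDefEq.respectTransparency.types false

universe u

open CategoryTheory CategoryTheory.Limits AlgebraicGeometry Opposite

namespace Groth.Agent.H11Tilde

variable {X : Scheme.{u}}

/-- Finitely many global sections spanning locally give an epimorphism from a finite free module. -/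
theorem exists_epi_freeMod_of_spanning (F : X.Modules) {ι : Type u} [Fintype ι] (g : ι → Γ(F, ⊤))
    (h : ∀ (W : X.Opens) (t : Γ(F, W)), ∀ x ∈ W, ∃ (V : X.Opens) (hV : V ≤ W), x ∈ V ∧
      F.presheaf.map (homOfLE hV).op t ∈ Submodule.span Γ(X, V)
        (Set.range fun i => F.presheaf.map (homOfLE (le_top : V ≤ ⊤)).op (g i))) :
    ∃ (N : ℕ) (p : FlatMod.freeMod X N ⟶ F), Epi p := by
  let ε := (Fintype.equivFin ι).symm
  let a : FlatMod.freeMod X (Fintype.card ι) ⟶ F := Sigma.desc fun j => homOfGlobal F (g (ε j))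
  refine ⟨_, a, epi_of_locally_surjective a fun W t x hx => ?_⟩
  obtain ⟨V, hV, hxV, ht⟩ := h W t x hx
  refine ⟨V, hV, hxV, ?_⟩
  generalize F.presheaf.map (homOfLE hV).op t = t' at ht ⊢
  induction ht using Submodule.span_induction with
  | mem y hy =>
    obtain ⟨i, rfl⟩ := hy
    refine ⟨(Sigma.ι (fun _ : Fin (Fintype.card ι) => Coh.structureModule X) (ε.symm i)).app V (H11Ample.one V), ?_⟩
    refine (congr($(congrArg (fun k => Scheme.Modules.Hom.app k V)
      (Sigma.ι_desc (fun j => homOfGlobal F (g (ε j))) (ε.symm i))) (H11Ample.one V))).trans ?_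
    change (1 : Γ(X, V)) • F.presheaf.map (homOfLE (le_top : V ≤ ⊤)).op (g (ε (ε.symm i))) = _
    rw [one_smul, Equiv.apply_symm_apply]
  | zero => exact ⟨0, map_zero _⟩
  | add y z _ _ hy hz =>
    obtain ⟨y', rfl⟩ := hy
    obtain ⟨z', rfl⟩ := hz
    exact ⟨y' + z', map_add _ _ _⟩
  | smul r y _ hy =>
    obtain ⟨y', rfl⟩ := hy
    exact ⟨r • y', Scheme.Modules.Hom.app_smul _ _ _⟩

/-- Twisting by an invertible module is additive on morphisms. -/
theorem tensorModMap_add {M N : X.Modules} {L : X.Modules} (hL : PicF.IsInvertible L) (f g : M ⟶ N) :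
    LimSh.tensorModMap (f + g) L = LimSh.tensorModMap f L + LimSh.tensorModMap g L := by
  refine Scheme.Modules.hom_ext _ _ fun W => ?_
  ext t
  refine eq_of_locally _ _ fun x hx => ?_
  obtain ⟨V, hV, e, m, hxV, he, hm⟩ := H10Coh.Tw.exists_eq_tm hL t hx
  refine ⟨V, hV, hxV, ?_⟩
  rw [← app_map_apply, ← app_map_apply, hm]
  change (LimSh.tensorModMap (f + g) L).app V (H11Ample.tm m e) =
    (LimSh.tensorModMap f L).app V (H11Ample.tm m e) + (LimSh.tensorModMap g L).app V (H11Ample.tm m e)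
  rw [H10Coh.Tw.map_tm, H10Coh.Tw.map_tm, H10Coh.Tw.map_tm]
  exact H11Ample.tm_add_left _ _ _

/-- Tensoring an epimorphism out of a finite free module with an invertible module. -/
theorem exists_epi_sigma_of_epi_free {k : ℕ} {G F L M : X.Modules} (q : FlatMod.freeMod X k ⟶ G) [Epi q]
    (hL : PicF.IsInvertible L) (e : CohB1.tensorMod G L ≅ F) (eM : M ≅ L) :
    ∃ p : (∐ fun _ : Fin k => M) ⟶ F, Epi p := by
  let P : Fin k → X.Modules := fun _ => Coh.structureModule X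
  let r := LimSh.tensorModMap q L ≫ e.hom
  have : Epi (LimSh.tensorModMap q L) := H10Coh.Tw.epi_map q hL
  have hr : Epi r := inferInstance
  let c : ∀ _ : Fin k, M ⟶ F := fun i => eM.hom ≫ (H11Ample.tensorLeftUnitIso L).inv ≫
    LimSh.tensorModMap (Sigma.ι P i) L ≫ r
  refine ⟨Sigma.desc c, ⟨fun {Z} a b hab => hr.left_cancellation a b ?_⟩⟩
  have hc : ∀ i, LimSh.tensorModMap (Sigma.ι P i) L ≫ r ≫ a =
      LimSh.tensorModMap (Sigma.ι P i) L ≫ r ≫ b := fun i => by
    have h := congrArg (fun m => Sigma.ι (fun _ : Fin k => M) i ≫ m) hab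
    simp only [Sigma.ι_desc_assoc, c, Category.assoc] at h
    exact (cancel_epi (H11Ample.tensorLeftUnitIso L).inv).1 ((cancel_epi eM.hom).1 h)
  let q' : ∀ i, ∐ P ⟶ P i := fun i => (biproduct.isoCoproduct P).inv ≫ biproduct.π P i
  have hι : ∀ i, Sigma.ι P i = biproduct.ι P i ≫ (biproduct.isoCoproduct P).hom := fun i => by
    rw [biproduct.isoCoproduct_hom, biproduct.ι_desc]
  have hid : ∑ i, q' i ≫ Sigma.ι P i = 𝟙 (∐ P) := by
    simp only [q', hι, Category.assoc]
    simp only [← Category.assoc (biproduct.π P _)]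
    rw [← Preadditive.comp_sum, ← Preadditive.sum_comp, biproduct.total, Category.id_comp, Iso.inv_hom_id]
  have hid' : 𝟙 (CohB1.tensorMod (∐ P) L) =
      ∑ i, LimSh.tensorModMap (q' i) L ≫ LimSh.tensorModMap (Sigma.ι P i) L := by
    refine (LimSh.tensorModMap_id (∐ P) L).symm.trans ?_
    rw [← hid]
    refine (map_sum (AddMonoidHom.mk' (fun f : ∐ P ⟶ ∐ P => LimSh.tensorModMap f L) (tensorModMap_add hL)) _ _).trans (Finset.sum_congr rfl fun i _ => ?_)
    exact LimSh.tensorModMap_comp _ _ L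
  calc r ≫ a = 𝟙 (CohB1.tensorMod (∐ P) L) ≫ r ≫ a := (Category.id_comp _).symm
    _ = 𝟙 (CohB1.tensorMod (∐ P) L) ≫ r ≫ b := by
      rw [hid', Preadditive.sum_comp, Preadditive.sum_comp]
      exact Finset.sum_congr rfl fun i _ =>
        (Category.assoc _ _ _).trans ((congrArg (_ ≫ ·) (hc i)).trans (Category.assoc _ _ _).symm)
    _ = r ≫ b := Category.id_comp _

variable {R A : Type u} [CommRing R] [CommRing A] [Algebra R A] (𝒜 : ℕ → Submodule R A) [GradedAlgebra 𝒜]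

/-- A finite type quasi-coherent module twisted enough is a quotient of a finite free module. -/
theorem eventually_twistBy_quotient_free (s : Finset A) (hs1 : ∀ f ∈ s, f ∈ 𝒜 1)
    (hs : (HomogeneousIdeal.irrelevant 𝒜).toIdeal = Ideal.span (s : Set A))
    (F : (Proj 𝒜).Modules) (hF : Coh.IsQCoh F) (hFT : CohB1.IsFT F) :
    ∃ n₀ : ℕ, ∀ n : ℕ, n₀ ≤ n →
      ∃ (k : ℕ) (p : FlatMod.freeMod (Proj 𝒜) k ⟶ Twist.twistBy 𝒜 F (n : ℤ)), Epi p := by
  have hA : CohB1.IsAmple (Twist.twist 𝒜 1) := Groth.Agent.S3584.result 𝒜 s hs1 hs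
  have hdeg : ∀ x : Proj 𝒜, ∃ f ∈ 𝒜 1, f ∉ x.asHomogeneousIdeal := fun x => by
    by_contra hne
    push Not at hne
    exact x.not_irrelevant_le (hs.le.trans (Ideal.span_le.2 fun f hf => hne f (hs1 f hf)))
  have : CompactSpace (Proj 𝒜) := (H11Ample.isAmple_iff.1 hA).2.1
  obtain ⟨n₀, h⟩ := H11Ample.eventually_spanning hA (show Coh.IsCoh F from ⟨hF, hFT⟩)
  refine ⟨n₀, fun n hn => ?_⟩
  obtain ⟨ι, _, g, hg⟩ := h n hn
  obtain ⟨k, p, hp⟩ := exists_epi_freeMod_of_spanning _ g hg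
  obtain ⟨e⟩ := nonempty_twist_iso_tensorPow 𝒜 hdeg n
  exact ⟨k, p ≫ (PicGrp.tensorModIso (Iso.refl F) e.symm).hom, @epi_comp _ _ _ _ _ p hp _ (IsIso.epi_of_iso _)⟩

/-- A finite type quasi-coherent module is a quotient of a finite sum of any negative enough twist. -/
theorem eventually_quotient_negative_twists (s : Finset A) (hs1 : ∀ f ∈ s, f ∈ 𝒜 1)
    (hs : (HomogeneousIdeal.irrelevant 𝒜).toIdeal = Ideal.span (s : Set A))
    (F : (Proj 𝒜).Modules) (hF : Coh.IsQCoh F) (hFT : CohB1.IsFT F) :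
    ∃ n₀ : ℕ, ∀ n : ℕ, n₀ ≤ n →
      ∃ (k : ℕ) (p : (∐ fun _ : Fin k => Twist.twist 𝒜 (-(n : ℤ))) ⟶ F), Epi p := by
  have hdeg : ∀ x : Proj 𝒜, ∃ f ∈ 𝒜 1, f ∉ x.asHomogeneousIdeal := fun x => by
    by_contra hne
    push Not at hne
    exact x.not_irrelevant_le (hs.le.trans (Ideal.span_le.2 fun f hf => hne f (hs1 f hf)))
  obtain ⟨n₀, h⟩ := eventually_twistBy_quotient_free 𝒜 s hs1 hs F hF hFT
  refine ⟨n₀, fun n hn => ?_⟩
  obtain ⟨k, q, hq⟩ := h n hn
  obtain ⟨e⟩ := nonempty_twist_tensor_iso 𝒜 hdeg (n : ℤ) (-(n : ℤ)) 0 (by ring)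
  obtain ⟨e₀⟩ := nonempty_twist_zero_iso 𝒜
  exact ⟨k, exists_epi_sigma_of_epi_free q (isInvertible_twist 𝒜 hdeg _)
    (H11Ample.tensorAssocIso F _ _ ≪≫ PicGrp.tensorModIso (Iso.refl F) (e ≪≫ e₀) ≪≫
      H11Ample.tensorCommIso _ _ ≪≫ H11Ample.tensorLeftUnitIso F) (Iso.refl _)⟩

end Groth.Agent.H11Tilde
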