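import Groth.Agent.H11Tilde.Tensor
import Groth.Agent.H11Tilde.TwistInv

/-!
# `M(m)~ ⊗ O(n) ≅ M(m + n)~` where `O(n)` has local fraction generators
-/

set_option autoImplicit false

noncomputable section

universe u

open CategoryTheory AlgebraicGeometry TopologicalSpace Opposite

namespace Groth.Agent.H11Tilde

open GrMod

variable {A σA : Type u} [CommRing A] [SetLike σA A] [AddSubgroupClass σA A] (𝒜 : ℕ → σA) [GradedRing 𝒜]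
variable {M τ : Type u} [AddCommGroup M] [Module A M] [SetLike τ M] [AddSubgroupClass τ M] (ℳ : ℕ → τ)
  [SetLike.GradedSMul 𝒜 ℳ]

theorem smul_fracAt (x : ProjectiveSpectrum 𝒜) (a : A) (b : A) (hb : b ∉ x.asHomogeneousIdeal) (m : M) (s : A)
    (hs : s ∉ x.asHomogeneousIdeal) :
    (show GrTwist.Loc 𝒜 x from fracAt 𝒜 x a b hb) • fracAt 𝒜 x m s hs =
      fracAt 𝒜 x (a • m) (b * s) (mul_notMem 𝒜 hb hs) :=
  LocalizedModule.mk_smul_mk _ _ _ _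

theorem smul_val_mem_tildeAt {p q r : ℤ} (h : r = p + q) (x : ProjectiveSpectrum 𝒜) (v : tildeAt 𝒜 ℳ p x)
    (w : tildeAt 𝒜 𝒜 q x) :
    (show GrTwist.Loc 𝒜 x from (w : LocMod 𝒜 (M := A) x)) • (v : LocMod 𝒜 (M := M) x) ∈ tildeAt 𝒜 ℳ r x := by
  rcases exists_eq_fracAt_of_mem 𝒜 𝒜 x w with hw | ⟨i', j', a, b, hb, ha, hbj, hd', hw⟩
  · rw [hw]
    exact (zero_smul (GrTwist.Loc 𝒜 x) (v : LocMod 𝒜 (M := M) x)).symm ▸ zero_mem _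
  rcases exists_eq_fracAt_of_mem 𝒜 ℳ x v with hv | ⟨i, j, m, s, hs, hm, hsj, hd, hv⟩
  · rw [hv, smul_zero]
    exact zero_mem _
  rw [hv, hw, smul_fracAt]
  exact Submodule.subset_span ⟨i' + i, j' + j, ⟨_, SetLike.GradedSMul.smul_mem ha hm⟩,
    ⟨_, SetLike.mul_mem_graded hbj hsj⟩, mul_notMem 𝒜 hb hs, by push_cast; omega, rfl⟩

/-- The product of a section of `M(p)~` and of a section of `O(q)`. -/
def mulSec {p q r : ℤ} (h : r = p + q) {U : (Proj 𝒜).Opens} (s : Γ(tilde 𝒜 ℳ p, U)) (t : Γ(tilde 𝒜 𝒜 q, U)) :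
    Γ(tilde 𝒜 ℳ r, U) :=
  (show sect 𝒜 ℳ r (op U) from
  ⟨fun x => ⟨(show GrTwist.Loc 𝒜 x.1 from sval 𝒜 𝒜 t x) • sval 𝒜 ℳ s x,
      smul_val_mem_tildeAt 𝒜 ℳ h x.1 _ _⟩,
   fun x => by
    obtain ⟨V, hxV, iV, i, j, ⟨m, hm⟩, ⟨c, hc⟩, cnin, hd, hw⟩ := (show sect 𝒜 ℳ p (op U) from s).2 x
    obtain ⟨W, hxW, iW, i', j', ⟨a, ha⟩, ⟨b, hb⟩, bnin, hd', hw'⟩ := (show sect 𝒜 𝒜 q (op U) from t).2 x
    refine ⟨V ⊓ W, ⟨hxV, hxW⟩, Opens.infLELeft _ _ ≫ iV, i' + i, j' + j,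
      ⟨a • m, SetLike.GradedSMul.smul_mem ha hm⟩, ⟨b * c, SetLike.mul_mem_graded hb hc⟩,
      fun y => mul_notMem 𝒜 (bnin ⟨y.1, y.2.2⟩) (cnin ⟨y.1, y.2.1⟩), ?_, fun y => ?_⟩
    · replace hd : (i : ℤ) = j + p ∨ m = 0 := hd
      replace hd' : (i' : ℤ) = j' + q ∨ a = 0 := hd'
      rcases hd with hd | hd
      · rcases hd' with hd' | hd'
        · exact Or.inl (by push_cast; omega)
        · exact Or.inr (show a • m = 0 by rw [hd', zero_smul])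
      · exact Or.inr (show a • m = 0 by rw [hd, smul_zero])
    · refine Eq.trans ?_ (smul_fracAt 𝒜 y.1 a b (bnin ⟨y.1, y.2.2⟩) m c (cnin ⟨y.1, y.2.1⟩))
      exact congrArg₂ (fun (w : GrTwist.Loc 𝒜 y.1) (v : LocMod 𝒜 (M := M) y.1) => w • v)
        (hw' ⟨y.1, y.2.2⟩) (hw ⟨y.1, y.2.1⟩)⟩)

theorem sval_mulSec {p q r : ℤ} (h : r = p + q) {U : (Proj 𝒜).Opens} (s : Γ(tilde 𝒜 ℳ p, U))
    (t : Γ(tilde 𝒜 𝒜 q, U)) (x : U) :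
    sval 𝒜 ℳ (mulSec 𝒜 ℳ h s t) x = (show GrTwist.Loc 𝒜 x.1 from sval 𝒜 𝒜 t x) • sval 𝒜 ℳ s x := rfl

/-- Multiplication `M(p)~ × O(q) → M(p + q)~`. -/
def mulPairing {p q r : ℤ} (h : r = p + q) : Pairing (tilde 𝒜 ℳ p) (tilde 𝒜 𝒜 q) (tilde 𝒜 ℳ r) where
  toFun _ s t := mulSec 𝒜 ℳ h s t
  add_left U s s' t := sval_ext 𝒜 ℳ fun x => smul_add (show GrTwist.Loc 𝒜 x.1 from sval 𝒜 𝒜 t x) (sval 𝒜 ℳ s x) _
  add_right U s t t' := sval_ext 𝒜 ℳ fun x =>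
    add_smul (show GrTwist.Loc 𝒜 x.1 from sval 𝒜 𝒜 t x) (show GrTwist.Loc 𝒜 x.1 from sval 𝒜 𝒜 t' x) (sval 𝒜 ℳ s x)
  smul_left U c s t := sval_ext 𝒜 ℳ fun x =>
    smul_comm (show GrTwist.Loc 𝒜 x.1 from sval 𝒜 𝒜 t x) (fval 𝒜 c x) (sval 𝒜 ℳ s x)
  smul_right U c s t := sval_ext 𝒜 ℳ fun x =>
    mul_smul (fval 𝒜 c x) (show GrTwist.Loc 𝒜 x.1 from sval 𝒜 𝒜 t x) (sval 𝒜 ℳ s x)
  res U V h s t := rfl

theorem bijective_mulSec_gen {p q r : ℤ} (h : r = p + q) {V : (Proj 𝒜).Opens} {i j : ℕ} {a b : A} (ha : a ∈ 𝒜 i)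
    (hb : b ∈ 𝒜 j) (hax : ∀ x ∈ V, a ∉ x.asHomogeneousIdeal) (hbx : ∀ x ∈ V, b ∉ x.asHomogeneousIdeal)
    (hdeg : (i : ℤ) = j + q) (g : Γ(tilde 𝒜 𝒜 q, V))
    (hg : ∀ x : V, sval 𝒜 𝒜 g x = fracAt 𝒜 x.1 a b (hbx x.1 x.2)) :
    Function.Bijective fun w : Γ(tilde 𝒜 ℳ p, V) => mulSec 𝒜 ℳ h w g := by
  let g' : Γ(tilde 𝒜 𝒜 (-q), V) := secOf 𝒜 𝒜 hb ha hax (show (j : ℤ) = i + -q by omega)
  refine Function.bijective_iff_has_inverse.2 ⟨fun w => mulSec 𝒜 ℳ (show p = r + -q by omega) w g',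
    fun s => sval_ext 𝒜 ℳ fun y => ?_, fun w => sval_ext 𝒜 ℳ fun y => ?_⟩
  all_goals
    refine Eq.trans (smul_smul _ _ _) ((congrArg (fun c : GrTwist.Loc 𝒜 y.1 => c • _) ?_).trans (one_smul _ _))
    rw [hg y]
    change Localization.mk _ _ * Localization.mk _ _ = 1
    rw [Localization.mk_mul]
    refine (Localization.mk_eq_mk_iff.2 (Localization.r_iff_exists.2 ⟨1, ?_⟩)).trans Localization.mk_one
    simp only [OneMemClass.coe_one, one_mul, Submonoid.coe_mul, mul_one]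
    ring

theorem nonempty_tilde_tensor_iso {p q r : ℤ} (h : r = p + q)
    (hcov : ∀ x : Proj 𝒜, ∃ (i j : ℕ) (a b : A), a ∈ 𝒜 i ∧ b ∈ 𝒜 j ∧ (i : ℤ) = j + q ∧
      a ∉ x.asHomogeneousIdeal ∧ b ∉ x.asHomogeneousIdeal) :
    Nonempty (CohB1.tensorMod (tilde 𝒜 ℳ p) (tilde 𝒜 𝒜 q) ≅ tilde 𝒜 ℳ r) := by
  refine nonempty_tensorMod_iso (mulPairing 𝒜 ℳ h) fun x => ?_
  obtain ⟨i, j, a, b, ha, hb, hij, hax, hbx⟩ := hcov x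
  let U : (Proj 𝒜).Opens := Proj.basicOpen 𝒜 (a * b)
  have hU : ∀ y ∈ U, a ∉ y.asHomogeneousIdeal ∧ b ∉ y.asHomogeneousIdeal := fun y hy =>
    ⟨fun hc => hy (y.asHomogeneousIdeal.toIdeal.mul_mem_right _ hc),
      fun hc => hy (y.asHomogeneousIdeal.toIdeal.mul_mem_left _ hc)⟩
  let g : Γ(tilde 𝒜 𝒜 q, U) := secOf 𝒜 𝒜 ha hb (fun y hy => (hU y hy).2) hij
  refine ⟨U, mul_notMem 𝒜 hax hbx, g, fun V hV => ⟨?_, ?_⟩⟩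
  · exact bijective_smul_gen 𝒜 ha hb (fun y hy => (hU y (hV hy)).1) (fun y hy => (hU y (hV hy)).2) hij _
      fun y => rfl
  · exact bijective_mulSec_gen 𝒜 ℳ h ha hb (fun y hy => (hU y (hV hy)).1) (fun y hy => (hU y (hV hy)).2) hij _
      fun y => rfl

theorem degOne_cover (hgen : (HomogeneousIdeal.irrelevant 𝒜).toIdeal ≤ Ideal.span (𝒜 1 : Set A))
    (x : Proj 𝒜) : ∃ f ∈ 𝒜 1, f ∉ x.asHomogeneousIdeal := by
  by_contra hne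
  push Not at hne
  exact x.not_irrelevant_le (hgen.trans (Ideal.span_le.2 hne))

theorem cover_of_degOne (h1 : ∀ x : Proj 𝒜, ∃ f ∈ 𝒜 1, f ∉ x.asHomogeneousIdeal) (q : ℤ)
    (x : Proj 𝒜) : ∃ (i j : ℕ) (a b : A), a ∈ 𝒜 i ∧ b ∈ 𝒜 j ∧ (i : ℤ) = j + q ∧
      a ∉ x.asHomogeneousIdeal ∧ b ∉ x.asHomogeneousIdeal := by
  obtain ⟨f, hf, hfx⟩ := h1 x
  exact ⟨q.toNat * 1, (-q).toNat * 1, f ^ q.toNat, f ^ (-q).toNat, SetLike.pow_mem_graded _ hf,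
    SetLike.pow_mem_graded _ hf, by omega, pow_notMem 𝒜 hfx _, pow_notMem 𝒜 hfx _⟩

end Groth.Agent.H11Tilde
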