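import Groth.Agent.H11Tilde.TwistLoc
import Groth.Agent.H10Coh.FinType
import Groth.Agent.H10Coh.Local
import Groth.Prelude.Def_RelProj3

/-!
# Existence of the module attached to a quasi-coherent graded module on a relative Proj
-/

set_option autoImplicit false
set_option linter.style.haveILetI false

noncomputable section

universe u

open CategoryTheory CategoryTheory.Limits AlgebraicGeometry Opposite TopologicalSpace
open scoped HomogeneousIdeal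

namespace Groth.Agent.H11Tilde

namespace TildeLoc

section graded

variable {A σA B σB : Type u} [CommRing A] [SetLike σA A] [AddSubgroupClass σA A] {𝒜 : ℕ → σA} [GradedRing 𝒜]
  [CommRing B] [SetLike σB B] [AddSubgroupClass σB B] {ℬ : ℕ → σB} [GradedRing ℬ]
  (ψ : 𝒜 →+*ᵍ ℬ) (hψ : ℬ₊ ≤ (𝒜₊).map ψ) (c : 𝒜 0)
  {M τ : Type u} [AddCommGroup M] [Module A M] [SetLike τ M] [AddSubgroupClass τ M] {ℳ : ℕ → τ}
  [SetLike.GradedSMul 𝒜 ℳ] [DirectSum.Decomposition ℳ]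
  {N τ' : Type u} [AddCommGroup N] [Module B N] [SetLike τ' N] [AddSubgroupClass τ' N] {𝒩 : ℕ → τ'}
  [SetLike.GradedSMul ℬ 𝒩] [DirectSum.Decomposition 𝒩]
  (v : M →ₛₗ[ψ.toRingHom] N) (hv : ∀ (i : ℕ) (m : M), m ∈ ℳ i → v m ∈ 𝒩 i)
  (hloc : letI := ψ.toRingHom.toAlgebra; IsLocalization.Away (c : A) B)
  (hsurj : ∀ x : N, ∃ (k : ℕ) (m : M), ψ (c : A) ^ k • x = v m)
  (hinj : ∀ m : M, v m = 0 → ∃ l : ℕ, (c : A) ^ l • m = 0) (n : ℤ)

theorem v_smul (a : A) (m : M) : v (a • m) = ψ a • v m := v.map_smulₛₗ a m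

include hv in
theorem v_decompose (m : M) (i : ℕ) :
    v (DirectSum.decompose ℳ m i : M) = (DirectSum.decompose 𝒩 (v m) i : N) := by
  classical
  conv_rhs => rw [← DirectSum.sum_support_decompose ℳ m, map_sum, DirectSum.decompose_sum]
  rw [DFinsupp.finsetSum_apply, AddSubmonoidClass.coe_finsetSum]
  rw [Finset.sum_eq_single i]
  · exact (DirectSum.decompose_of_mem_same 𝒩 (hv i _ (SetLike.coe_mem _))).symm
  · intro j _ hj
    exact DirectSum.decompose_of_mem_ne 𝒩 (hv j _ (SetLike.coe_mem _)) hj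
  · intro h
    rw [DFinsupp.notMem_support_iff.1 h]
    simp

include hv hsurj in
theorem exists_eq_v {i : ℕ} {b : N} (hb : b ∈ 𝒩 i) :
    ∃ (k : ℕ) (a : M), a ∈ ℳ i ∧ ψ (c : A) ^ k • b = v a := by
  classical
  obtain ⟨k, m, hk⟩ := hsurj b
  refine ⟨k, _, (DirectSum.decompose ℳ m i).2, ?_⟩
  rw [v_decompose ψ v hv, ← hk]
  exact (DirectSum.decompose_of_mem_same 𝒩
    (by simpa using SetLike.GradedSMul.smul_mem (SetLike.pow_mem_graded k (ψ.map_mem c.2)) hb)).symm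

include hloc hinj in
theorem locModMap_injective (y : ProjectiveSpectrum ℬ) :
    Function.Injective (GrMod.locModMap ψ hψ v y : GrMod.LocMod 𝒜 (M := M) _ → GrMod.LocMod ℬ (M := N) y) := by
  rw [injective_iff_map_eq_zero]
  intro q hq
  induction q using LocalizedModule.induction_on with
  | h a s =>
    rw [GrMod.locModMap_mk, ← LocalizedModule.zero_mk 1, LocalizedModule.mk_eq] at hq
    obtain ⟨⟨t, ht⟩, hta⟩ := hq
    simp only [smul_zero, one_smul] at hta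
    obtain ⟨k, t', -, hk⟩ : ∃ (k : ℕ) (t' : A), True ∧ t * ψ (c : A) ^ k = ψ t' := by
      letI := ψ.toRingHom.toAlgebra
      obtain ⟨k, t', hk⟩ := IsLocalization.Away.surj (c : A) t
      exact ⟨k, t', trivial, hk⟩
    have h0 : v (t' • a) = 0 := by
      rw [v_smul, ← hk, mul_comm, mul_smul]
      exact (congrArg (_ • ·) hta).trans (smul_zero _)
    obtain ⟨l, hl⟩ := hinj _ h0
    rw [← LocalizedModule.zero_mk 1, LocalizedModule.mk_eq]
    refine ⟨⟨(c : A) ^ l * t', ?_⟩, ?_⟩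
    · show ψ ((c : A) ^ l * t') ∉ y.asHomogeneousIdeal
      rw [map_mul, map_pow, ← hk, mul_comm (ψ (c : A) ^ l), mul_assoc, ← pow_add]
      exact map_notMem ψ c hloc _ ht
    · simp only [smul_zero, one_smul]
      exact (mul_smul ((c : A) ^ l) t' a).trans hl

include hv hloc hsurj hinj in
/-- Over the image of `Proj ℬ`, sections of `M(n)~` correspond. -/
theorem comapApp_bijective (U : Opens (ProjectiveSpectrum.top 𝒜)) (V : Opens (ProjectiveSpectrum.top ℬ))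
    (hUV : V.1 ⊆ ProjectiveSpectrum.comap ψ hψ ⁻¹' U.1) (hVU : ProjectiveSpectrum.comap ψ hψ ⁻¹' U.1 ⊆ V.1)
    (hrange : U.1 ⊆ Set.range (ProjectiveSpectrum.comap ψ hψ)) :
    Function.Bijective (GrMod.comapApp ψ hψ v hv n U V hUV) := by
  classical
  obtain ⟨hoi, -⟩ := Groth.Agent.H11Proj.map_localization ψ hψ c hloc
  have inj : ∀ (U' : Opens (ProjectiveSpectrum.top 𝒜)) (s s' : GrMod.sect 𝒜 ℳ n (op U')),
      U'.1 ⊆ Set.range (ProjectiveSpectrum.comap ψ hψ) →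
      (∀ (y : ProjectiveSpectrum ℬ) (hy : ProjectiveSpectrum.comap ψ hψ y ∈ U'),
        GrMod.locModMap ψ hψ v y (s.1 ⟨_, hy⟩).1 = GrMod.locModMap ψ hψ v y (s'.1 ⟨_, hy⟩).1) → s = s' := by
    intro U' s s' hr h
    refine Subtype.ext (funext fun x => Subtype.ext ?_)
    obtain ⟨x, hx⟩ := x
    obtain ⟨y, rfl⟩ := hr hx
    exact locModMap_injective ψ hψ c v hloc hinj y (h y hx)
  refine ⟨fun s s' h => inj U s s' hrange fun y hy => ?_, fun s' => ?_⟩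
  · exact congrArg (fun (z : GrMod.sect ℬ 𝒩 n (op V)) => (z.1 ⟨y, hVU hy⟩).1) h
  · have hloc' : ∀ x : U, ∃ (N₁ : Opens (ProjectiveSpectrum.top 𝒜)) (_ : x.1 ∈ N₁) (_ : N₁ ≤ U)
        (s : GrMod.sect 𝒜 ℳ n (op N₁)), ∀ (y : ProjectiveSpectrum ℬ)
          (hy : ProjectiveSpectrum.comap ψ hψ y ∈ N₁) (hy' : y ∈ V),
          GrMod.locModMap ψ hψ v y (s.1 ⟨_, hy⟩).1 = (s'.1 ⟨y, hy'⟩).1 := by
      rintro ⟨x, hx⟩
      obtain ⟨y, rfl⟩ := hrange hx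
      obtain ⟨W, hyW, iWV, i, j, ⟨b, hb⟩, ⟨t, ht⟩, htW, hij, hfrac⟩ := s'.2 ⟨y, hVU hx⟩
      change (i : ℤ) = j + n ∨ b = 0 at hij
      obtain ⟨k, a₀, ha₀, hka⟩ := exists_eq_v ψ c v hv hsurj hb
      obtain ⟨l, t₀, ht₀, hlt⟩ := exists_eq_map ψ c hloc ht
      let a : M := if b = 0 then 0 else (c : A) ^ l • a₀
      have ha : a ∈ ℳ i := by
        simp only [a]
        split_ifs
        · exact zero_mem _
        · simpa using SetLike.GradedSMul.smul_mem (SetLike.pow_mem_graded l c.2) ha₀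
      have hva : v a = ψ (c : A) ^ (l + k) • b := by
        simp only [a]
        split_ifs with h
        · rw [h, smul_zero, map_zero]
        · rw [v_smul, ← hka, map_pow, smul_smul, ← pow_add]
      let s₀ : A := (c : A) ^ k * t₀
      have hs₀ : s₀ ∈ 𝒜 j := by simpa using SetLike.mul_mem_graded (SetLike.pow_mem_graded k c.2) ht₀
      have hψs : ψ s₀ = t * ψ (c : A) ^ (l + k) := by
        simp only [s₀, map_mul, map_pow, ← hlt]; ring
      haveI := hoi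
      let N₁ : Opens (ProjectiveSpectrum.top 𝒜) := (Proj.map ψ hψ) ''ᵁ W
      have hN : ∀ z ∈ N₁, s₀ ∉ z.asHomogeneousIdeal := by
        rintro _ ⟨w, hw, rfl⟩ h
        refine map_notMem ψ c hloc (l + k) (htW ⟨w, hw⟩) ?_
        rw [← hψs]
        exact h
      have hNU : N₁ ≤ U := by
        rintro _ ⟨w, hw, rfl⟩
        exact hUV (iWV.le hw)
      refine ⟨N₁, ⟨y, hyW, rfl⟩, hNU, ⟨fun z => ⟨LocalizedModule.mk a ⟨s₀, hN z.1 z.2⟩, ?_⟩, fun z =>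
        ⟨N₁, z.2, 𝟙 _, i, j, ⟨a, ha⟩, ⟨s₀, hs₀⟩, fun w => hN w.1 w.2, ?_, fun w => rfl⟩⟩, ?_⟩
      · rcases hij with hij | hij
        · exact Submodule.subset_span ⟨i, j, ⟨a, ha⟩, ⟨s₀, hs₀⟩, hN z.1 z.2, hij, rfl⟩
        · rw [show a = 0 from if_pos hij, LocalizedModule.zero_mk]
          exact zero_mem _
      · exact hij.imp id fun h => show a = 0 from if_pos h
      · intro w hw hw'
        obtain ⟨w', hwW, hww⟩ := hw
        obtain rfl : w' = w := (Proj.map ψ hψ).isOpenEmbedding.injective hww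
        refine (GrMod.locModMap_mk ψ hψ v _ _ _).trans ?_
        refine Eq.trans ?_ (hfrac ⟨w', hwW⟩).symm
        rw [LocalizedModule.mk_eq]
        refine ⟨1, ?_⟩
        show (1 : B) • (t • v a) = (1 : B) • (ψ s₀ • b)
        rw [hva, hψs, one_smul, one_smul, smul_smul, mul_comm]
    choose N₁ hxN hNU s hs using hloc'
    obtain ⟨s₁, hs₁, -⟩ := TopCat.Sheaf.existsUnique_gluing'
      ⟨(GrMod.tilde 𝒜 ℳ n).presheaf, (GrMod.tilde 𝒜 ℳ n).isSheaf⟩ N₁ U (fun x => homOfLE (hNU x))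
      (fun x hx => Opens.mem_iSup.2 ⟨⟨x, hx⟩, hxN ⟨x, hx⟩⟩) s (fun x x' => by
        refine inj (N₁ x ⊓ N₁ x') _ _ (fun z hz => hrange (hNU x hz.1)) fun y hy => ?_
        exact (hs x y hy.1 (hVU (hNU x hy.1))).trans (hs x' y hy.2 (hVU (hNU x hy.1))).symm)
    refine ⟨s₁, Subtype.ext (funext fun y => Subtype.ext ?_)⟩
    have hy := hUV y.2
    refine Eq.trans ?_ (hs ⟨_, hy⟩ y.1 (hxN ⟨_, hy⟩) y.2)
    rw [← hs₁ ⟨_, hy⟩]
    rfl

theorem comapApp_id {χ : 𝒜 →+*ᵍ 𝒜} (e : χ = GradedRingHom.id 𝒜) (hχ : 𝒜₊ ≤ (𝒜₊).map χ)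
    (w : M →ₛₗ[χ.toRingHom] M) (hwm : ∀ (i : ℕ) (m : M), m ∈ ℳ i → w m ∈ ℳ i) (hw : ∀ m, w m = m)
    (U V : Opens (ProjectiveSpectrum.top 𝒜)) (h : V.1 ⊆ ProjectiveSpectrum.comap χ hχ ⁻¹' U.1) (hVU : V ≤ U)
    (s : GrMod.sect 𝒜 ℳ n (op U)) (y : V) :
    ((GrMod.comapApp χ hχ w hwm n U V h s).1 y).1 = (s.1 ⟨y.1, hVU y.2⟩).1 := by
  subst e
  refine (GrMod.comapApp_apply_coe _ hχ w hwm n U V h s y).trans ?_
  have : ∀ q : GrMod.LocMod 𝒜 (M := M) y.1, GrMod.locModMap (GradedRingHom.id 𝒜) hχ w y.1 q = q := fun q => by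
    induction q using LocalizedModule.induction_on with
    | h a t => exact (GrMod.locModMap_mk (GradedRingHom.id 𝒜) hχ w _ a t).trans (by rw [hw]; rfl)
  exact this _

variable {C σC : Type u} [CommRing C] [SetLike σC C] [AddSubgroupClass σC C] {𝒞 : ℕ → σC} [GradedRing 𝒞]
  {L τ'' : Type u} [AddCommGroup L] [Module C L] [SetLike τ'' L] [AddSubgroupClass τ'' L] {ℒ : ℕ → τ''}
  [SetLike.GradedSMul 𝒞 ℒ]

theorem comapApp_comp (ψ' : ℬ →+*ᵍ 𝒞) (hψ' : 𝒞₊ ≤ (ℬ₊).map ψ')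
    (v' : N →ₛₗ[ψ'.toRingHom] L) (hv' : ∀ (i : ℕ) (m : N), m ∈ 𝒩 i → v' m ∈ ℒ i)
    {χ : 𝒜 →+*ᵍ 𝒞} (e : χ = ψ'.comp ψ) (hχ : 𝒞₊ ≤ (𝒜₊).map χ)
    (w : M →ₛₗ[χ.toRingHom] L) (hwm : ∀ (i : ℕ) (m : M), m ∈ ℳ i → w m ∈ ℒ i) (hw : ∀ m, w m = v' (v m))
    (U : Opens (ProjectiveSpectrum.top 𝒜)) (V : Opens (ProjectiveSpectrum.top ℬ))
    (W : Opens (ProjectiveSpectrum.top 𝒞)) (h₁ : V.1 ⊆ ProjectiveSpectrum.comap ψ hψ ⁻¹' U.1)
    (h₂ : W.1 ⊆ ProjectiveSpectrum.comap ψ' hψ' ⁻¹' V.1) (h₃ : W.1 ⊆ ProjectiveSpectrum.comap χ hχ ⁻¹' U.1)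
    (s : GrMod.sect 𝒜 ℳ n (op U)) :
    GrMod.comapApp ψ' hψ' v' hv' n V W h₂ (GrMod.comapApp ψ hψ v hv n U V h₁ s) =
      GrMod.comapApp χ hχ w hwm n U W h₃ s := by
  subst e
  refine Subtype.ext (funext fun y => Subtype.ext ?_)
  have : ∀ q : GrMod.LocMod 𝒜 (M := M) (ProjectiveSpectrum.comap ψ hψ (ProjectiveSpectrum.comap ψ' hψ' y.1)),
      GrMod.locModMap ψ' hψ' v' y.1 (GrMod.locModMap ψ hψ v (ProjectiveSpectrum.comap ψ' hψ' y.1) q) =
        GrMod.locModMap (ψ'.comp ψ) hχ w y.1 q := fun q => by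
    induction q using LocalizedModule.induction_on with
    | h a t =>
      refine (congrArg (GrMod.locModMap ψ' hψ' v' y.1) (GrMod.locModMap_mk ψ hψ v _ a t)).trans
        ((GrMod.locModMap_mk ψ' hψ' v' _ _ _).trans ?_)
      refine Eq.trans ?_ (GrMod.locModMap_mk (ψ'.comp ψ) hχ w _ a t).symm
      rw [hw]
      rfl
  exact this _

end graded

section transfer

variable {A σA B σB : Type u} [CommRing A] [SetLike σA A] [AddSubgroupClass σA A] {𝒜 : ℕ → σA} [GradedRing 𝒜]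
  [CommRing B] [SetLike σB B] [AddSubgroupClass σB B] {ℬ : ℕ → σB} [GradedRing ℬ]
  (ψ : 𝒜 →+*ᵍ ℬ) (hψ : ℬ₊ ≤ (𝒜₊).map ψ)
  {M τ : Type u} [AddCommGroup M] [Module A M] [SetLike τ M] [AddSubgroupClass τ M] {ℳ : ℕ → τ}
  [SetLike.GradedSMul 𝒜 ℳ]
  {N τ' : Type u} [AddCommGroup N] [Module B N] [SetLike τ' N] [AddSubgroupClass τ' N] {𝒩 : ℕ → τ'}
  [SetLike.GradedSMul ℬ 𝒩]
  (v : M →ₛₗ[ψ.toRingHom] N) (hv : ∀ (i : ℕ) (m : M), m ∈ ℳ i → v m ∈ 𝒩 i)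
  (n : ℤ) {P : Scheme.{u}} (eA : Proj 𝒜 ⟶ P) (eB : Proj ℬ ⟶ P)
  (he : Proj.map ψ hψ ≫ eA = eB)

/-- The comparison of the modules attached to graded modules, pushed forward to a scheme receiving both. -/
def transfer : (Scheme.Modules.pushforward eA).obj (GrMod.tilde 𝒜 ℳ n) ⟶
    (Scheme.Modules.pushforward eB).obj (GrMod.tilde ℬ 𝒩 n) :=
  (Scheme.Modules.pushforward eA).map (GrMod.comap ψ hψ v hv n) ≫
    (Scheme.Modules.pushforwardComp (Proj.map ψ hψ) eA).hom.app _ ≫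
    (Scheme.Modules.pushforwardCongr he).hom.app _

theorem transfer_app (W : P.Opens) (s : GrMod.sect 𝒜 ℳ n (op (eA ⁻¹ᵁ W))) :
    (transfer ψ hψ v hv n eA eB he).app W s =
      GrMod.comapApp ψ hψ v hv n (eA ⁻¹ᵁ W) (eB ⁻¹ᵁ W) (preimage_le ψ hψ eA eB he W) s := by
  subst he
  rfl

end transfer

section relative

open RelProj Scheme.AffineZariskiSite

variable {Y P : Scheme.{u}} {𝒮 : RelProj.QCGrAlg Y} {p : P ⟶ Y}
  {chart : ∀ (U : Y.Opens) (hU : IsAffineOpen U), (((p ⁻¹ᵁ U : P.Opens) : Scheme.{u}) ≅ Proj (𝒮.deg U hU))}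

theorem mod_map_id (M : AMod 𝒮.toQCAlg) {U : Y.Opensᵒᵖ} (m : M.val.obj U) : (M.val.map (𝟙 U)).hom m = m := by
  rw [PresheafOfModules.map_id]
  rfl

theorem mod_map_comp (M : AMod 𝒮.toQCAlg) {U V W : Y.Opensᵒᵖ} (f : U ⟶ V) (g : V ⟶ W) (m : M.val.obj U) :
    (M.val.map (f ≫ g)).hom m = (M.val.map g).hom ((M.val.map f).hom m) := by
  rw [PresheafOfModules.map_comp]
  rfl

theorem res_res (ℳ : RelProj.GrModule 𝒮) {U V W : Y.Opens} (hU : IsAffineOpen U) (hV : IsAffineOpen V)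
    (hW : IsAffineOpen W) (h₁ : V ≤ U) (h₂ : W ≤ V) (h₃ : W ≤ U) (m : ℳ.mod.val.obj (op U)) :
    ℳ.res hU hW h₃ m = ℳ.res hV hW h₂ (ℳ.res hU hV h₁ m) :=
  mod_map_comp ℳ.mod (homOfLE h₁).op (homOfLE h₂).op m

/-- The diagram of the chartwise modules, pushed forward to `P`. -/
def tildeDiagram (hP : RelProj.IsRelProj 𝒮 p chart) (ℳ : RelProj.GrModule 𝒮) (n : ℤ) :
    Y.AffineZariskiSiteᵒᵖ ⥤ P.Modules where
  obj U := (Scheme.Modules.pushforward (emb p chart U.unop.1 U.unop.2)).obj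
    (GrMod.tilde (𝒮.deg U.unop.1 U.unop.2) (ℳ.deg U.unop.1 U.unop.2) n)
  map {U V} i := transfer (𝒮.res U.unop.2 V.unop.2 (toOpens_mono i.unop.le))
    (Groth.Agent.H11Proj.site_irrelevant_le 𝒮 i.unop.le) (ℳ.res U.unop.2 V.unop.2 (toOpens_mono i.unop.le))
    (ℳ.res_mem _ _ _) n _ _ (map_res_emb_site hP i.unop.le)
  map_id U := by
    refine Scheme.Modules.hom_ext _ _ fun W => ?_
    ext s
    refine (transfer_app _ _ _ _ n _ _ _ W s).trans (Subtype.ext (funext fun y => Subtype.ext ?_))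
    refine comapApp_id n (Groth.Agent.H11Proj.res_self 𝒮 U.unop.2) _ _ _ (fun m => ?_) _ _ _ le_rfl s y
    rw [RelProj.GrModule.res_apply]
    exact (congrArg (fun f => (ℳ.mod.val.map f).hom m) (Subsingleton.elim _ (𝟙 (op U.unop.1)))).trans
      (H11Tilde.TildeLoc.mod_map_id ℳ.mod m)
  map_comp {U V T} i j := by
    refine Scheme.Modules.hom_ext _ _ fun W => ?_
    ext s
    refine (transfer_app _ _ _ _ n _ _ _ W s).trans ?_
    change _ = (transfer (𝒮.res V.unop.2 T.unop.2 (toOpens_mono j.unop.le))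
      (Groth.Agent.H11Proj.site_irrelevant_le 𝒮 j.unop.le) (ℳ.res V.unop.2 T.unop.2 (toOpens_mono j.unop.le))
      (ℳ.res_mem _ _ _) n _ _ (map_res_emb_site hP j.unop.le)).app W
      ((transfer (𝒮.res U.unop.2 V.unop.2 (toOpens_mono i.unop.le))
      (Groth.Agent.H11Proj.site_irrelevant_le 𝒮 i.unop.le) (ℳ.res U.unop.2 V.unop.2 (toOpens_mono i.unop.le))
      (ℳ.res_mem _ _ _) n _ _ (map_res_emb_site hP i.unop.le)).app W s)
    refine Eq.trans ?_ ((congrArg _ (transfer_app (𝒮.res U.unop.2 V.unop.2 (toOpens_mono i.unop.le))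
      (Groth.Agent.H11Proj.site_irrelevant_le 𝒮 i.unop.le) (ℳ.res U.unop.2 V.unop.2 (toOpens_mono i.unop.le))
      (ℳ.res_mem _ _ _) n _ _ (map_res_emb_site hP i.unop.le) W s)).trans
      (transfer_app (𝒮.res V.unop.2 T.unop.2 (toOpens_mono j.unop.le))
      (Groth.Agent.H11Proj.site_irrelevant_le 𝒮 j.unop.le) (ℳ.res V.unop.2 T.unop.2 (toOpens_mono j.unop.le))
      (ℳ.res_mem _ _ _) n _ _ (map_res_emb_site hP j.unop.le) W _)).symm
    exact (comapApp_comp (𝒮.res U.unop.2 V.unop.2 (toOpens_mono i.unop.le))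
      (Groth.Agent.H11Proj.site_irrelevant_le 𝒮 i.unop.le) (ℳ.res U.unop.2 V.unop.2 (toOpens_mono i.unop.le))
      (ℳ.res_mem _ _ _) n (𝒮.res V.unop.2 T.unop.2 (toOpens_mono j.unop.le))
      (Groth.Agent.H11Proj.site_irrelevant_le 𝒮 j.unop.le) (ℳ.res V.unop.2 T.unop.2 (toOpens_mono j.unop.le))
      (ℳ.res_mem _ _ _)
      (Groth.Agent.H11Proj.res_trans 𝒮 U.unop.2 V.unop.2 T.unop.2 (toOpens_mono i.unop.le) (toOpens_mono j.unop.le))
      _ (ℳ.res U.unop.2 T.unop.2 (toOpens_mono (i ≫ j).unop.le)) (ℳ.res_mem _ _ _)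
      (res_res ℳ U.unop.2 V.unop.2 T.unop.2 (toOpens_mono i.unop.le) (toOpens_mono j.unop.le) _) _ _ _ _ _ _ s).symm

theorem tildeDiagram_supp (hP : RelProj.IsRelProj 𝒮 p chart) (ℳ : RelProj.GrModule 𝒮) (n : ℤ)
    (U : Y.AffineZariskiSite) (W : P.Opens) :
    Function.Bijective (((tildeDiagram hP ℳ n).obj (op U)).presheaf.map
      (homOfLE (inf_le_left : W ⊓ p ⁻¹ᵁ U.1 ≤ W)).op) := by
  let j := emb p chart U.1 U.2
  have e : j ⁻¹ᵁ (W ⊓ p ⁻¹ᵁ U.1) = j ⁻¹ᵁ W := by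
    refine le_antisymm (j.preimage_mono inf_le_left) fun y hy => ?_
    exact ⟨hy, (opensRange_emb p chart U.1 U.2).le ⟨y, rfl⟩⟩
  haveI : IsIso (homOfLE (j.preimage_mono (inf_le_left : W ⊓ p ⁻¹ᵁ U.1 ≤ W))) := homOfLE_isIso_of_eq _ e
  exact ConcreteCategory.bijective_of_isIso
    ((GrMod.tilde (𝒮.deg U.1 U.2) (ℳ.deg U.1 U.2) n).presheaf.map
      (homOfLE (j.preimage_mono (inf_le_left : W ⊓ p ⁻¹ᵁ U.1 ≤ W))).op)

theorem transfer_bijective (hP : RelProj.IsRelProj 𝒮 p chart) (ℳ : RelProj.GrModule 𝒮)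
    (hℳ : Coh.IsQCoh ((AMod.toOS 𝒮.toQCAlg).obj ℳ.mod)) (n : ℤ) {U : Y.Opens} (hU : IsAffineOpen U) (r : Γ(Y, U))
    (W : P.Opens) (hW : W ≤ p ⁻¹ᵁ Y.basicOpen r) :
    Function.Bijective ((transfer (𝒮.res hU (hU.basicOpen r) (Y.basicOpen_le r)) (𝒮.irrelevant_le_map U hU r)
      (ℳ.res hU (hU.basicOpen r) (Y.basicOpen_le r)) (ℳ.res_mem _ _ _) n (emb p chart U hU)
      (emb p chart (Y.basicOpen r) (hU.basicOpen r)) (map_res_emb hP U hU r)).app W) := by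
  haveI : ((AMod.toOS 𝒮.toQCAlg).obj ℳ.mod).IsQuasicoherent := hℳ
  have hV := hU.basicOpen r
  have hle : Y.basicOpen r ≤ U := Y.basicOpen_le r
  let ψ := 𝒮.res hU hV hle
  have hψ := 𝒮.irrelevant_le_map U hU r
  have he := map_res_emb hP U hU r
  let c : 𝒮.deg U hU 0 := ⟨(𝒮.str.app (op U)).hom r, 𝒮.str_mem U hU r⟩
  have hloc : letI := ψ.toRingHom.toAlgebra
      IsLocalization.Away (c : 𝒮.presheaf.obj (op U)) (𝒮.presheaf.obj (op (Y.basicOpen r))) :=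
    𝒮.isQC U hU r
  have hstr : (𝒮.str.app (op (Y.basicOpen r))).hom (Y.presheaf.map (homOfLE hle).op r) =
      ψ (c : 𝒮.presheaf.obj (op U)) :=
    congr($(𝒮.str.naturality (homOfLE hle).op) r)
  let eU := emb p chart U hU
  let eV := emb p chart (Y.basicOpen r) hV
  have hsurj : ∀ x : ℳ.mod.val.obj (op (Y.basicOpen r)), ∃ (k : ℕ) (m : ℳ.mod.val.obj (op U)),
      ψ (c : 𝒮.presheaf.obj (op U)) ^ k • x = ℳ.res hU hV hle m := fun x => by
    obtain ⟨k, m, hm⟩ := H10Coh.exists_pow_smul_eq_res ((AMod.toOS 𝒮.toQCAlg).obj ℳ.mod) hU r x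
    refine ⟨k, m, ?_⟩
    rw [← hstr, ← map_pow, ← map_pow]
    exact hm.symm
  have hinj : ∀ m : ℳ.mod.val.obj (op U), ℳ.res hU hV hle m = 0 →
      ∃ l : ℕ, (c : 𝒮.presheaf.obj (op U)) ^ l • m = 0 := fun m hm => by
    obtain ⟨l, hl⟩ := H10Coh.exists_pow_smul_eq_zero_of_isCompact ((AMod.toOS 𝒮.toQCAlg).obj ℳ.mod)
      hU.isCompact r m hm
    refine ⟨l, ?_⟩
    show (𝒮.str.app (op U)).hom r ^ l • m = 0
    rw [← map_pow]
    exact hl
  have hb := comapApp_bijective ψ hψ c (ℳ.res hU hV hle) (ℳ.res_mem _ _ _) hloc hsurj hinj n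
    (eU ⁻¹ᵁ W) (eV ⁻¹ᵁ W) (preimage_le ψ hψ eU eV he W) (fun y hy => by
      change eV.base y ∈ W
      rw [show eV = Proj.map ψ hψ ≫ eU from he.symm]
      exact hy) (fun z hz => by
      obtain ⟨y, hy⟩ := (opensRange_emb p chart (Y.basicOpen r) hV).ge (hW hz)
      refine ⟨y, eU.isOpenEmbedding.injective ?_⟩
      rw [← hy]
      exact congr($(he).base y))
  refine Eq.mpr (congrArg Function.Bijective (funext fun s => ?_)) hb
  exact transfer_app ψ hψ (ℳ.res hU hV hle) (ℳ.res_mem _ _ _) n eU eV he W s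

theorem tildeDiagram_bij (hP : RelProj.IsRelProj 𝒮 p chart) (ℳ : RelProj.GrModule 𝒮)
    (hℳ : Coh.IsQCoh ((AMod.toOS 𝒮.toQCAlg).obj ℳ.mod)) (n : ℤ) {U V : Y.AffineZariskiSite} (i : V ⟶ U)
    (W : P.Opens) (hW : W ≤ p ⁻¹ᵁ V.1) : Function.Bijective (((tildeDiagram hP ℳ n).map i.op).app W) := by
  obtain ⟨U, hU⟩ := U
  obtain ⟨V, hV⟩ := V
  obtain ⟨r, hr⟩ : ∃ r : Γ(Y, U), Y.basicOpen r = V := i.le
  subst hr
  exact transfer_bijective hP ℳ hℳ n hU r W hW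

/-- The module attached to a quasi-coherent graded module on a relative Proj exists. -/
theorem exists_isRelTilde (hP : RelProj.IsRelProj 𝒮 p chart) (ℳ : RelProj.GrModule 𝒮)
    (hℳ : Coh.IsQCoh ((AMod.toOS 𝒮.toQCAlg).obj ℳ.mod)) (n : ℤ) :
    ∃ (F : P.Modules) (lam : ∀ (U : Y.Opens) (hU : IsAffineOpen U),
      F ⟶ (Scheme.Modules.pushforward (RelProj.emb p chart U hU)).obj (GrMod.tilde (𝒮.deg U hU) (ℳ.deg U hU) n)),
      RelProj.IsRelTilde 𝒮 p chart ℳ n F lam := by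
  let G := tildeDiagram hP ℳ n
  refine ⟨limit G, fun U hU => limit.π G (op ⟨U, hU⟩), fun U hU W hW =>
    bijective_limit_π p G (tildeDiagram_supp hP ℳ n) (tildeDiagram_bij hP ℳ hℳ n) ⟨U, hU⟩ W hW, ?_⟩
  intro U hU r W s y hy hy'
  let U₀ : Y.AffineZariskiSite := ⟨U, hU⟩
  let i : U₀.basicOpen r ⟶ U₀ := homOfLE (Scheme.AffineZariskiSite.basicOpen_le U₀ r)
  have h := congr($(congrArg (fun φ => Scheme.Modules.Hom.app φ W) (limit.w G i.op)) s)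
  have h' := h.symm.trans (transfer_app (𝒮.res hU (hU.basicOpen r) (Y.basicOpen_le r))
    (𝒮.irrelevant_le_map U hU r) (ℳ.res hU (hU.basicOpen r) (Y.basicOpen_le r)) (ℳ.res_mem _ _ _) n
    (emb p chart U hU) (emb p chart (Y.basicOpen r) (hU.basicOpen r)) (map_res_emb hP U hU r) W
    ((limit.π G (op ⟨U, hU⟩)).app W s))
  exact congrArg (fun (z : GrMod.sect (𝒮.deg (Y.basicOpen r) (hU.basicOpen r))
    (ℳ.deg (Y.basicOpen r) (hU.basicOpen r)) n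
    (op (emb p chart (Y.basicOpen r) (hU.basicOpen r) ⁻¹ᵁ W))) => (z.1 ⟨y, hy⟩).1) h'

end relative

end TildeLoc

end Groth.Agent.H11Tilde
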