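import Groth.Agent.H11Tilde.RelSys
import Groth.Agent.H11Tilde.TwistLoc
import Groth.Agent.H11Tilde.TwistPow
import Groth.Agent.H11Tilde.TwistInv
import Groth.Agent.H28Pinch.FreeBasisIso

/-!
# Periodicity of twisting sheaves on quasi-compact opens of a relative Proj
-/

set_option autoImplicit false
set_option linter.style.haveILetI false

noncomputable section

universe u

open CategoryTheory CategoryTheory.Limits AlgebraicGeometry Opposite TopologicalSpace

namespace Groth.Agent.H11Tilde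

variable {X : Scheme.{u}}

/-- Restriction of bilinear data to an open. -/
def Pairing.restrictOpen {M N P : X.Modules} (β : Pairing M N P) (U : X.Opens) :
    Pairing (M.restrict U.ι) (N.restrict U.ι) (P.restrict U.ι) where
  toFun W m n := β.toFun (U.ι ''ᵁ W) m n
  add_left W m m' n := β.add_left _ m m' n
  smul_left W r m n := β.smul_left _ ((U.ι.appIso W).inv r) m n
  add_right W m n n' := β.add_right _ m n n'
  smul_right W r m n := β.smul_right _ ((U.ι.appIso W).inv r) m n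
  res W W' h m n := β.res _ _ (Scheme.Hom.image_mono U.ι h) m n

/-- Tensor products over an open from bilinear data with local generators there. -/
theorem nonempty_tensor_restrict_iso {M N P : X.Modules} (β : Pairing M N P) (U : X.Opens)
    (h : ∀ x ∈ U, ∃ O : X.Opens, x ∈ O ∧ ∃ g : Γ(N, O), ∀ (V : X.Opens) (hV : V ≤ O),
      (Function.Bijective fun r : Γ(X, V) => r • N.presheaf.map (homOfLE hV).op g) ∧
        Function.Bijective fun m : Γ(M, V) => β.toFun V m (N.presheaf.map (homOfLE hV).op g)) :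
    Nonempty (CohB1.tensorMod (M.restrict U.ι) (N.restrict U.ι) ≅ P.restrict U.ι) := by
  refine nonempty_tensorMod_iso (β.restrictOpen U) fun x => ?_
  obtain ⟨O, hxO, g, hg⟩ := h x.1 x.2
  have hle : U.ι ''ᵁ (U.ι ⁻¹ᵁ O) ≤ O := by
    rw [Scheme.Hom.image_preimage_eq_opensRange_inf]
    exact inf_le_right
  refine ⟨U.ι ⁻¹ᵁ O, hxO, N.presheaf.map (homOfLE hle).op g, fun V hV => ?_⟩
  have hV' : U.ι ''ᵁ V ≤ O := (Scheme.Hom.image_mono U.ι hV).trans hle
  obtain ⟨h1, h2⟩ := hg _ hV'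
  have e : N.presheaf.map (homOfLE (Scheme.Hom.image_mono U.ι hV)).op (N.presheaf.map (homOfLE hle).op g) =
      N.presheaf.map (homOfLE hV').op g := by
    rw [← ConcreteCategory.comp_apply, ← Functor.map_comp]
    rfl
  refine ⟨?_, ?_⟩
  · refine Eq.mpr (congrArg Function.Bijective (funext fun r => ?_))
      (h1.comp (ConcreteCategory.bijective_of_isIso (U.ι.appIso V).inv))
    exact congrArg (fun z : Γ(N, U.ι ''ᵁ V) => (U.ι.appIso V).inv r • z) e
  · refine Eq.mpr (congrArg Function.Bijective (funext fun m => ?_)) h2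
    exact congrArg (fun z : Γ(N, U.ι ''ᵁ V) => β.toFun (U.ι ''ᵁ V) m z) e

theorem locMap_one_mk {A σA B σB : Type u} [CommRing A] [SetLike σA A] [AddSubgroupClass σA A] {𝒜 : ℕ → σA} [GradedRing 𝒜]
    [CommRing B] [SetLike σB B] [AddSubgroupClass σB B] {ℬ : ℕ → σB} [GradedRing ℬ]
    (ψ : 𝒜 →+*ᵍ ℬ) (hψ : HomogeneousIdeal.irrelevant ℬ ≤ (HomogeneousIdeal.irrelevant 𝒜).map ψ)
    (y : ProjectiveSpectrum ℬ) (h : (1 : A) ∉ (ProjectiveSpectrum.comap ψ hψ y).asHomogeneousIdeal)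
    (h' : (1 : B) ∉ y.asHomogeneousIdeal) :
    GrTwist.locMap ψ hψ y (Localization.mk 1 ⟨1, h⟩) = Localization.mk 1 ⟨1, h'⟩ := by
  rw [GrTwist.locMap_mk]
  exact Localization.mk_eq_mk_iff.2 (Localization.r_iff_exists.2 ⟨1, by simp⟩)

/-- The unit section of `O(0)`. -/
def twistOne {A σA : Type u} [CommRing A] [SetLike σA A] [AddSubgroupClass σA A] (𝒜 : ℕ → σA) [GradedRing 𝒜]
    (O : (Proj 𝒜).Opens) : Γ(GrTwist.twist 𝒜 0, O) :=
  secOf 𝒜 𝒜 (SetLike.one_mem_graded _) (SetLike.one_mem_graded _) (V := O)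
    (fun x _ => one_notMem 𝒜 x) (by simp)

theorem val_twistOne {A σA : Type u} [CommRing A] [SetLike σA A] [AddSubgroupClass σA A] (𝒜 : ℕ → σA) [GradedRing 𝒜]
    (O : (Proj 𝒜).Opens) (x : O) :
    GrTwist.val (V := O) (twistOne 𝒜 O) x = Localization.mk 1 ⟨1, one_notMem 𝒜 x.1⟩ := rfl

theorem locMap_twistOne {A σA B σB : Type u} [CommRing A] [SetLike σA A] [AddSubgroupClass σA A] {𝒜 : ℕ → σA} [GradedRing 𝒜]
    [CommRing B] [SetLike σB B] [AddSubgroupClass σB B] {ℬ : ℕ → σB} [GradedRing ℬ]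
    (ψ : 𝒜 →+*ᵍ ℬ) (hψ : HomogeneousIdeal.irrelevant ℬ ≤ (HomogeneousIdeal.irrelevant 𝒜).map ψ)
    (y : ProjectiveSpectrum ℬ) (O : (Proj 𝒜).Opens) (O' : (Proj ℬ).Opens)
    (h : ProjectiveSpectrum.comap ψ hψ y ∈ O) (h' : y ∈ O') :
    GrTwist.locMap ψ hψ y (GrTwist.val (V := O) (twistOne 𝒜 O) ⟨_, h⟩) =
      GrTwist.val (V := O') (twistOne ℬ O') ⟨y, h'⟩ := by
  rw [val_twistOne, val_twistOne]
  exact locMap_one_mk ψ hψ y _ _

variable {S P : Scheme.{u}} {𝒮 : RelProj.QCGrAlg S} {p : P ⟶ S}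
  {chart : ∀ (U : S.Opens) (hU : IsAffineOpen U), (((p ⁻¹ᵁ U : P.Opens) : Scheme.{u}) ≅ Proj (𝒮.deg U hU))}

/-- `O(0)` is the structure sheaf. -/
theorem nonempty_relTwist_zero_iso (hP : RelProj.IsRelProj 𝒮 p chart) {F : P.Modules}
    {lam : ∀ (U : S.Opens) (hU : IsAffineOpen U),
      F ⟶ (Scheme.Modules.pushforward (RelProj.emb p chart U hU)).obj (GrTwist.twist (𝒮.deg U hU) 0)}
    (hF : RelProj.IsRelTwist 𝒮 p chart 0 F lam) : Nonempty (F ≅ Coh.structureModule P) := by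
  obtain ⟨g₀, hg₀, -⟩ := existsUnique_section hP (isRel_twist hF) (fun U hU => twistOne (𝒮.deg U hU) _)
    (W := ⊤) (by
      intro U hU r y hy hy'
      exact (locMap_twistOne (𝒮.res hU (hU.basicOpen r) (S.basicOpen_le r)) (𝒮.irrelevant_le_map U hU r) y
        (RelProj.emb p chart U hU ⁻¹ᵁ ⊤) (RelProj.emb p chart (S.basicOpen r) (hU.basicOpen r) ⁻¹ᵁ ⊤) hy' hy).symm)
  haveI : IsIso (homOfGlobal F g₀) := by
    refine H28Pinch.isIso_of_locally_bijective _ fun x => ?_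
    obtain ⟨⟨U, hU⟩, y, hy⟩ := exists_mem_range_emb p chart x
    let j := RelProj.emb p chart U hU
    refine ⟨p ⁻¹ᵁ U, (opensRange_emb p chart U hU).le ⟨y, hy⟩, fun V hV => ?_⟩
    refine (Function.Bijective.of_comp_iff' (hF.bijective U hU V hV) _).1 ?_
    have := Scheme.Hom.isIso_app j V (hV.trans (opensRange_emb p chart U hU).ge)
    have hb := bijective_smul_gen (𝒮.deg U hU) (n := 0) (V := j ⁻¹ᵁ V) (SetLike.one_mem_graded _) (SetLike.one_mem_graded _)
      (fun x _ => one_notMem (𝒮.deg U hU) x) (fun x _ => one_notMem (𝒮.deg U hU) x) (by simp)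
      (twistOne (𝒮.deg U hU) (j ⁻¹ᵁ V)) fun y => rfl
    refine Eq.mpr (congrArg Function.Bijective (funext fun r => ?_))
      (hb.comp (ConcreteCategory.bijective_of_isIso (j.app V)))
    change (lam U hU).app V ((show Γ(P, V) from r) • F.presheaf.map (homOfLE (le_top : V ≤ ⊤)).op g₀) = _
    rw [Scheme.Modules.Hom.app_smul, app_map_apply (lam U hU) (le_top : V ≤ ⊤)]
    refine (congrArg (fun z => (show Γ(P, V) from r) • ((Scheme.Modules.pushforward j).obj
      (GrTwist.twist (𝒮.deg U hU) 0)).presheaf.map (homOfLE (le_top : V ≤ ⊤)).op z) (hg₀ U hU)).trans ?_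
    rfl
  exact ⟨(asIso (homOfGlobal F g₀)).symm⟩

/-- The multiplication of relative twisting sheaves. -/
theorem exists_relTwist_pairing (hP : RelProj.IsRelProj 𝒮 p chart) {a b c : ℤ} (h : c = a + b) {F₁ F₂ F : P.Modules}
    {lam₁ : ∀ (U : S.Opens) (hU : IsAffineOpen U),
      F₁ ⟶ (Scheme.Modules.pushforward (RelProj.emb p chart U hU)).obj (GrTwist.twist (𝒮.deg U hU) a)}
    {lam₂ : ∀ (U : S.Opens) (hU : IsAffineOpen U),
      F₂ ⟶ (Scheme.Modules.pushforward (RelProj.emb p chart U hU)).obj (GrTwist.twist (𝒮.deg U hU) b)}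
    {lam : ∀ (U : S.Opens) (hU : IsAffineOpen U),
      F ⟶ (Scheme.Modules.pushforward (RelProj.emb p chart U hU)).obj (GrTwist.twist (𝒮.deg U hU) c)}
    (h₁ : RelProj.IsRelTwist 𝒮 p chart a F₁ lam₁) (h₂ : RelProj.IsRelTwist 𝒮 p chart b F₂ lam₂)
    (hF : RelProj.IsRelTwist 𝒮 p chart c F lam) :
    ∃ B : Pairing F₁ F₂ F, ∀ (U : S.Opens) (hU : IsAffineOpen U) (W : P.Opens) (s : Γ(F₁, W)) (t : Γ(F₂, W)),
      (lam U hU).app W (B.toFun W s t) =
        (mulPairing (𝒮.deg U hU) (𝒮.deg U hU) h).toFun _ ((lam₁ U hU).app W s) ((lam₂ U hU).app W t) := by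
  refine exists_pairing hP (isRel_twist hF) (lam₁ := lam₁) (lam₂ := lam₂) (D₁ := twistSys 𝒮 a) (D₂ := twistSys 𝒮 b)
    (fun U hU => mulPairing (𝒮.deg U hU) (𝒮.deg U hU) h) ?_
  intro W s t U hU r y hy hy'
  refine (congrArg₂ (fun w v : GrTwist.Loc (𝒮.deg (S.basicOpen r) (hU.basicOpen r)) y => w * v)
    (h₂.compat U hU r W t y hy hy') (h₁.compat U hU r W s y hy hy')).trans ?_
  exact (map_mul (GrTwist.locMap (𝒮.res hU (hU.basicOpen r) (S.basicOpen_le r)) (𝒮.irrelevant_le_map U hU r) y) _ _).symm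

/-- On a quasi-compact open the twisting sheaves are invertible with period. -/
theorem exists_period (hP : RelProj.IsRelProj 𝒮 p chart) (U : P.Opens) (hUc : IsCompact (U : Set P)) :
    ∃ d : ℕ, 0 < d ∧ ∀ n : ℤ, (d : ℤ) ∣ n →
      ∀ (L : P.Modules) (lam : ∀ (V : S.Opens) (hV : IsAffineOpen V),
          L ⟶ (Scheme.Modules.pushforward (RelProj.emb p chart V hV)).obj (GrTwist.twist (𝒮.deg V hV) n)),
        RelProj.IsRelTwist 𝒮 p chart n L lam →
      ∀ (L' : P.Modules) (lam' : ∀ (V : S.Opens) (hV : IsAffineOpen V),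
          L' ⟶ (Scheme.Modules.pushforward (RelProj.emb p chart V hV)).obj (GrTwist.twist (𝒮.deg V hV) (-n))),
        RelProj.IsRelTwist 𝒮 p chart (-n) L' lam' →
          Nonempty (CohB1.tensorMod (L.restrict U.ι) (L'.restrict U.ι) ≅ Coh.structureModule (U : Scheme.{u})) := by
  classical
  have hpt : ∀ x : P, ∃ (V : S.Opens) (hV : IsAffineOpen V) (y : Proj (𝒮.deg V hV)) (m : ℕ)
      (f : 𝒮.presheaf.obj (op V)), 0 < m ∧ f ∈ 𝒮.deg V hV m ∧ f ∉ y.asHomogeneousIdeal ∧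
      (RelProj.emb p chart V hV).base y = x := by
    intro x
    obtain ⟨⟨V, hV⟩, y, hy⟩ := exists_mem_range_emb p chart x
    obtain ⟨m, f, hm, hf, hfy⟩ := exists_posHom_notMem (𝒮.deg V hV) y
    exact ⟨V, hV, y, m, f, hm, hf, hfy, hy⟩
  choose V hV y m f hm hf hfy hy using hpt
  let O : P → P.Opens := fun x =>
    (RelProj.emb p chart (V x) (hV x)) ''ᵁ Proj.basicOpen (𝒮.deg (V x) (hV x)) (f x)
  have hxO : ∀ x, x ∈ O x := fun x => ⟨y x, hfy x, hy x⟩
  obtain ⟨t, ht⟩ := hUc.elim_finite_subcover (fun x => (O x : Set P)) (fun x => (O x).2)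
    fun x _ => Set.mem_iUnion.2 ⟨x, hxO x⟩
  refine ⟨∏ x ∈ t, m x, Finset.prod_pos fun x _ => hm x, ?_⟩
  intro n hn L lam hL L' lam' hL'
  obtain ⟨F, lamF, hF⟩ := exists_isRelTwist hP (0 : ℤ)
  have h0 : (0 : ℤ) = n + -n := (add_neg_cancel n).symm
  obtain ⟨B, hB⟩ := exists_relTwist_pairing hP h0 hL hL' hF
  obtain ⟨e₀⟩ := nonempty_relTwist_zero_iso hP hF
  obtain ⟨e⟩ := nonempty_tensor_restrict_iso B U fun x hx => by
    obtain ⟨i, hit, hxi⟩ := Set.mem_iUnion₂.1 (ht hx)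
    have hdvd : (m i : ℤ) ∣ n := (Int.natCast_dvd_natCast.2 (Finset.dvd_prod_of_mem m hit)).trans hn
    obtain ⟨k, hk⟩ := hdvd
    let j := RelProj.emb p chart (V i) (hV i)
    let 𝒜 := 𝒮.deg (V i) (hV i)
    let D := Proj.basicOpen 𝒜 (f i)
    have ha : (f i) ^ (-k).toNat ∈ 𝒜 ((-k).toNat * m i) := SetLike.pow_mem_graded _ (hf i)
    have hb : (f i) ^ k.toNat ∈ 𝒜 (k.toNat * m i) := SetLike.pow_mem_graded _ (hf i)
    have hdeg : (((-k).toNat * m i : ℕ) : ℤ) = ((k.toNat * m i : ℕ) : ℤ) + -n := by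
      have h0 := Int.toNat_sub_toNat_neg k
      rw [hk]
      push_cast
      linear_combination (-(m i : ℤ)) * h0
    have hle : j ''ᵁ D ≤ p ⁻¹ᵁ V i :=
      (Scheme.Hom.image_le_opensRange _ _).trans (opensRange_emb p chart (V i) (hV i)).le
    have hpre : j ⁻¹ᵁ (j ''ᵁ D) ≤ D := (Scheme.Hom.preimage_image_eq _ _).le
    obtain ⟨g₀, hg₀⟩ := (hL'.bijective (V i) (hV i) _ hle).2
      (secOf 𝒜 𝒜 ha hb (fun z hz => pow_notMem 𝒜 (hpre hz) _) hdeg)
    refine ⟨j ''ᵁ D, hxi, g₀, fun W hW => ?_⟩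
    have hWD : ∀ z ∈ j ⁻¹ᵁ W, f i ∉ z.asHomogeneousIdeal := fun z hz => hpre (hW hz)
    have hWV : W ≤ p ⁻¹ᵁ V i := hW.trans hle
    have hgW : (lam' (V i) (hV i)).app W (L'.presheaf.map (homOfLE hW).op g₀) =
        secOf 𝒜 𝒜 ha hb (fun z hz => pow_notMem 𝒜 (hWD z hz) _) hdeg := by
      rw [app_map_apply (lam' (V i) (hV i)) hW, hg₀]
      rfl
    refine ⟨?_, ?_⟩
    · have := Scheme.Hom.isIso_app j W (hWV.trans (opensRange_emb p chart (V i) (hV i)).ge)
      refine (Function.Bijective.of_comp_iff' (hL'.bijective (V i) (hV i) W hWV) _).1 ?_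
      refine Eq.mpr (congrArg Function.Bijective (funext fun r => ?_))
        ((bijective_smul_gen 𝒜 ha hb (fun z hz => pow_notMem 𝒜 (hWD z hz) _)
          (fun z hz => pow_notMem 𝒜 (hWD z hz) _) hdeg
          (secOf 𝒜 𝒜 ha hb (fun z hz => pow_notMem 𝒜 (hWD z hz) _) hdeg) fun z => rfl).comp
          (ConcreteCategory.bijective_of_isIso (j.app W)))
      change (lam' (V i) (hV i)).app W (r • L'.presheaf.map (homOfLE hW).op g₀) = _
      rw [Scheme.Modules.Hom.app_smul, hgW]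
      rfl
    · refine (Function.Bijective.of_comp_iff' (hF.bijective (V i) (hV i) W hWV) _).1 ?_
      refine Eq.mpr (congrArg Function.Bijective (funext fun s => ?_))
        ((bijective_mulSec_gen 𝒜 𝒜 h0 ha hb
          (fun z hz => pow_notMem 𝒜 (hWD z hz) _) (fun z hz => pow_notMem 𝒜 (hWD z hz) _) hdeg
          (secOf 𝒜 𝒜 ha hb (fun z hz => pow_notMem 𝒜 (hWD z hz) _) hdeg) fun z => rfl).comp
          (hL.bijective (V i) (hV i) W hWV))
      change (lamF (V i) (hV i)).app W (B.toFun W s _) = _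
      refine (hB (V i) (hV i) W s _).trans ?_
      exact congrArg (fun z => mulSec 𝒜 𝒜 h0 ((lam (V i) (hV i)).app W s) z) hgW
  exact ⟨e ≪≫ (Scheme.Modules.restrictFunctor U.ι).mapIso e₀ ≪≫ Scheme.Modules.restrictUnitIso U.ι⟩

end Groth.Agent.H11Tilde
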