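import Groth.Agent.H11Tilde.RelGlue
import Groth.Agent.H11Tilde.TwistTensor
import Groth.Agent.H11Tilde.RelMap

/-!
# The chart systems of `ℳ(n)~` and `O(n)` on a relative Proj
-/

set_option autoImplicit false

noncomputable section

universe u

open CategoryTheory CategoryTheory.Limits AlgebraicGeometry Opposite TopologicalSpace

namespace Groth.Agent.H11Tilde

variable {S P : Scheme.{u}} {𝒮 : RelProj.QCGrAlg S} {p : P ⟶ S}
  {chart : ∀ (U : S.Opens) (hU : IsAffineOpen U), (((p ⁻¹ᵁ U : P.Opens) : Scheme.{u}) ≅ Proj (𝒮.deg U hU))}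

/-- The chart system of `ℳ(n)~`. -/
def tildeSys (ℳ : RelProj.GrModule 𝒮) (n : ℤ) : ChartSys 𝒮 where
  T U hU := GrMod.tilde (𝒮.deg U hU) (ℳ.deg U hU) n
  Value U hU y := GrMod.LocMod (𝒮.deg U hU) (M := ℳ.mod.val.obj (op U)) y
  value U hU {O} s y := sval (𝒮.deg U hU) (ℳ.deg U hU) s y
  value_ext U hU {O} s t h := sval_ext (𝒮.deg U hU) (ℳ.deg U hU) h
  value_res U hU {O O'} h s y := sval_map (𝒮.deg U hU) (ℳ.deg U hU) h s y
  move U hU r y := GrMod.locModMap (𝒮.res hU (hU.basicOpen r) (S.basicOpen_le r)) (𝒮.irrelevant_le_map U hU r)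
    (ℳ.res hU (hU.basicOpen r) (S.basicOpen_le r)) y

theorem isRel_tilde {ℳ : RelProj.GrModule 𝒮} {n : ℤ} {F : P.Modules}
    {lam : ∀ (U : S.Opens) (hU : IsAffineOpen U),
      F ⟶ (Scheme.Modules.pushforward (RelProj.emb p chart U hU)).obj (GrMod.tilde (𝒮.deg U hU) (ℳ.deg U hU) n)}
    (hF : RelProj.IsRelTilde 𝒮 p chart ℳ n F lam) : (tildeSys ℳ n).IsRel p chart F lam :=
  ⟨hF.bijective, fun W s U hU r y hy hy' => hF.compat U hU r W s y hy hy'⟩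

/-- The chart system of `O(n)`. -/
def twistSys (𝒮 : RelProj.QCGrAlg S) (n : ℤ) : ChartSys 𝒮 where
  T U hU := GrTwist.twist (𝒮.deg U hU) n
  Value U hU y := GrTwist.Loc (𝒮.deg U hU) y
  value U hU {O} s y := GrTwist.val s y
  value_ext U hU {O} s t h := sval_ext (𝒮.deg U hU) (𝒮.deg U hU) h
  value_res U hU {O O'} h s y := rfl
  move U hU r y := GrTwist.locMap (𝒮.res hU (hU.basicOpen r) (S.basicOpen_le r)) (𝒮.irrelevant_le_map U hU r) y

theorem isRel_twist {n : ℤ} {L : P.Modules}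
    {lam : ∀ (U : S.Opens) (hU : IsAffineOpen U),
      L ⟶ (Scheme.Modules.pushforward (RelProj.emb p chart U hU)).obj (GrTwist.twist (𝒮.deg U hU) n)}
    (hL : RelProj.IsRelTwist 𝒮 p chart n L lam) : (twistSys 𝒮 n).IsRel p chart L lam :=
  ⟨hL.bijective, fun W s U hU r y hy hy' => hL.compat U hU r W s y hy hy'⟩

theorem exists_gen (hgen : 𝒮.IsGenDegOne) (U : S.Opens) (hU : IsAffineOpen U) (q : ℤ) (y : Proj (𝒮.deg U hU)) :
    ∃ (i j : ℕ) (a b : 𝒮.presheaf.obj (op U)), a ∈ 𝒮.deg U hU i ∧ b ∈ 𝒮.deg U hU j ∧ (i : ℤ) = j + q ∧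
      a ∉ y.asHomogeneousIdeal ∧ b ∉ y.asHomogeneousIdeal :=
  cover_of_degOne (𝒮.deg U hU) (fun z => exists_degOne_notMem (𝒮.deg U hU) (hgen U hU) z) q y

theorem hgen_of_cover {A σA : Type u} [CommRing A] [SetLike σA A] [AddSubgroupClass σA A] (𝒜 : ℕ → σA)
    [GradedRing 𝒜] {M τ : Type u} [AddCommGroup M] [Module A M] [SetLike τ M] [AddSubgroupClass τ M] (ℳ : ℕ → τ)
    [SetLike.GradedSMul 𝒜 ℳ] {a b c : ℤ} (h : c = a + b) (y : Proj 𝒜)
    (hy : ∃ (i j : ℕ) (f g : A), f ∈ 𝒜 i ∧ g ∈ 𝒜 j ∧ (i : ℤ) = j + b ∧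
      f ∉ y.asHomogeneousIdeal ∧ g ∉ y.asHomogeneousIdeal) :
    ∃ O : (Proj 𝒜).Opens, y ∈ O ∧ ∃ s : Γ(GrMod.tilde 𝒜 𝒜 b, O), ∀ (V : (Proj 𝒜).Opens) (hV : V ≤ O),
      (Function.Bijective fun r : Γ(Proj 𝒜, V) => r • (GrMod.tilde 𝒜 𝒜 b).presheaf.map (homOfLE hV).op s) ∧
      Function.Bijective fun m : Γ(GrMod.tilde 𝒜 ℳ a, V) =>
        (mulPairing 𝒜 ℳ h).toFun V m ((GrMod.tilde 𝒜 𝒜 b).presheaf.map (homOfLE hV).op s) := by
  obtain ⟨i, j, f, g, hf, hg, hij, hfy, hgy⟩ := hy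
  let O : (Proj 𝒜).Opens := Proj.basicOpen 𝒜 (f * g)
  have hO : ∀ z ∈ O, f ∉ z.asHomogeneousIdeal ∧ g ∉ z.asHomogeneousIdeal := fun z hz =>
    ⟨fun hc => hz (z.asHomogeneousIdeal.toIdeal.mul_mem_right _ hc),
      fun hc => hz (z.asHomogeneousIdeal.toIdeal.mul_mem_left _ hc)⟩
  refine ⟨O, mul_notMem 𝒜 hfy hgy, secOf 𝒜 𝒜 hf hg (fun z hz => (hO z hz).2) hij, fun V hV => ⟨?_, ?_⟩⟩
  · exact bijective_smul_gen 𝒜 hf hg (fun z hz => (hO z (hV hz)).1) (fun z hz => (hO z (hV hz)).2) hij _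
      fun z => rfl
  · exact bijective_mulSec_gen 𝒜 ℳ h hf hg (fun z hz => (hO z (hV hz)).1) (fun z hz => (hO z (hV hz)).2) hij _
      fun z => rfl

/-- `ℳ(a)~ ⊗ O(b) ≅ ℳ(a + b)~` on a relative Proj of an algebra generated in degree one. -/
theorem nonempty_relTilde_tensor_iso (hP : RelProj.IsRelProj 𝒮 p chart) (hgen : 𝒮.IsGenDegOne)
    {ℳ : RelProj.GrModule 𝒮} {a b c : ℤ} (h : c = a + b) {F₁ F₂ F : P.Modules}
    {lam₁ : ∀ (U : S.Opens) (hU : IsAffineOpen U),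
      F₁ ⟶ (Scheme.Modules.pushforward (RelProj.emb p chart U hU)).obj (GrMod.tilde (𝒮.deg U hU) (ℳ.deg U hU) a)}
    {lam₂ : ∀ (U : S.Opens) (hU : IsAffineOpen U),
      F₂ ⟶ (Scheme.Modules.pushforward (RelProj.emb p chart U hU)).obj (GrTwist.twist (𝒮.deg U hU) b)}
    {lam : ∀ (U : S.Opens) (hU : IsAffineOpen U),
      F ⟶ (Scheme.Modules.pushforward (RelProj.emb p chart U hU)).obj (GrMod.tilde (𝒮.deg U hU) (ℳ.deg U hU) c)}
    (h₁ : RelProj.IsRelTilde 𝒮 p chart ℳ a F₁ lam₁) (h₂ : RelProj.IsRelTwist 𝒮 p chart b F₂ lam₂)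
    (hF : RelProj.IsRelTilde 𝒮 p chart ℳ c F lam) : Nonempty (CohB1.tensorMod F₁ F₂ ≅ F) := by
  refine nonempty_tensor_iso_of_charts hP (isRel_tilde h₁) (isRel_twist h₂) (isRel_tilde hF)
    (fun U hU => mulPairing (𝒮.deg U hU) (ℳ.deg U hU) h) ?_
    fun U hU y => hgen_of_cover (𝒮.deg U hU) (ℳ.deg U hU) h y (exists_gen hgen U hU b y)
  intro W s t U hU r y hy hy'
  refine (congrArg₂ (fun (w : GrTwist.Loc (𝒮.deg (S.basicOpen r) (hU.basicOpen r)) y)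
      (v : GrMod.LocMod (𝒮.deg (S.basicOpen r) (hU.basicOpen r)) (M := ℳ.mod.val.obj (op (S.basicOpen r))) y) => w • v)
    (h₂.compat U hU r W t y hy hy') (h₁.compat U hU r W s y hy hy')).trans ?_
  exact (GrMod.locModMap_smul (𝒮.res hU (hU.basicOpen r) (S.basicOpen_le r)) (𝒮.irrelevant_le_map U hU r)
    (ℳ.res hU (hU.basicOpen r) (S.basicOpen_le r)) y _ _).symm

/-- `O(a) ⊗ O(b) ≅ O(a + b)` on a relative Proj of an algebra generated in degree one. -/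
theorem nonempty_relTwist_tensor_iso (hP : RelProj.IsRelProj 𝒮 p chart) (hgen : 𝒮.IsGenDegOne)
    {a b c : ℤ} (h : c = a + b) {F₁ F₂ F : P.Modules}
    {lam₁ : ∀ (U : S.Opens) (hU : IsAffineOpen U),
      F₁ ⟶ (Scheme.Modules.pushforward (RelProj.emb p chart U hU)).obj (GrTwist.twist (𝒮.deg U hU) a)}
    {lam₂ : ∀ (U : S.Opens) (hU : IsAffineOpen U),
      F₂ ⟶ (Scheme.Modules.pushforward (RelProj.emb p chart U hU)).obj (GrTwist.twist (𝒮.deg U hU) b)}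
    {lam : ∀ (U : S.Opens) (hU : IsAffineOpen U),
      F ⟶ (Scheme.Modules.pushforward (RelProj.emb p chart U hU)).obj (GrTwist.twist (𝒮.deg U hU) c)}
    (h₁ : RelProj.IsRelTwist 𝒮 p chart a F₁ lam₁) (h₂ : RelProj.IsRelTwist 𝒮 p chart b F₂ lam₂)
    (hF : RelProj.IsRelTwist 𝒮 p chart c F lam) : Nonempty (CohB1.tensorMod F₁ F₂ ≅ F) := by
  refine nonempty_tensor_iso_of_charts hP (isRel_twist h₁) (isRel_twist h₂) (isRel_twist hF)
    (fun U hU => mulPairing (𝒮.deg U hU) (𝒮.deg U hU) h) ?_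
    fun U hU y => hgen_of_cover (𝒮.deg U hU) (𝒮.deg U hU) h y (exists_gen hgen U hU b y)
  intro W s t U hU r y hy hy'
  refine (congrArg₂ (fun w v : GrTwist.Loc (𝒮.deg (S.basicOpen r) (hU.basicOpen r)) y => w * v)
    (h₂.compat U hU r W t y hy hy') (h₁.compat U hU r W s y hy hy')).trans ?_
  exact (map_mul (GrTwist.locMap (𝒮.res hU (hU.basicOpen r) (S.basicOpen_le r)) (𝒮.irrelevant_le_map U hU r) y) _ _).symm

end Groth.Agent.H11Tilde
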