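import Groth.Agent.H11Tilde.TwistLoc
import Groth.Agent.H11Tilde.RelSys

/-!
# The comparison of relative twisting sheaves along a graded homomorphism
-/

set_option autoImplicit false
set_option linter.style.haveILetI false

noncomputable section

universe u

open CategoryTheory CategoryTheory.Limits AlgebraicGeometry Opposite TopologicalSpace
open scoped HomogeneousIdeal

namespace Groth.Agent.H11Tilde

namespace RelComap

theorem locMap_val_congr {A σA B σB : Type u} [CommRing A] [SetLike σA A] [AddSubgroupClass σA A] {𝒜 : ℕ → σA}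
    [GradedRing 𝒜] [CommRing B] [SetLike σB B] [AddSubgroupClass σB B] {ℬ : ℕ → σB} [GradedRing ℬ]
    {χ χ' : 𝒜 →+*ᵍ ℬ} (e : χ = χ') (hχ : ℬ₊ ≤ (𝒜₊).map χ) (hχ' : ℬ₊ ≤ (𝒜₊).map χ') {n : ℤ}
    {O : (Proj 𝒜).Opens} (s : Γ(GrTwist.twist 𝒜 n, O)) (y : ProjectiveSpectrum ℬ)
    (hy : ProjectiveSpectrum.comap χ hχ y ∈ O) (hy' : ProjectiveSpectrum.comap χ' hχ' y ∈ O) :
    GrTwist.locMap χ hχ y (GrTwist.val s ⟨_, hy⟩) = GrTwist.locMap χ' hχ' y (GrTwist.val s ⟨_, hy'⟩) := by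
  subst e
  rfl

variable {Y PA PB : Scheme.{u}} {𝒜 ℬ : RelProj.QCGrAlg Y}
  (φ : 𝒜.toQCAlg ⟶ ℬ.toQCAlg) (hφ : RelProj.IsGradedHom φ)
  (hirr : ∀ (U : Y.Opens) (hU : IsAffineOpen U),
    (ℬ.deg U hU)₊ ≤ ((𝒜.deg U hU)₊).map (RelProj.gradedHomAt φ hφ U hU))
  {pA : PA ⟶ Y} {pB : PB ⟶ Y}
  {chartA : ∀ (U : Y.Opens) (hU : IsAffineOpen U), (((pA ⁻¹ᵁ U : PA.Opens) : Scheme.{u}) ≅ Proj (𝒜.deg U hU))}
  {chartB : ∀ (U : Y.Opens) (hU : IsAffineOpen U), (((pB ⁻¹ᵁ U : PB.Opens) : Scheme.{u}) ≅ Proj (ℬ.deg U hU))}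
  {h : PB ⟶ PA} (hh : RelProj.IsRelProjMap φ hφ hirr chartA chartB h) (n : ℤ)

include hh in
theorem map_emb (U : Y.Opens) (hU : IsAffineOpen U) :
    Proj.map (RelProj.gradedHomAt φ hφ U hU) (hirr U hU) ≫ RelProj.emb pA chartA U hU =
      RelProj.emb pB chartB U hU ≫ h := by
  rw [RelProj.emb, RelProj.emb, Category.assoc, hh U hU, Iso.inv_hom_id_assoc]

theorem square (U : Y.Opens) (hU : IsAffineOpen U) (r : Γ(Y, U)) :
    (RelProj.gradedHomAt φ hφ (Y.basicOpen r) (hU.basicOpen r)).comp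
        (𝒜.res hU (hU.basicOpen r) (Y.basicOpen_le r)) =
      (ℬ.res hU (hU.basicOpen r) (Y.basicOpen_le r)).comp (RelProj.gradedHomAt φ hφ U hU) :=
  DFunLike.ext _ _ fun a => congr($(φ.hom.naturality (homOfLE (Y.basicOpen_le r)).op) a)

variable {LA : PA.Modules}
  (lamA : ∀ (U : Y.Opens) (hU : IsAffineOpen U),
      LA ⟶ (Scheme.Modules.pushforward (RelProj.emb pA chartA U hU)).obj (GrTwist.twist (𝒜.deg U hU) n))

/-- The chartwise comparison. -/
def psi (U : Y.Opens) (hU : IsAffineOpen U) : LA ⟶ (Scheme.Modules.pushforward h).obj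
    ((Scheme.Modules.pushforward (RelProj.emb pB chartB U hU)).obj (GrTwist.twist (ℬ.deg U hU) n)) :=
  lamA U hU ≫ transfer (RelProj.gradedHomAt φ hφ U hU) (hirr U hU) n (RelProj.emb pA chartA U hU)
      (RelProj.emb pB chartB U hU ≫ h) (map_emb φ hφ hirr hh U hU) ≫
    (Scheme.Modules.pushforwardComp (RelProj.emb pB chartB U hU) h).inv.app _

theorem psi_val (U : Y.Opens) (hU : IsAffineOpen U) (W : PA.Opens) (s : Γ(LA, W))
    (y : ProjectiveSpectrum (ℬ.deg U hU)) (hy : (RelProj.emb pB chartB U hU).base y ∈ h ⁻¹ᵁ W)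
    (hy' : (RelProj.emb pA chartA U hU).base
      (ProjectiveSpectrum.comap (RelProj.gradedHomAt φ hφ U hU) (hirr U hU) y) ∈ W) :
    GrTwist.val (V := RelProj.emb pB chartB U hU ⁻¹ᵁ (h ⁻¹ᵁ W)) ((psi φ hφ hirr hh n lamA U hU).app W s) ⟨y, hy⟩ =
      GrTwist.locMap (RelProj.gradedHomAt φ hφ U hU) (hirr U hU) y
        (GrTwist.val (V := RelProj.emb pA chartA U hU ⁻¹ᵁ W) ((lamA U hU).app W s) ⟨_, hy'⟩) := by
  have e := transfer_app (RelProj.gradedHomAt φ hφ U hU) (hirr U hU) n (RelProj.emb pA chartA U hU)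
    (RelProj.emb pB chartB U hU ≫ h) (map_emb φ hφ hirr hh U hU) W ((lamA U hU).app W s)
  refine (congrArg (fun z : Γ(GrTwist.twist (ℬ.deg U hU) n, (RelProj.emb pB chartB U hU ≫ h) ⁻¹ᵁ W) =>
    GrTwist.val z ⟨y, hy⟩) e).trans ?_
  rfl

variable (hA : RelProj.IsRelProj 𝒜 pA chartA) (hB : RelProj.IsRelProj ℬ pB chartB)
  (hLA : RelProj.IsRelTwist 𝒜 pA chartA n LA lamA) {LB : PB.Modules}
  {lamB : ∀ (U : Y.Opens) (hU : IsAffineOpen U),
      LB ⟶ (Scheme.Modules.pushforward (RelProj.emb pB chartB U hU)).obj (GrTwist.twist (ℬ.deg U hU) n)}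
  (hLB : RelProj.IsRelTwist ℬ pB chartB n LB lamB)

include hA hLA in
theorem psi_compat (W : PA.Opens) (s : Γ(LA, W)) :
    (twistSys ℬ n).Compat pB chartB (W := h ⁻¹ᵁ W) fun U hU => (psi φ hφ hirr hh n lamA U hU).app W s := by
  intro U hU r y hy hy'
  let V := Y.basicOpen r
  let hV := hU.basicOpen r
  have hmem : ∀ (U' : Y.Opens) (hU' : IsAffineOpen U') (y' : ProjectiveSpectrum (ℬ.deg U' hU')),
      (RelProj.emb pB chartB U' hU').base y' ∈ h ⁻¹ᵁ W →
      (RelProj.emb pA chartA U' hU').base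
        (ProjectiveSpectrum.comap (RelProj.gradedHomAt φ hφ U' hU') (hirr U' hU') y') ∈ W := fun U' hU' y' hm => by
    have e := congr($(map_emb φ hφ hirr hh U' hU').base y')
    exact e.symm ▸ hm
  have hV' := hmem V hV y hy
  have hU' := hmem U hU _ hy'
  have hz : (RelProj.emb pA chartA U hU).base (ProjectiveSpectrum.comap
      (𝒜.res hU hV (Y.basicOpen_le r)) (𝒜.irrelevant_le_map U hU r)
      (ProjectiveSpectrum.comap (RelProj.gradedHomAt φ hφ V hV) (hirr V hV) y)) ∈ W := by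
    rw [emb_comap_res hA]; exact hV'
  refine (psi_val φ hφ hirr hh n lamA V hV W s y hy hV').trans ?_
  refine Eq.trans ?_ (congrArg (GrTwist.locMap (ℬ.res hU hV (Y.basicOpen_le r)) (ℬ.irrelevant_le_map U hU r) y)
    (psi_val φ hφ hirr hh n lamA U hU W s _ hy' hU').symm)
  refine (congrArg (GrTwist.locMap (RelProj.gradedHomAt φ hφ V hV) (hirr V hV) y)
    (hLA.compat U hU r W s _ hV' hz)).trans ?_
  have hc₁ : (ℬ.deg V hV)₊ ≤ ((𝒜.deg U hU)₊).map
      ((RelProj.gradedHomAt φ hφ V hV).comp (𝒜.res hU hV (Y.basicOpen_le r))) := by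
    exact HomogeneousIdeal.irrelevant_le_map_comp (𝒜.irrelevant_le_map U hU r) (hirr V hV)
  have hc₂ : (ℬ.deg V hV)₊ ≤ ((𝒜.deg U hU)₊).map
      ((ℬ.res hU hV (Y.basicOpen_le r)).comp (RelProj.gradedHomAt φ hφ U hU)) := by
    rw [← square φ hφ U hU r]; exact hc₁
  refine (locMap_comp _ (𝒜.irrelevant_le_map U hU r) _ (hirr V hV) hc₁ y _).trans ?_
  refine Eq.trans ?_ (locMap_comp _ (hirr U hU) _ (ℬ.irrelevant_le_map U hU r) hc₂ y _).symm
  exact locMap_val_congr (square φ hφ U hU r) hc₁ hc₂ ((lamA U hU).app W s) y _ _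

include hh hA hB hLA hLB in
theorem existsUnique :
    ∃! θ : LA ⟶ (Scheme.Modules.pushforward h).obj LB,
      ∀ (U : Y.Opens) (hU : IsAffineOpen U) (W : PA.Opens) (s : Γ(LA, W))
        (y : ProjectiveSpectrum (ℬ.deg U hU))
        (hy : (RelProj.emb pB chartB U hU).base y ∈ h ⁻¹ᵁ W)
        (hy' : (RelProj.emb pA chartA U hU).base
          (ProjectiveSpectrum.comap (RelProj.gradedHomAt φ hφ U hU) (hirr U hU) y) ∈ W),
        GrTwist.val (V := RelProj.emb pB chartB U hU ⁻¹ᵁ (h ⁻¹ᵁ W)) ((lamB U hU).app (h ⁻¹ᵁ W) (θ.app W s)) ⟨y, hy⟩ =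
          GrTwist.locMap (RelProj.gradedHomAt φ hφ U hU) (hirr U hU) y
            (GrTwist.val (V := RelProj.emb pA chartA U hU ⁻¹ᵁ W) ((lamA U hU).app W s) ⟨_, hy'⟩) := by
  choose f hf hfu using fun (W : PA.Opens) (s : Γ(LA, W)) =>
    existsUnique_section (p := pB) (chart := chartB) hB (isRel_twist hLB) _ (psi_compat φ hφ hirr hh n lamA hA hLA W s)
  let app : ∀ W : PA.Opens, Γ(LA, W) →+ Γ(LB, h ⁻¹ᵁ W) := fun W =>
    AddMonoidHom.mk' (f W) fun a b => section_ext (isRel_twist hLB) fun U hU => by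
      rw [hf, map_add, map_add, hf, hf]
      rfl
  let θ : LA ⟶ (Scheme.Modules.pushforward h).obj LB := ⟨PresheafOfModules.homMk
    { app := fun W => AddCommGrpCat.ofHom (app W.unop)
      naturality := fun W W' i => by
        ext s
        change f W'.unop (LA.presheaf.map i s) =
          LB.presheaf.map (homOfLE (h.preimage_mono i.unop.le)).op (f W.unop s)
        refine section_ext (isRel_twist hLB) fun U hU => ?_
        rw [hf]
        refine (app_map_apply (psi φ hφ hirr hh n lamA U hU) i.unop.le s).trans ?_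
        refine Eq.trans ?_ (app_map_apply (lamB U hU) (h.preimage_mono i.unop.le) (f W.unop s)).symm
        exact (congrArg _ (hf W.unop s U hU)).symm }
    fun W (r : Γ(PA, W.unop)) (s : Γ(LA, W.unop)) => by
      change f W.unop (r • s) = h.app W.unop r • f W.unop s
      refine section_ext (isRel_twist hLB) fun U hU => ?_
      rw [hf, Scheme.Modules.Hom.app_smul, Scheme.Modules.Hom.app_smul, hf]
      rfl⟩
  refine ⟨θ, fun U hU W s y hy hy' => ?_, fun θ' hθ' => ?_⟩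
  · refine Eq.trans ?_ (psi_val φ hφ hirr hh n lamA U hU W s y hy hy')
    exact congrArg (fun z : Γ(GrTwist.twist (ℬ.deg U hU) n, RelProj.emb pB chartB U hU ⁻¹ᵁ (h ⁻¹ᵁ W)) =>
      GrTwist.val z ⟨y, hy⟩) (hf W s U hU)
  · refine Scheme.Modules.hom_ext _ _ fun W => ?_
    ext s
    refine section_ext (isRel_twist hLB) (s := θ'.app W s) (t := f W s) fun U hU => ?_
    rw [hf]
    refine (twistSys ℬ n).value_ext U hU _ _ fun y => ?_
    have hy' : (RelProj.emb pA chartA U hU).base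
        (ProjectiveSpectrum.comap (RelProj.gradedHomAt φ hφ U hU) (hirr U hU) y.1) ∈ W := by
      have e := congr($(map_emb φ hφ hirr hh U hU).base y.1)
      exact e.symm ▸ y.2
    exact (hθ' U hU W s y.1 y.2 hy').trans (psi_val φ hφ hirr hh n lamA U hU W s y.1 y.2 hy').symm

end RelComap

end Groth.Agent.H11Tilde
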