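import Groth.Agent.H11Tilde.OpenImmTranspose
import Groth.Agent.H10Coh.SchemeH

/-!
# Transposes along composites, and locality of invertibility
-/

set_option autoImplicit false
set_option linter.style.haveILetI false

noncomputable section

universe u

open CategoryTheory CategoryTheory.Limits AlgebraicGeometry Opposite TopologicalSpace

namespace Groth.Agent.H11Tilde.TransposeComp

variable {X Y Z : Scheme.{u}}

/-- The transpose of a composite is, up to isomorphism, the pulled back transpose followed by the transpose. -/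
theorem isIso_transpose_comp_iff (f : Z ⟶ Y) (g : Y ⟶ X) {L : X.Modules} {M : Y.Modules} {F : Z.Modules}
    (τ : L ⟶ (Scheme.Modules.pushforward g).obj M) (ρ : M ⟶ (Scheme.Modules.pushforward f).obj F)
    (hρ : IsIso (((Scheme.Modules.pullbackPushforwardAdjunction f).homEquiv _ _).symm ρ)) :
    IsIso (((Scheme.Modules.pullbackPushforwardAdjunction (f ≫ g)).homEquiv _ _).symm
        (τ ≫ (Scheme.Modules.pushforward g).map ρ ≫ (Scheme.Modules.pushforwardComp f g).hom.app F)) ↔
      IsIso ((Scheme.Modules.pullback f).map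
        (((Scheme.Modules.pullbackPushforwardAdjunction g).homEquiv _ _).symm τ)) := by
  let ag := Scheme.Modules.pullbackPushforwardAdjunction g
  let af := Scheme.Modules.pullbackPushforwardAdjunction f
  let a₁ := Scheme.Modules.pullbackPushforwardAdjunction (f ≫ g)
  let a₂ := (ag.comp af).ofNatIsoRight (Scheme.Modules.pushforwardComp f g)
  let κ := τ ≫ (Scheme.Modules.pushforward g).map ρ ≫ (Scheme.Modules.pushforwardComp f g).hom.app F
  have hformula : ∀ x : (Scheme.Modules.pullback f).obj ((Scheme.Modules.pullback g).obj L) ⟶ F,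
      a₂.homEquiv L F x = ag.homEquiv _ _ (af.homEquiv _ _ x) ≫ (Scheme.Modules.pushforwardComp f g).hom.app F := by
    intro x
    have hn := (Scheme.Modules.pushforwardComp f g).hom.naturality x
    simp only [a₂, Adjunction.homEquiv_unit, Adjunction.ofNatIsoRight, Adjunction.homEquiv_counit]
    simp [← hn]
  have h2 : (a₂.homEquiv L F).symm κ =
      (Scheme.Modules.pullback f).map ((ag.homEquiv _ _).symm τ) ≫ (af.homEquiv _ _).symm ρ := by
    rw [Equiv.symm_apply_eq]
    refine Eq.trans ?_ (hformula _).symm
    rw [Adjunction.homEquiv_naturality_left, Equiv.apply_symm_apply, Adjunction.homEquiv_naturality_right,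
      Equiv.apply_symm_apply, Category.assoc]
  have e : (a₁.homEquiv L F).symm κ = (Adjunction.leftAdjointUniq a₁ a₂).hom.app L ≫ (a₂.homEquiv L F).symm κ := by
    refine (a₁.homEquiv L F).injective ?_
    rw [Equiv.apply_symm_apply, Adjunction.homEquiv_naturality_right,
      Adjunction.homEquiv_leftAdjointUniq_hom_app, ← Adjunction.homEquiv_unit]
    exact ((a₂.homEquiv L F).apply_symm_apply κ).symm
  change IsIso ((a₁.homEquiv L F).symm κ) ↔ _
  haveI : IsIso ((af.homEquiv _ _).symm ρ) := hρ
  rw [e, h2, isIso_comp_left_iff, isIso_comp_right_iff]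

/-- A morphism of modules is invertible if it is so after pulling back along open immersions covering the scheme. -/
theorem isIso_of_pullback_cover {M N : X.Modules} (φ : M ⟶ N) (h : ∀ x : X, ∃ (Q : Scheme.{u}) (j : Q ⟶ X)
      (_ : IsOpenImmersion j), x ∈ j.opensRange ∧ IsIso ((Scheme.Modules.pullback j).map φ)) : IsIso φ := by
  haveI : IsIso ((H10Coh.shF X).map φ) := by
    refine TopCat.Sheaf.isIso_iff_isIso_basis
      (B := fun i : {W : X.Opens // Function.Bijective (φ.app W)} => i.1) ?_
      fun i => (ConcreteCategory.isIso_iff_bijective _).2 i.2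
    rw [Opens.isBasis_iff_nbhd]
    intro W x hx
    obtain ⟨Q, j, hj, hxj, hiso⟩ := h x
    haveI := hiso
    haveI : IsIso ((Scheme.Modules.restrictFunctor j).map φ) :=
      (NatIso.isIso_map_iff (Scheme.Modules.restrictFunctorIsoPullback j) φ).2 hiso
    refine ⟨W ⊓ j.opensRange, ⟨⟨_, ?_⟩, rfl⟩, ⟨hx, hxj⟩, inf_le_left⟩
    have hb : Function.Bijective (φ.app (j ''ᵁ (j ⁻¹ᵁ W))) :=
      (ConcreteCategory.isIso_iff_bijective _).1
        ((Scheme.Modules.Hom.isIso_iff_isIso_app).1 inferInstance (j ⁻¹ᵁ W) :
          IsIso (((Scheme.Modules.restrictFunctor j).map φ).app (j ⁻¹ᵁ W)))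
    rwa [Scheme.Hom.image_preimage_eq_opensRange_inf, inf_comm] at hb
  exact isIso_of_reflects_iso φ (H10Coh.shF X)

end Groth.Agent.H11Tilde.TransposeComp
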