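import Groth.Prelude.Def_GrMod2
import Groth.Prelude.Def_GrMod3
import Mathlib

/-!
# Fractions of graded modules at points of Proj; sections of `M(n)~` over standard opens
-/

set_option autoImplicit false

noncomputable section

universe u

open CategoryTheory AlgebraicGeometry TopologicalSpace Opposite

namespace Groth.Agent.H11Tilde

open GrMod

variable {A σA : Type u} [CommRing A] [SetLike σA A] [AddSubgroupClass σA A] (𝒜 : ℕ → σA) [GradedRing 𝒜]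
variable {M τ : Type u} [AddCommGroup M] [Module A M] [SetLike τ M] [AddSubgroupClass τ M] (ℳ : ℕ → τ)

theorem one_notMem (x : ProjectiveSpectrum 𝒜) : (1 : A) ∉ x.asHomogeneousIdeal :=
  fun h => x.isPrime.ne_top ((Ideal.eq_top_iff_one _).mpr h)

theorem mul_notMem {x : ProjectiveSpectrum 𝒜} {a b : A} (ha : a ∉ x.asHomogeneousIdeal)
    (hb : b ∉ x.asHomogeneousIdeal) : a * b ∉ x.asHomogeneousIdeal :=
  fun h => (x.isPrime.mem_or_mem h).elim ha hb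

theorem pow_notMem {x : ProjectiveSpectrum 𝒜} {a : A} (ha : a ∉ x.asHomogeneousIdeal) (k : ℕ) :
    a ^ k ∉ x.asHomogeneousIdeal := fun h => ha (x.isPrime.mem_of_pow_mem k h)

/-- The fraction `m / s` in `M_x`. -/
def fracAt (x : ProjectiveSpectrum 𝒜) (m : M) (s : A) (hs : s ∉ x.asHomogeneousIdeal) :
    LocMod 𝒜 (M := M) x :=
  LocalizedModule.mk m ⟨s, hs⟩

theorem fracAt_congr (x : ProjectiveSpectrum 𝒜) {m m' : M} {s s' : A} (hs : s ∉ x.asHomogeneousIdeal)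
    (hs' : s' ∉ x.asHomogeneousIdeal) (hm : m = m') (hss : s = s') :
    fracAt 𝒜 x m s hs = fracAt 𝒜 x m' s' hs' := by
  subst hm; subst hss; rfl

theorem fracAt_zero (x : ProjectiveSpectrum 𝒜) (s : A) (hs : s ∉ x.asHomogeneousIdeal) :
    fracAt 𝒜 x (0 : M) s hs = 0 := LocalizedModule.zero_mk _

theorem fracAt_eq_zero_iff (x : ProjectiveSpectrum 𝒜) (m : M) (s : A) (hs : s ∉ x.asHomogeneousIdeal) :
    fracAt 𝒜 x m s hs = 0 ↔ ∃ t : A, t ∉ x.asHomogeneousIdeal ∧ t • m = 0 := by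
  rw [fracAt, ← LocalizedModule.zero_mk (⟨s, hs⟩ : x.asHomogeneousIdeal.toIdeal.primeCompl), LocalizedModule.mk_eq]
  constructor
  · rintro ⟨⟨t, ht⟩, h⟩
    refine ⟨t * s, mul_notMem 𝒜 ht hs, ?_⟩
    simpa [Submonoid.smul_def, ← mul_smul] using h
  · rintro ⟨t, ht, h⟩
    refine ⟨⟨t, ht⟩, ?_⟩
    simp [Submonoid.smul_def, ← mul_smul, mul_comm t s]
    rw [mul_smul, h, smul_zero]

theorem fracAt_eq_of (x : ProjectiveSpectrum 𝒜) {m m' : M} {s s' : A} (hs : s ∉ x.asHomogeneousIdeal)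
    (hs' : s' ∉ x.asHomogeneousIdeal) (h : s' • m = s • m') :
    fracAt 𝒜 x m s hs = fracAt 𝒜 x m' s' hs' :=
  LocalizedModule.mk_eq.2 ⟨1, by simpa [Submonoid.smul_def] using h⟩

theorem fracAt_mul (x : ProjectiveSpectrum 𝒜) (m : M) (s t : A) (hs : s ∉ x.asHomogeneousIdeal)
    (hts : t * s ∉ x.asHomogeneousIdeal) :
    fracAt 𝒜 x (t • m) (t * s) hts = fracAt 𝒜 x m s hs :=
  fracAt_eq_of 𝒜 x _ _ (by rw [← mul_smul, mul_comm s t])

theorem exists_of_fracAt_eq (x : ProjectiveSpectrum 𝒜) {m m' : M} {s s' : A} (hs : s ∉ x.asHomogeneousIdeal)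
    (hs' : s' ∉ x.asHomogeneousIdeal) (h : fracAt 𝒜 x m s hs = fracAt 𝒜 x m' s' hs') :
    ∃ t : A, t ∉ x.asHomogeneousIdeal ∧ t • (s' • m - s • m') = 0 := by
  obtain ⟨⟨t, ht⟩, h⟩ := LocalizedModule.mk_eq.1 h
  exact ⟨t, ht, by simpa [Submonoid.smul_def, smul_sub, sub_eq_zero] using h⟩

section decomp

variable [DirectSum.Decomposition ℳ] [SetLike.GradedSMul 𝒜 ℳ]

theorem smul_component_eq_zero {a : A} {i : ℕ} {m : M} (hm : m ∈ ℳ i) (h : a • m = 0) (j : ℕ) :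
    (DirectSum.decompose 𝒜 a j : A) • m = 0 := by
  classical
  have key : ∀ b : A, (DirectSum.decompose ℳ (b • m) (j + i) : M) = (DirectSum.decompose 𝒜 b j : A) • m := by
    intro b
    conv_lhs => rw [← DirectSum.sum_support_decompose 𝒜 b, Finset.sum_smul]
    rw [DirectSum.decompose_sum, DFinsupp.finsetSum_apply, AddSubmonoidClass.coe_finsetSum,
      Finset.sum_eq_single j]
    · exact DirectSum.decompose_of_mem_same ℳ (SetLike.GradedSMul.smul_mem (DirectSum.decompose 𝒜 b j).2 hm)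
    · intro k _ hk
      exact DirectSum.decompose_of_mem_ne ℳ (SetLike.GradedSMul.smul_mem (DirectSum.decompose 𝒜 b k).2 hm)
        (fun e : k + i = j + i => hk (by omega))
    · intro hj
      rw [DFinsupp.notMem_support_iff.1 hj]
      simp
  rw [← key, h]
  simp

/-- If `m / s` vanishes at every point of `D₊(g)`, then a power of `g` kills `m`. -/
theorem exists_pow_smul_eq_zero {e : ℕ} (he : 0 < e) {g : A} (hg : g ∈ 𝒜 e) {i : ℕ} {m : M} (hm : m ∈ ℳ i)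
    (h : ∀ x : ProjectiveSpectrum 𝒜, g ∉ x.asHomogeneousIdeal → ∃ t, t ∉ x.asHomogeneousIdeal ∧ t • m = 0) :
    ∃ N : ℕ, g ^ N • m = 0 := by
  classical
  let J : Ideal A := LinearMap.ker (LinearMap.toSpanSingleton A M m)
  have hJ : J.IsHomogeneous 𝒜 := fun j a ha => by
    simp only [J, LinearMap.mem_ker, LinearMap.toSpanSingleton_apply] at ha ⊢
    exact smul_component_eq_zero 𝒜 ℳ hm ha j
  have hgJ : g ∈ J.radical := by
    rw [hJ.radical_eq, Submodule.mem_sInf]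
    rintro P ⟨hP, hJP, hPp⟩
    by_contra hgP
    let x : ProjectiveSpectrum 𝒜 := ⟨⟨P, hP⟩, hPp, fun hle => hgP (hle (by
      change g ∈ (HomogeneousIdeal.irrelevant 𝒜).toIdeal
      exact HomogeneousIdeal.mem_irrelevant_of_mem 𝒜 he hg))⟩
    obtain ⟨t, ht, htm⟩ := h x hgP
    exact ht (hJP (by simpa [J] using htm))
  obtain ⟨N, hN⟩ := hgJ
  exact ⟨N, by simpa [J] using hN⟩

end decomp

theorem exists_pow_eq_mul {e j : ℕ} (he : 0 < e) {g s : A} (hg : g ∈ 𝒜 e) (hs : s ∈ 𝒜 j)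
    (h : ∀ x : ProjectiveSpectrum 𝒜, g ∉ x.asHomogeneousIdeal → s ∉ x.asHomogeneousIdeal) :
    ∃ (N c : ℕ) (a : A), a ∈ 𝒜 c ∧ c + j = N * e ∧ g ^ N = a * s := by
  classical
  let J : Ideal A := Ideal.span {s}
  have hJ : J.IsHomogeneous 𝒜 := Ideal.homogeneous_span 𝒜 _ (by rintro _ rfl; exact ⟨j, hs⟩)
  have hgJ : g ∈ J.radical := by
    rw [hJ.radical_eq, Submodule.mem_sInf]
    rintro P ⟨hP, hJP, hPp⟩
    by_contra hgP
    let x : ProjectiveSpectrum 𝒜 := ⟨⟨P, hP⟩, hPp, fun hle => hgP (hle (by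
      change g ∈ (HomogeneousIdeal.irrelevant 𝒜).toIdeal
      exact HomogeneousIdeal.mem_irrelevant_of_mem 𝒜 he hg))⟩
    exact h x hgP (hJP (Ideal.mem_span_singleton_self s))
  obtain ⟨N, hN⟩ := hgJ
  obtain ⟨a, ha⟩ := Ideal.mem_span_singleton'.1 (show g ^ (N + j) ∈ J by
    rw [pow_add]; exact J.mul_mem_right _ hN)
  have hle : j ≤ (N + j) * e := le_trans (Nat.le_add_left j N) (Nat.le_mul_of_pos_right _ he)
  refine ⟨N + j, (N + j) * e - j, _, (DirectSum.decompose 𝒜 a ((N + j) * e - j)).2, by omega, ?_⟩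
  have h1 : g ^ (N + j) ∈ 𝒜 ((N + j) * e) := SetLike.pow_mem_graded (N + j) hg
  rw [← DirectSum.decompose_of_mem_same 𝒜 h1, ← ha,
    DirectSum.coe_decompose_mul_of_right_mem_of_le 𝒜 hs hle]

theorem exists_basicOpen_nhd {d : ℕ} (hd : 0 < d) {f : A} (hf : f ∈ 𝒜 d) {x : ProjectiveSpectrum 𝒜}
    (hfx : f ∉ x.asHomogeneousIdeal) {V : Opens (ProjectiveSpectrum.top 𝒜)} (hxV : x ∈ V) :
    ∃ (e : ℕ) (g : A), 0 < e ∧ g ∈ 𝒜 e ∧ g ∉ x.asHomogeneousIdeal ∧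
      ∀ y : ProjectiveSpectrum 𝒜, g ∉ y.asHomogeneousIdeal → y ∈ V ∧ f ∉ y.asHomogeneousIdeal := by
  classical
  obtain ⟨_, ⟨r, rfl⟩, hxr, hrV⟩ :=
    (ProjectiveSpectrum.isTopologicalBasis_basic_opens 𝒜).exists_subset_of_mem_open hxV V.2
  have hx' : x ∈ ProjectiveSpectrum.basicOpen 𝒜 r := hxr
  rw [ProjectiveSpectrum.basicOpen_eq_union_of_projection] at hx'
  obtain ⟨i, hi⟩ := Opens.mem_iSup.1 hx'
  refine ⟨i + d, GradedRing.proj 𝒜 i r * f, by omega,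
    SetLike.mul_mem_graded (by rw [GradedRing.proj_apply]; exact (DirectSum.decompose 𝒜 r i).2) hf,
    mul_notMem 𝒜 hi hfx, fun y hy => ⟨hrV ?_, fun h => hy (y.asHomogeneousIdeal.toIdeal.mul_mem_left _ h)⟩⟩
  change y ∈ ProjectiveSpectrum.basicOpen 𝒜 r
  rw [ProjectiveSpectrum.basicOpen_eq_union_of_projection]
  exact Opens.mem_iSup.2 ⟨i, fun h => hy (y.asHomogeneousIdeal.toIdeal.mul_mem_right _ h)⟩

variable [SetLike.GradedSMul 𝒜 ℳ]

/-- The section of `M(n)~` given on `V` by one fraction. -/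
def secOf {n : ℤ} {i j : ℕ} {m : M} {s : A} (hm : m ∈ ℳ i) (hs : s ∈ 𝒜 j)
    {V : Opens (ProjectiveSpectrum.top 𝒜)} (hV : ∀ x ∈ V, s ∉ x.asHomogeneousIdeal) (hdeg : (i : ℤ) = j + n) :
    sect 𝒜 ℳ n (op V) :=
  ⟨fun x => ⟨fracAt 𝒜 x.1 m s (hV x.1 x.2),
    Submodule.subset_span ⟨i, j, ⟨m, hm⟩, ⟨s, hs⟩, hV x.1 x.2, hdeg, rfl⟩⟩,
   fun x => ⟨V, x.2, 𝟙 _, i, j, ⟨m, hm⟩, ⟨s, hs⟩, fun y => hV y.1 y.2, Or.inl hdeg, fun _ => rfl⟩⟩

theorem secOf_apply {n : ℤ} {i j : ℕ} {m : M} {s : A} (hm : m ∈ ℳ i) (hs : s ∈ 𝒜 j)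
    {V : Opens (ProjectiveSpectrum.top 𝒜)} (hV : ∀ x ∈ V, s ∉ x.asHomogeneousIdeal) (hdeg : (i : ℤ) = j + n) (x : V) :
    (((secOf 𝒜 ℳ hm hs hV hdeg).1 x : tildeAt 𝒜 ℳ n x.1) : LocMod 𝒜 (M := M) x.1) =
      fracAt 𝒜 x.1 m s (hV x.1 x.2) := rfl

theorem sect_ext {n : ℤ} {U : (Opens (ProjectiveSpectrum.top 𝒜))ᵒᵖ} {s t : sect 𝒜 ℳ n U}
    (h : ∀ x : U.unop, ((s.1 x : tildeAt 𝒜 ℳ n x.1) : LocMod 𝒜 (M := M) x.1) = (t.1 x : tildeAt 𝒜 ℳ n x.1)) :
    s = t :=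
  Subtype.ext (funext fun x => Subtype.ext (h x))

variable [DirectSum.Decomposition ℳ]

/-- Every section of `M(n)~` over `D₊(f)` is one fraction `m / f ^ k`. -/
theorem exists_eq_fracAt {n : ℤ} {d : ℕ} (hd : 0 < d) {f : A} (hf : f ∈ 𝒜 d)
    (σ : sect 𝒜 ℳ n (op (ProjectiveSpectrum.basicOpen 𝒜 f))) :
    ∃ (k i : ℕ) (m : M), m ∈ ℳ i ∧ (i : ℤ) = k * d + n ∧
      ∀ (x : ProjectiveSpectrum.basicOpen 𝒜 f) (hx : f ^ k ∉ x.1.asHomogeneousIdeal),
        ((σ.1 x : tildeAt 𝒜 ℳ n x.1) : LocMod 𝒜 (M := M) x.1) = fracAt 𝒜 x.1 m (f ^ k) hx := by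
  classical
  have loc : ∀ x : ProjectiveSpectrum.basicOpen 𝒜 f, ∃ (e : ℕ) (h : A) (i : ℕ) (b : M),
      0 < e ∧ h ∈ 𝒜 e ∧ h ∉ x.1.asHomogeneousIdeal ∧ b ∈ ℳ i ∧ (i : ℤ) = e + n ∧
      ∀ y : ProjectiveSpectrum 𝒜, ∀ hy : h ∉ y.asHomogeneousIdeal,
        ∃ hfy : y ∈ ProjectiveSpectrum.basicOpen 𝒜 f,
          ((σ.1 ⟨y, hfy⟩ : tildeAt 𝒜 ℳ n y) : LocMod 𝒜 (M := M) y) = fracAt 𝒜 y b h hy := by
    intro x
    obtain ⟨V, hxV, iV, i, j, ⟨a, ha⟩, ⟨s, hs⟩, snin, hdeg, hw⟩ := σ.2 x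
    obtain ⟨e, g, he, hg, hgx, hgV⟩ := exists_basicOpen_nhd 𝒜 hd hf
      ((ProjectiveSpectrum.mem_basicOpen 𝒜 f x.1).1 x.2) hxV
    obtain ⟨N, c, t, ht, hc, hgN⟩ := exists_pow_eq_mul 𝒜 he hg hs (fun y hy => snin ⟨y, (hgV y hy).1⟩)
    -- enlarge the exponent so that the degree `k * e + n` is a natural number
    let K := n.natAbs + 1
    have hK : ∀ l : ℕ, K ≤ l → ∃ p : ℕ, (p : ℤ) = (l : ℤ) * e + n := fun l hl => by
      refine ⟨((l : ℤ) * e + n).toNat, Int.toNat_of_nonneg ?_⟩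
      have h1 : (l : ℤ) ≤ (l : ℤ) * e := le_mul_of_one_le_right (by positivity) (by omega)
      omega
    obtain ⟨p, hp⟩ := hK (N + K) (by omega)
    refine ⟨(N + K) * e, g ^ (N + K), p, (g ^ K * t) • a, by positivity,
      SetLike.pow_mem_graded (N + K) hg, pow_notMem 𝒜 hgx _, ?_, by push_cast at hp ⊢; omega, ?_⟩
    · rcases hdeg with hdeg | hdeg
      · have h1 : (g ^ K * t) • a ∈ ℳ (K * e + c + i) :=
          SetLike.GradedSMul.smul_mem (SetLike.mul_mem_graded (SetLike.pow_mem_graded K hg) ht) ha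
        have h2 : p = K * e + c + i := by
          have hc' : (c : ℤ) + j = N * e := by exact_mod_cast hc
          zify
          rw [hp]
          push_cast
          linarith
        rw [h2]; exact h1
      · rw [show a = 0 from hdeg, smul_zero]; exact zero_mem _
    · intro y hy
      have hgy : g ∉ y.asHomogeneousIdeal := fun h => hy (y.asHomogeneousIdeal.toIdeal.pow_mem_of_mem h _ (by omega))
      refine ⟨(ProjectiveSpectrum.mem_basicOpen 𝒜 f y).2 (hgV y hgy).2, ?_⟩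
      have h1 := hw ⟨y, (hgV y hgy).1⟩
      refine h1.trans ?_
      change fracAt 𝒜 y a s _ = _
      apply fracAt_eq_of
      rw [← mul_smul, show g ^ (N + K) = g ^ K * t * s by rw [pow_add, hgN]; ring,
        mul_comm s (g ^ K * t)]
  choose e h ideg b he hh hhx hb hideg hσ using loc
  -- the radical of the span of the `h x` contains `f`
  have hspan : f ∈ (Ideal.span (Set.range h)).radical := by
    rw [(Ideal.homogeneous_span 𝒜 _ (by rintro _ ⟨x, rfl⟩; exact ⟨e x, hh x⟩)).radical_eq, Submodule.mem_sInf]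
    rintro P ⟨hP, hJP, hPp⟩
    by_contra hfP
    let y : ProjectiveSpectrum 𝒜 := ⟨⟨P, hP⟩, hPp, fun hle => hfP (hle (by
      change f ∈ (HomogeneousIdeal.irrelevant 𝒜).toIdeal
      exact HomogeneousIdeal.mem_irrelevant_of_mem 𝒜 hd hf))⟩
    exact hhx ⟨y, (ProjectiveSpectrum.mem_basicOpen 𝒜 f y).2 hfP⟩ (hJP (Ideal.subset_span ⟨_, rfl⟩))
  obtain ⟨L, hL⟩ := hspan
  obtain ⟨T, hT⟩ : ∃ T : Finset (ProjectiveSpectrum.basicOpen 𝒜 f), f ^ L ∈ Ideal.span (h '' ↑T) := by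
    obtain ⟨T, hTsub, hT⟩ := Submodule.mem_span_finite_of_mem_span hL
    choose g hg using fun a : (T : Set A) => hTsub a.2
    refine ⟨Finset.univ.image g, Ideal.span_mono (fun a ha => ?_) hT⟩
    exact ⟨g ⟨a, ha⟩, Finset.mem_coe.2 (Finset.mem_image.2 ⟨⟨a, ha⟩, Finset.mem_univ _, rfl⟩), hg ⟨a, ha⟩⟩
  -- agreement on overlaps
  have agree : ∀ x x' : ProjectiveSpectrum.basicOpen 𝒜 f, ∃ N : ℕ,
      (h x * h x') ^ N • (h x' • b x - h x • b x') = 0 := by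
    intro x x'
    have hm : h x' • b x - h x • b x' ∈ ℳ (e x' + ideg x) := by
      refine sub_mem (SetLike.GradedSMul.smul_mem (hh x') (hb x)) ?_
      have : e x' + ideg x = e x + ideg x' := by
        have := hideg x; have := hideg x'; omega
      rw [this]
      exact SetLike.GradedSMul.smul_mem (hh x) (hb x')
    refine exists_pow_smul_eq_zero 𝒜 ℳ (by have := he x; omega : 0 < e x + e x')
      (SetLike.mul_mem_graded (hh x) (hh x')) hm fun y hy => ?_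
    have h1 : h x ∉ y.asHomogeneousIdeal := fun hc => hy (y.asHomogeneousIdeal.toIdeal.mul_mem_right _ hc)
    have h2 : h x' ∉ y.asHomogeneousIdeal := fun hc => hy (y.asHomogeneousIdeal.toIdeal.mul_mem_left _ hc)
    obtain ⟨_, e1⟩ := hσ x y h1
    obtain ⟨_, e2⟩ := hσ x' y h2
    exact exists_of_fracAt_eq 𝒜 y h1 h2 (e1.symm.trans e2)
  choose Nf hNf using agree
  obtain ⟨N, hN⟩ : ∃ N, ∀ x ∈ T, ∀ x' ∈ T, Nf x x' ≤ N :=
    ⟨(T ×ˢ T).sup (fun p => Nf p.1 p.2), fun x hx x' hx' =>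
      Finset.le_sup (f := fun p : _ × _ => Nf p.1 p.2) (Finset.mk_mem_product hx hx')⟩
  let h' := fun x => h x ^ (N + 1)
  let b' := fun x => h x ^ N • b x
  have comm : ∀ x ∈ T, ∀ x' ∈ T, h' x' • b' x = h' x • b' x' := by
    intro x hx x' hx'
    have h0 : (h x * h x') ^ N • (h x' • b x - h x • b x') = 0 := by
      obtain ⟨r, hr⟩ := Nat.exists_eq_add_of_le (hN x hx x' hx')
      rw [hr, pow_add, mul_comm, mul_smul, hNf, smul_zero]
    rw [smul_sub, sub_eq_zero] at h0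
    simp only [h', b', ← mul_smul] at h0 ⊢
    convert h0 using 2 <;> ring
  have hL' : f ∈ (Ideal.span (h' '' ↑T)).radical := by
    have hle : Ideal.span (h '' ↑T) ≤ (Ideal.span (h' '' ↑T)).radical := by
      rw [Ideal.span_le]
      rintro _ ⟨x, hx, rfl⟩
      exact ⟨N + 1, Ideal.subset_span ⟨x, hx, rfl⟩⟩
    have := hle hT
    rw [← Ideal.radical_idem (Ideal.span (h' '' ↑T))]
    exact ⟨L, this⟩
  obtain ⟨L', hL'⟩ := hL'
  let L₁ := L' + n.natAbs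
  obtain ⟨i₁, hi₁⟩ : ∃ i₁ : ℕ, (i₁ : ℤ) = (L₁ : ℤ) * d + n := by
    refine ⟨((L₁ : ℤ) * d + n).toNat, Int.toNat_of_nonneg ?_⟩
    have h1 : (L₁ : ℤ) ≤ (L₁ : ℤ) * d := le_mul_of_one_le_right (by positivity) (by omega)
    simp only [L₁] at h1 ⊢
    omega
  have hL₁ : f ^ L₁ ∈ Ideal.span (h' '' ↑T) := by
    simp only [L₁, pow_add]; exact Ideal.mul_mem_right _ _ hL'
  obtain ⟨c, hc⟩ := Submodule.mem_span_image_finset_iff_exists_fun' A |>.1 hL₁
  let c' := fun x => if e x * (N + 1) ≤ L₁ * d then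
      (DirectSum.decompose 𝒜 (c x) (L₁ * d - e x * (N + 1)) : A) else 0
  have hh' : ∀ x, h' x ∈ 𝒜 (e x * (N + 1)) := fun x => by
    rw [mul_comm]; exact SetLike.pow_mem_graded (N + 1) (hh x)
  have hc' : f ^ L₁ = ∑ x ∈ T, c' x * h' x := by
    have h1 : f ^ L₁ ∈ 𝒜 (L₁ * d) := SetLike.pow_mem_graded L₁ hf
    rw [← DirectSum.decompose_of_mem_same 𝒜 h1, ← hc, DirectSum.decompose_sum, DFinsupp.finsetSum_apply,
      AddSubmonoidClass.coe_finsetSum]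
    refine Finset.sum_congr rfl fun x _ => ?_
    rw [smul_eq_mul, DirectSum.coe_decompose_mul_of_right_mem 𝒜 _ (hh' x)]
    simp only [c']
    split_ifs <;> simp
  refine ⟨L₁, i₁, ∑ x ∈ T, c' x • b' x, sum_mem fun x _ => ?_, hi₁, ?_⟩
  · simp only [c']
    split_ifs with hle
    · have h1 := SetLike.GradedSMul.smul_mem (A := 𝒜) (B := ℳ)
        (DirectSum.decompose 𝒜 (c x) (L₁ * d - e x * (N + 1))).2
        (SetLike.GradedSMul.smul_mem (SetLike.pow_mem_graded N (hh x)) (hb x))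
      have h2 : i₁ = L₁ * d - e x * (N + 1) + (N * e x + ideg x) := by
        have := hideg x
        zify [hle]
        rw [hi₁, this]
        push_cast
        ring
      rw [h2]; exact h1
    · rw [zero_smul]; exact zero_mem _
  · intro x hx
    have key : ∀ x₀ ∈ T, h' x₀ • (∑ x ∈ T, c' x • b' x) = f ^ L₁ • b' x₀ := by
      intro x₀ hx₀
      rw [hc', Finset.smul_sum, Finset.sum_smul]
      refine Finset.sum_congr rfl fun x hx => ?_
      rw [smul_comm, comm x hx x₀ hx₀, ← mul_smul]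
    obtain ⟨x₀, hx₀T, hx₀⟩ : ∃ x₀ ∈ T, h x₀ ∉ x.1.asHomogeneousIdeal := by
      by_contra hne
      push Not at hne
      refine hx (show f ^ L₁ ∈ x.1.asHomogeneousIdeal.toIdeal from ?_)
      refine Ideal.span_le.2 ?_ hL₁
      rintro _ ⟨x₀, hx₀, rfl⟩
      exact x.1.asHomogeneousIdeal.toIdeal.pow_mem_of_mem (hne x₀ hx₀) _ (by omega)
    obtain ⟨_, e1⟩ := hσ x₀ x.1 hx₀
    refine e1.trans (Eq.trans ?_ (fracAt_eq_of 𝒜 x.1 (pow_notMem 𝒜 hx₀ (N + 1)) hx (key x₀ hx₀T).symm))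
    apply fracAt_eq_of
    simp only [b', ← mul_smul]
    congr 1
    ring

omit [DirectSum.Decomposition ℳ] in
/-- Every value of a section is a fraction or zero. -/
theorem exists_eq_fracAt_of_mem {n : ℤ} (x : ProjectiveSpectrum 𝒜) (q : tildeAt 𝒜 ℳ n x) :
    (q : LocMod 𝒜 (M := M) x) = 0 ∨ ∃ (i j : ℕ) (m : M) (s : A) (hs : s ∉ x.asHomogeneousIdeal),
      m ∈ ℳ i ∧ s ∈ 𝒜 j ∧ (i : ℤ) = j + n ∧ (q : LocMod 𝒜 (M := M) x) = fracAt 𝒜 x m s hs := by
  obtain ⟨q, hq⟩ := q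
  change q = 0 ∨ ∃ (i j : ℕ) (m : M) (s : A) (hs : s ∉ x.asHomogeneousIdeal),
      m ∈ ℳ i ∧ s ∈ 𝒜 j ∧ (i : ℤ) = j + n ∧ q = fracAt 𝒜 x m s hs
  induction hq using Submodule.span_induction with
  | mem q hq =>
    obtain ⟨i, j, m, s, hs, hd, rfl⟩ := hq
    exact Or.inr ⟨i, j, m, s, hs, m.2, s.2, hd, rfl⟩
  | zero => exact Or.inl rfl
  | add a b _ _ iha ihb =>
    rcases iha with ha | ⟨i, j, m, s, hs, hm, hsj, hd, ha⟩
    · change a = 0 at ha
      rw [ha, zero_add]; exact ihb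
    rcases ihb with hb | ⟨i', j', m', s', hs', hm', hsj', hd', hb⟩
    · change b = 0 at hb
      rw [hb, add_zero]; exact Or.inr ⟨i, j, m, s, hs, hm, hsj, hd, ha⟩
    refine Or.inr ⟨j' + i, j + j', s' • m + s • m', s * s', mul_notMem 𝒜 hs hs', ?_,
      SetLike.mul_mem_graded hsj hsj', by push_cast; omega, ?_⟩
    · refine add_mem (SetLike.GradedSMul.smul_mem hsj' hm) ?_
      have : j' + i = j + i' := by omega
      rw [this]; exact SetLike.GradedSMul.smul_mem hsj hm'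
    · change a = fracAt 𝒜 x m s hs at ha
      change b = fracAt 𝒜 x m' s' hs' at hb
      change a + b = _
      rw [ha, hb]
      exact LocalizedModule.mk_add_mk
  | smul c a _ iha =>
    rcases iha with ha | ⟨i, j, m, s, hs, hm, hsj, hd, ha⟩
    · change a = 0 at ha
      rw [ha, smul_zero]; exact Or.inl rfl
    obtain ⟨c, rfl⟩ := HomogeneousLocalization.mk_surjective c
    refine Or.inr ⟨c.deg + i, c.deg + j, c.num.1 • m, c.den.1 * s, mul_notMem 𝒜 c.den_mem hs,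
      SetLike.GradedSMul.smul_mem c.num.2 hm, SetLike.mul_mem_graded c.den.2 hsj, by push_cast; omega, ?_⟩
    change a = fracAt 𝒜 x m s hs at ha
    change HomogeneousLocalization.mk c • a = _
    rw [ha, a0_smul_def, HomogeneousLocalization.val_mk]
    exact LocalizedModule.mk_smul_mk _ _ _ _

end Groth.Agent.H11Tilde
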