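import Groth.Agent.H11Tilde.Local

/-!
# Transposes of morphisms to a direct image along an open immersion
-/

set_option autoImplicit false
set_option linter.style.haveILetI false

noncomputable section

universe u

open CategoryTheory CategoryTheory.Limits AlgebraicGeometry Opposite TopologicalSpace

namespace Groth.Agent.H11Tilde

variable {P Q : Scheme.{u}}

/-- A morphism to a direct image along an open immersion, bijective below the image, has invertible transpose. -/
theorem isIso_transpose_of_bijective (j : Q ⟶ P) [IsOpenImmersion j] {L : P.Modules} {F : Q.Modules}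
    (φ : L ⟶ (Scheme.Modules.pushforward j).obj F)
    (h : ∀ W : P.Opens, W ≤ j.opensRange → Function.Bijective (φ.app W)) :
    IsIso (((Scheme.Modules.pullbackPushforwardAdjunction j).homEquiv _ _).symm φ) := by
  let a₁ := Scheme.Modules.pullbackPushforwardAdjunction j
  let a₂ := Scheme.Modules.restrictAdjunction j
  let t := (a₂.homEquiv L F).symm φ
  haveI : IsIso ((Scheme.Modules.restrictFunctor j).map φ) := by
    rw [Scheme.Modules.Hom.isIso_iff_isIso_app]
    intro U
    rw [ConcreteCategory.isIso_iff_bijective]
    exact h (j ''ᵁ U) (Scheme.Hom.image_le_opensRange j U)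
  haveI : IsIso t := by
    show IsIso ((a₂.homEquiv L F).symm φ)
    rw [Adjunction.homEquiv_counit]
    infer_instance
  have e : (a₁.homEquiv L F).symm φ = (Adjunction.leftAdjointUniq a₁ a₂).hom.app L ≫ t := by
    refine (a₁.homEquiv L F).injective ?_
    rw [Equiv.apply_symm_apply, Adjunction.homEquiv_naturality_right,
      Adjunction.homEquiv_leftAdjointUniq_hom_app, ← Adjunction.homEquiv_unit]
    exact ((a₂.homEquiv L F).apply_symm_apply φ).symm
  show IsIso ((a₁.homEquiv L F).symm φ)
  rw [e]
  infer_instance

end Groth.Agent.H11Tilde
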