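import Groth.Agent.H11Tilde.Rel
import Groth.Agent.H11Tilde.ModLoc
import Groth.Agent.H11Tilde.Tensor

/-!
# Gluing sections and morphisms of modules given chartwise on a relative Proj
-/

set_option autoImplicit false

noncomputable section

universe u

open CategoryTheory CategoryTheory.Limits AlgebraicGeometry Opposite TopologicalSpace

namespace Groth.Agent.H11Tilde

variable {S P : Scheme.{u}}

/-- Modules on the charts with values at points and maps of values along restrictions to basic opens. -/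
structure ChartSys (𝒮 : RelProj.QCGrAlg S) where
  T : ∀ (U : S.Opens) (hU : IsAffineOpen U), (Proj (𝒮.deg U hU)).Modules
  Value : ∀ (U : S.Opens) (hU : IsAffineOpen U), ProjectiveSpectrum (𝒮.deg U hU) → Type u
  value : ∀ (U : S.Opens) (hU : IsAffineOpen U) {O : (Proj (𝒮.deg U hU)).Opens},
    Γ(T U hU, O) → ∀ y : ↥O, Value U hU y.1
  value_ext : ∀ (U : S.Opens) (hU : IsAffineOpen U) {O : (Proj (𝒮.deg U hU)).Opens} (s t : Γ(T U hU, O)),
    (∀ y, value U hU s y = value U hU t y) → s = t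
  value_res : ∀ (U : S.Opens) (hU : IsAffineOpen U) {O O' : (Proj (𝒮.deg U hU)).Opens} (h : O' ≤ O)
    (s : Γ(T U hU, O)) (y : ↥O'),
    value U hU ((T U hU).presheaf.map (homOfLE h).op s) y = value U hU s ⟨y.1, h y.2⟩
  move : ∀ (U : S.Opens) (hU : IsAffineOpen U) (r : Γ(S, U))
    (y : ProjectiveSpectrum (𝒮.deg (S.basicOpen r) (hU.basicOpen r))),
    Value U hU (ProjectiveSpectrum.comap (𝒮.res hU (hU.basicOpen r) (S.basicOpen_le r))
      (𝒮.irrelevant_le_map U hU r) y) → Value (S.basicOpen r) (hU.basicOpen r) y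

variable {𝒮 : RelProj.QCGrAlg S} {p : P ⟶ S}
  {chart : ∀ (U : S.Opens) (hU : IsAffineOpen U), (((p ⁻¹ᵁ U : P.Opens) : Scheme.{u}) ≅ Proj (𝒮.deg U hU))}

variable (p chart) in
/-- A family of chart sections over an open `W` is compatible. -/
def ChartSys.Compat (D : ChartSys 𝒮) {W : P.Opens}
    (σ : ∀ (U : S.Opens) (hU : IsAffineOpen U), Γ(D.T U hU, RelProj.emb p chart U hU ⁻¹ᵁ W)) : Prop :=
  ∀ (U : S.Opens) (hU : IsAffineOpen U) (r : Γ(S, U))
    (y : ProjectiveSpectrum (𝒮.deg (S.basicOpen r) (hU.basicOpen r)))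
    (hy : (RelProj.emb p chart (S.basicOpen r) (hU.basicOpen r)).base y ∈ W)
    (hy' : (RelProj.emb p chart U hU).base (ProjectiveSpectrum.comap
      (𝒮.res hU (hU.basicOpen r) (S.basicOpen_le r)) (𝒮.irrelevant_le_map U hU r) y) ∈ W),
    D.value (S.basicOpen r) (hU.basicOpen r) (σ (S.basicOpen r) (hU.basicOpen r)) ⟨y, hy⟩ =
      D.move U hU r y (D.value U hU (σ U hU) ⟨_, hy'⟩)

variable (p chart) in
/-- A module on `P` given chartwise by a system. -/
structure ChartSys.IsRel (D : ChartSys 𝒮) (F : P.Modules)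
    (lam : ∀ (U : S.Opens) (hU : IsAffineOpen U),
      F ⟶ (Scheme.Modules.pushforward (RelProj.emb p chart U hU)).obj (D.T U hU)) : Prop where
  bijective : ∀ (U : S.Opens) (hU : IsAffineOpen U) (W : P.Opens), W ≤ p ⁻¹ᵁ U →
    Function.Bijective ((lam U hU).app W)
  compat : ∀ (W : P.Opens) (s : Γ(F, W)), D.Compat p chart (W := W) fun U hU => (lam U hU).app W s

variable {D : ChartSys 𝒮} {F : P.Modules}
  {lam : ∀ (U : S.Opens) (hU : IsAffineOpen U),
    F ⟶ (Scheme.Modules.pushforward (RelProj.emb p chart U hU)).obj (D.T U hU)}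

theorem emb_comap_res (hP : RelProj.IsRelProj 𝒮 p chart) (U : S.Opens) (hU : IsAffineOpen U) (r : Γ(S, U))
    (y : ProjectiveSpectrum (𝒮.deg (S.basicOpen r) (hU.basicOpen r))) :
    (RelProj.emb p chart U hU).base (ProjectiveSpectrum.comap
        (𝒮.res hU (hU.basicOpen r) (S.basicOpen_le r)) (𝒮.irrelevant_le_map U hU r) y) =
      (RelProj.emb p chart (S.basicOpen r) (hU.basicOpen r)).base y := by
  rw [← RelProj.map_res_emb hP U hU r]
  rfl

theorem value_lam_res {W W' : P.Opens} (h : W' ≤ W) (U : S.Opens) (hU : IsAffineOpen U) (s : Γ(F, W))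
    (y : ↥(RelProj.emb p chart U hU ⁻¹ᵁ W')) :
    D.value U hU ((lam U hU).app W' (F.presheaf.map (homOfLE h).op s)) y =
      D.value U hU ((lam U hU).app W s) ⟨y.1, h y.2⟩ := by
  rw [app_map_apply (lam U hU) h s]
  exact D.value_res U hU (fun z hz => h hz) _ y

theorem value_lam_basicOpen (hP : RelProj.IsRelProj 𝒮 p chart) (hF : D.IsRel p chart F lam) {W W' : P.Opens}
    (h : W' ≤ W)
    {σ : ∀ (U : S.Opens) (hU : IsAffineOpen U), Γ(D.T U hU, RelProj.emb p chart U hU ⁻¹ᵁ W)}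
    (hσ : D.Compat p chart σ) (U : S.Opens) (hU : IsAffineOpen U) (t : Γ(F, W'))
    (ht : ∀ y : ↥(RelProj.emb p chart U hU ⁻¹ᵁ W'),
      D.value U hU ((lam U hU).app W' t) y = D.value U hU (σ U hU) ⟨y.1, h y.2⟩)
    (U' : S.Opens) (hU' : IsAffineOpen U') (r : Γ(S, U)) (e : U' = S.basicOpen r)
    (y : ↥(RelProj.emb p chart U' hU' ⁻¹ᵁ W')) :
    D.value U' hU' ((lam U' hU').app W' t) y = D.value U' hU' (σ U' hU') ⟨y.1, h y.2⟩ := by
  subst e
  have hy' : (RelProj.emb p chart U hU).base (ProjectiveSpectrum.comap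
      (𝒮.res hU (hU.basicOpen r) (S.basicOpen_le r)) (𝒮.irrelevant_le_map U hU r) y.1) ∈ W' := by
    rw [emb_comap_res hP]; exact y.2
  refine (hF.compat W' t U hU r y.1 y.2 hy').trans ?_
  refine Eq.trans (congrArg (D.move U hU r y.1) (ht ⟨_, hy'⟩)) ?_
  exact (hσ U hU r y.1 (h y.2) (h hy')).symm

theorem section_ext (hF : D.IsRel p chart F lam) {W : P.Opens} {s t : Γ(F, W)}
    (h : ∀ (U : S.Opens) (hU : IsAffineOpen U), (lam U hU).app W s = (lam U hU).app W t) : s = t := by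
  refine eq_of_locally s t fun x hx => ?_
  obtain ⟨U, hU, hxU, -⟩ := exists_isAffineOpen_mem_and_subset (X := S) (x := p.base x) (U := ⊤) trivial
  refine ⟨W ⊓ p ⁻¹ᵁ U, inf_le_left, ⟨hx, hxU⟩, (hF.bijective U hU _ inf_le_right).1 ?_⟩
  rw [app_map_apply (lam U hU) inf_le_left, app_map_apply (lam U hU) inf_le_left, h U hU]

/-- Compatible chart sections come from a unique section. -/
theorem existsUnique_section (hP : RelProj.IsRelProj 𝒮 p chart) (hF : D.IsRel p chart F lam) {W : P.Opens}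
    (σ : ∀ (U : S.Opens) (hU : IsAffineOpen U), Γ(D.T U hU, RelProj.emb p chart U hU ⁻¹ᵁ W))
    (hσ : D.Compat p chart σ) :
    ∃! t : Γ(F, W), ∀ (U : S.Opens) (hU : IsAffineOpen U), (lam U hU).app W t = σ U hU := by
  classical
  let V : S.affineOpens → P.Opens := fun a => W ⊓ p ⁻¹ᵁ a.1
  have hex : ∀ a : S.affineOpens, ∃ t : Γ(F, V a), ∀ y : ↥(RelProj.emb p chart a.1 a.2 ⁻¹ᵁ V a),
      D.value a.1 a.2 ((lam a.1 a.2).app (V a) t) y = D.value a.1 a.2 (σ a.1 a.2) ⟨y.1, y.2.1⟩ := fun a => by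
    obtain ⟨t, ht⟩ := (hF.bijective a.1 a.2 (V a) inf_le_right).2
      ((D.T a.1 a.2).presheaf.map
        (homOfLE (show RelProj.emb p chart a.1 a.2 ⁻¹ᵁ V a ≤ RelProj.emb p chart a.1 a.2 ⁻¹ᵁ W from
          fun z hz => hz.1)).op (σ a.1 a.2))
    refine ⟨t, fun y => ?_⟩
    rw [ht]
    exact D.value_res a.1 a.2 _ _ y
  choose t ht using hex
  have hcompat : TopCat.Presheaf.IsCompatible F.presheaf V t := by
    intro a b
    refine eq_of_locally (W := V a ⊓ V b) _ _ fun x hx => ?_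
    obtain ⟨⟨a', ha'⟩, ⟨b', hb'⟩⟩ := a, b
    change IsAffineOpen a' at ha'
    change IsAffineOpen b' at hb'
    obtain ⟨f, g, hfg, hxf⟩ := exists_basicOpen_le_affine_inter ha' hb' (p.base x) ⟨hx.1.2, hx.2.2⟩
    let W' : P.Opens := (V ⟨a', ha'⟩ ⊓ V ⟨b', hb'⟩) ⊓ p ⁻¹ᵁ S.basicOpen f
    refine ⟨W', inf_le_left, ⟨hx, hxf⟩, ?_⟩
    have key : ∀ (c : S.affineOpens) (r : Γ(S, c.1)) (e : S.basicOpen f = S.basicOpen r) (hc : W' ≤ V c)
        (y : ↥(RelProj.emb p chart (S.basicOpen f) (ha'.basicOpen f) ⁻¹ᵁ W')),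
        D.value _ _ ((lam (S.basicOpen f) (ha'.basicOpen f)).app W' (F.presheaf.map (homOfLE hc).op (t c))) y =
          D.value _ _ (σ (S.basicOpen f) (ha'.basicOpen f)) ⟨y.1, y.2.1.1.1⟩ := by
      intro c r e hc y
      refine value_lam_basicOpen hP hF (show W' ≤ W from fun z hz => hz.1.1.1) hσ c.1 c.2 _ (fun z => ?_)
        _ (ha'.basicOpen f) r e y
      rw [value_lam_res hc]
      exact ht c _
    change F.presheaf.map _ (F.presheaf.map _ (t ⟨a', ha'⟩)) = F.presheaf.map _ (F.presheaf.map _ (t ⟨b', hb'⟩))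
    rw [← ConcreteCategory.comp_apply, ← ConcreteCategory.comp_apply, ← Functor.map_comp, ← Functor.map_comp]
    refine (hF.bijective _ (ha'.basicOpen f) W' inf_le_right).1 (D.value_ext _ _ _ _ fun y => ?_)
    exact (key ⟨a', ha'⟩ f rfl (fun z hz => hz.1.1) y).trans (key ⟨b', hb'⟩ g hfg (fun z hz => hz.1.2) y).symm
  obtain ⟨s, hs, -⟩ := TopCat.Sheaf.existsUnique_gluing' ⟨F.presheaf, F.isSheaf⟩ V W
    (fun a => homOfLE inf_le_left) (fun x hx => by
      obtain ⟨U, hU, hxU, -⟩ := exists_isAffineOpen_mem_and_subset (X := S) (x := p.base x) (U := ⊤) trivial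
      exact Opens.mem_iSup.2 ⟨⟨U, hU⟩, hx, hxU⟩) t hcompat
  have hst : ∀ (U : S.Opens) (hU : IsAffineOpen U), (lam U hU).app W s = σ U hU := fun U hU => by
    refine D.value_ext U hU _ _ fun y => ?_
    have hy : y.1 ∈ RelProj.emb p chart U hU ⁻¹ᵁ V ⟨U, hU⟩ :=
      ⟨y.2, (opensRange_emb p chart U hU).le ⟨y.1, rfl⟩⟩
    have h1 := ht ⟨U, hU⟩ ⟨y.1, hy⟩
    have h2 : t ⟨U, hU⟩ = F.presheaf.map (homOfLE (inf_le_left : V ⟨U, hU⟩ ≤ W)).op s := (hs ⟨U, hU⟩).symm
    rw [h2, value_lam_res inf_le_left] at h1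
    exact h1
  exact ⟨s, hst, fun s' hs' => section_ext hF fun U hU => (hs' U hU).trans (hst U hU).symm⟩

/-- Chartwise morphisms compatible on values come from a unique morphism. -/
theorem existsUnique_hom (hP : RelProj.IsRelProj 𝒮 p chart) (hF : D.IsRel p chart F lam) {E : P.Modules}
    (ψ : ∀ (U : S.Opens) (hU : IsAffineOpen U),
      E ⟶ (Scheme.Modules.pushforward (RelProj.emb p chart U hU)).obj (D.T U hU))
    (hψ : ∀ (W : P.Opens) (s : Γ(E, W)), D.Compat p chart (W := W) fun U hU => (ψ U hU).app W s) :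
    ∃! φ : E ⟶ F, ∀ (U : S.Opens) (hU : IsAffineOpen U), φ ≫ lam U hU = ψ U hU := by
  choose f hf hfu using fun (W : P.Opens) (s : Γ(E, W)) => existsUnique_section hP hF _ (hψ W s)
  let app : ∀ W : P.Opens, Γ(E, W) →+ Γ(F, W) := fun W =>
    AddMonoidHom.mk' (f W) fun a b => section_ext hF fun U hU => by
      rw [hf, map_add, map_add, hf, hf]
  let φ : E ⟶ F := ⟨PresheafOfModules.homMk
    { app := fun W => AddCommGrpCat.ofHom (app W.unop)
      naturality := fun W W' i => by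
        ext s
        change f W'.unop (E.presheaf.map i s) = F.presheaf.map i (f W.unop s)
        refine section_ext hF fun U hU => ?_
        rw [hf]
        refine (app_map_apply (ψ U hU) i.unop.le s).trans ?_
        refine Eq.trans ?_ (app_map_apply (lam U hU) i.unop.le (f W.unop s)).symm
        rw [hf] }
    fun W (r : Γ(P, W.unop)) (s : Γ(E, W.unop)) => by
      change f W.unop (r • s) = r • f W.unop s
      refine section_ext hF fun U hU => ?_
      rw [hf, Scheme.Modules.Hom.app_smul, Scheme.Modules.Hom.app_smul, hf]⟩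
  refine ⟨φ, fun U hU => ?_, fun φ' hφ' => ?_⟩
  · refine Scheme.Modules.hom_ext _ _ fun W => ?_
    ext s
    exact hf W s U hU
  · refine Scheme.Modules.hom_ext _ _ fun W => ?_
    ext s
    exact section_ext hF fun U hU =>
      (congr($(congrArg (fun k => Scheme.Modules.Hom.app k W) (hφ' U hU)) s)).trans (hf W s U hU).symm

/-- A morphism commuting with the identifications of two chartwise given modules is an isomorphism. -/
theorem isIso_of_commutes {G : P.Modules}
    {lam' : ∀ (U : S.Opens) (hU : IsAffineOpen U),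
      G ⟶ (Scheme.Modules.pushforward (RelProj.emb p chart U hU)).obj (D.T U hU)}
    (hF : D.IsRel p chart F lam) (hG : D.IsRel p chart G lam') (hP : RelProj.IsRelProj 𝒮 p chart) (φ : F ⟶ G)
    (h : ∀ (U : S.Opens) (hU : IsAffineOpen U), φ ≫ lam' U hU = lam U hU) : IsIso φ := by
  obtain ⟨ψ, hψ, -⟩ := existsUnique_hom hP hF lam' hG.compat
  obtain ⟨_, -, huF⟩ := existsUnique_hom hP hF lam hF.compat
  obtain ⟨_, -, huG⟩ := existsUnique_hom hP hG lam' hG.compat
  refine ⟨ψ, ?_, ?_⟩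
  · exact (huF _ fun U hU => by rw [Category.assoc, hψ, h]).trans (huF _ fun U hU => Category.id_comp _).symm
  · exact (huG _ fun U hU => by rw [Category.assoc, h, hψ]).trans (huG _ fun U hU => Category.id_comp _).symm

section pairing

variable {D₁ D₂ : ChartSys 𝒮} {F₁ F₂ : P.Modules}
  {lam₁ : ∀ (U : S.Opens) (hU : IsAffineOpen U),
    F₁ ⟶ (Scheme.Modules.pushforward (RelProj.emb p chart U hU)).obj (D₁.T U hU)}
  {lam₂ : ∀ (U : S.Opens) (hU : IsAffineOpen U),
    F₂ ⟶ (Scheme.Modules.pushforward (RelProj.emb p chart U hU)).obj (D₂.T U hU)}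

theorem exists_pairing (hP : RelProj.IsRelProj 𝒮 p chart) (hF : D.IsRel p chart F lam)
    (β : ∀ (U : S.Opens) (hU : IsAffineOpen U), Pairing (D₁.T U hU) (D₂.T U hU) (D.T U hU))
    (hβ : ∀ (W : P.Opens) (s : Γ(F₁, W)) (t : Γ(F₂, W)), D.Compat p chart (W := W) fun U hU =>
      (β U hU).toFun _ ((lam₁ U hU).app W s) ((lam₂ U hU).app W t)) :
    ∃ B : Pairing F₁ F₂ F, ∀ (U : S.Opens) (hU : IsAffineOpen U) (W : P.Opens) (s : Γ(F₁, W)) (t : Γ(F₂, W)),
      (lam U hU).app W (B.toFun W s t) = (β U hU).toFun _ ((lam₁ U hU).app W s) ((lam₂ U hU).app W t) := by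
  choose f hf hfu using fun (W : P.Opens) (s : Γ(F₁, W)) (t : Γ(F₂, W)) => existsUnique_section hP hF _ (hβ W s t)
  refine ⟨⟨f, ?_, ?_, ?_, ?_, ?_⟩, fun U hU W s t => hf W s t U hU⟩
  · intro W s s' t
    refine section_ext hF fun U hU => ?_
    rw [map_add, hf, hf, hf, map_add]
    exact (β U hU).add_left _ _ _ _
  · intro W r s t
    refine section_ext hF fun U hU => ?_
    rw [Scheme.Modules.Hom.app_smul, hf, hf, Scheme.Modules.Hom.app_smul]
    exact (β U hU).smul_left _ _ _ _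
  · intro W s t t'
    refine section_ext hF fun U hU => ?_
    rw [map_add, hf, hf, hf, map_add]
    exact (β U hU).add_right _ _ _ _
  · intro W r s t
    refine section_ext hF fun U hU => ?_
    rw [Scheme.Modules.Hom.app_smul, hf, hf, Scheme.Modules.Hom.app_smul]
    exact (β U hU).smul_right _ _ _ _
  · intro W W' h s t
    refine section_ext hF fun U hU => ?_
    rw [app_map_apply (lam U hU) h, hf, hf, app_map_apply (lam₁ U hU) h, app_map_apply (lam₂ U hU) h]
    exact (β U hU).res _ _ (fun z hz => h hz) _ _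

/-- The tensor product criterion for modules given chartwise. -/
theorem nonempty_tensor_iso_of_charts (hP : RelProj.IsRelProj 𝒮 p chart) (h₁ : D₁.IsRel p chart F₁ lam₁)
    (h₂ : D₂.IsRel p chart F₂ lam₂) (hF : D.IsRel p chart F lam)
    (β : ∀ (U : S.Opens) (hU : IsAffineOpen U), Pairing (D₁.T U hU) (D₂.T U hU) (D.T U hU))
    (hβ : ∀ (W : P.Opens) (s : Γ(F₁, W)) (t : Γ(F₂, W)), D.Compat p chart (W := W) fun U hU =>
      (β U hU).toFun _ ((lam₁ U hU).app W s) ((lam₂ U hU).app W t))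
    (hgen : ∀ (U : S.Opens) (hU : IsAffineOpen U) (y : Proj (𝒮.deg U hU)),
      ∃ O : (Proj (𝒮.deg U hU)).Opens, y ∈ O ∧ ∃ g : Γ(D₂.T U hU, O),
        ∀ (V : (Proj (𝒮.deg U hU)).Opens) (hV : V ≤ O),
          (Function.Bijective fun r : Γ(Proj (𝒮.deg U hU), V) => r • (D₂.T U hU).presheaf.map (homOfLE hV).op g) ∧
          Function.Bijective fun m : Γ(D₁.T U hU, V) =>
            (β U hU).toFun V m ((D₂.T U hU).presheaf.map (homOfLE hV).op g)) :
    Nonempty (CohB1.tensorMod F₁ F₂ ≅ F) := by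
  obtain ⟨B, hB⟩ := exists_pairing hP hF β hβ
  refine nonempty_tensorMod_iso B fun x => ?_
  obtain ⟨⟨U, hU⟩, y, hy⟩ := exists_mem_range_emb p chart x
  obtain ⟨O, hyO, g, hg⟩ := hgen U hU y
  let j := RelProj.emb p chart U hU
  have hle : j ''ᵁ O ≤ p ⁻¹ᵁ U := (Scheme.Hom.image_le_opensRange _ _).trans (opensRange_emb p chart U hU).le
  have hpre : j ⁻¹ᵁ (j ''ᵁ O) = O := Scheme.Hom.preimage_image_eq _ _
  obtain ⟨g₀, hg₀⟩ := (h₂.bijective U hU _ hle).2 ((D₂.T U hU).presheaf.map (homOfLE hpre.le).op g)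
  refine ⟨j ''ᵁ O, ⟨y, hyO, hy⟩, g₀, fun V hV => ?_⟩
  have hVO : j ⁻¹ᵁ V ≤ O := fun z hz => hpre.le (hV hz)
  obtain ⟨hN, hM⟩ := hg (j ⁻¹ᵁ V) hVO
  have hgV : (lam₂ U hU).app V (F₂.presheaf.map (homOfLE hV).op g₀) =
      (D₂.T U hU).presheaf.map (homOfLE hVO).op g := by
    rw [app_map_apply (lam₂ U hU) hV, hg₀]
    refine (ConcreteCategory.comp_apply ((D₂.T U hU).presheaf.map (homOfLE hpre.le).op)
      ((D₂.T U hU).presheaf.map ((Opens.map j.base).op.map (homOfLE hV).op)) g).symm.trans ?_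
    rw [← Functor.map_comp]
    rfl
  have hVU : V ≤ p ⁻¹ᵁ U := hV.trans hle
  refine ⟨?_, ?_⟩
  · have := Scheme.Hom.isIso_app j V (hVU.trans (opensRange_emb p chart U hU).ge)
    refine (Function.Bijective.of_comp_iff' (h₂.bijective U hU V hVU) _).1 ?_
    refine Eq.mpr (congrArg Function.Bijective (funext fun r => ?_))
      (hN.comp (ConcreteCategory.bijective_of_isIso (j.app V)))
    change (lam₂ U hU).app V (r • F₂.presheaf.map (homOfLE hV).op g₀) = _
    rw [Scheme.Modules.Hom.app_smul, hgV]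
    rfl
  · refine (Function.Bijective.of_comp_iff' (hF.bijective U hU V hVU) _).1 ?_
    refine Eq.mpr (congrArg Function.Bijective (funext fun m => ?_)) (hM.comp (h₁.bijective U hU V hVU))
    change (lam U hU).app V (B.toFun V m _) = _
    rw [hB, hgV]
    rfl

end pairing

end Groth.Agent.H11Tilde
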