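import Groth.Agent.H11Tilde.TwistLoc
import Groth.Agent.H11Tilde.OpenImmTranspose

/-!
# Twisting sheaves along a graded homomorphism bijective in high degrees
-/

set_option autoImplicit false
set_option linter.style.haveILetI false

noncomputable section

universe u

open CategoryTheory CategoryTheory.Limits AlgebraicGeometry Opposite TopologicalSpace
open scoped HomogeneousIdeal

namespace Groth.Agent.H11Tilde

namespace BijOn

variable {A σA B σB : Type u} [CommRing A] [SetLike σA A] [AddSubgroupClass σA A] {𝒜 : ℕ → σA} [GradedRing 𝒜]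
  [CommRing B] [SetLike σB B] [AddSubgroupClass σB B] {ℬ : ℕ → σB} [GradedRing ℬ]
  (ψ : 𝒜 →+*ᵍ ℬ) (hψ : ℬ₊ ≤ (𝒜₊).map ψ) {d₀ : ℕ} (hbij : ∀ d : ℕ, d₀ ≤ d → Set.BijOn ψ (𝒜 d) (ℬ d)) (n : ℤ)

theorem exists_high (y : ProjectiveSpectrum ℬ) : ∃ (m : ℕ) (e : B), d₀ ≤ m ∧ e ∈ ℬ m ∧ e ∉ y.asHomogeneousIdeal := by
  classical
  obtain ⟨f, hf, hfy⟩ := SetLike.not_le_iff_exists.1 y.not_irrelevant_le
  obtain ⟨i, hi, hiy⟩ : ∃ i, 0 < i ∧ (DirectSum.decompose ℬ f i : B) ∉ y.asHomogeneousIdeal := by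
    by_contra h
    simp only [not_exists, not_and, not_not] at h
    refine hfy ?_
    rw [← DirectSum.sum_support_decompose ℬ f]
    refine sum_mem fun i _ => ?_
    rcases Nat.eq_zero_or_pos i with rfl | hi
    · rw [show (DirectSum.decompose ℬ f 0 : B) = 0 from hf]
      exact zero_mem _
    · exact h i hi
  refine ⟨i * (d₀ + 1), (DirectSum.decompose ℬ f i : B) ^ (d₀ + 1), ?_, ?_, ?_⟩
  · calc d₀ ≤ 1 * (d₀ + 1) := by omega
      _ ≤ i * (d₀ + 1) := Nat.mul_le_mul_right _ hi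
  · rw [mul_comm]
    exact SetLike.pow_mem_graded _ (DirectSum.decompose ℬ f i).2
  · exact fun h => hiy (y.isPrime.mem_of_pow_mem _ h)

include hbij in
/-- A homogeneous fraction with zero image is zero. -/
theorem eq_zero_of_map {y : ProjectiveSpectrum ℬ} {i j : ℕ} {a s : A} (ha : a ∈ 𝒜 i) (hs : s ∈ 𝒜 j)
    (hsy : s ∉ (ProjectiveSpectrum.comap ψ hψ y).asHomogeneousIdeal)
    (h : GrTwist.locMap ψ hψ y (Localization.mk a ⟨s, hsy⟩) = 0) :
    (Localization.mk a ⟨s, hsy⟩ : GrTwist.Loc 𝒜 (ProjectiveSpectrum.comap ψ hψ y)) = 0 := by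
  classical
  rw [GrTwist.locMap_mk, Localization.mk_eq_mk', IsLocalization.mk'_eq_zero_iff] at h
  obtain ⟨⟨t, ht⟩, hta⟩ := h
  simp only at hta
  obtain ⟨l, hl⟩ : ∃ l, (DirectSum.decompose ℬ t l : B) ∉ y.asHomogeneousIdeal := by
    by_contra h
    simp only [not_exists, not_not] at h
    refine ht ?_
    rw [← DirectSum.sum_support_decompose ℬ t]
    exact sum_mem fun l _ => h l
  have hla : (DirectSum.decompose ℬ t l : B) * ψ a = 0 := by
    have := DirectSum.coe_decompose_mul_add_of_right_mem ℬ (a := t) (i := l) (b := ψ a) (ψ.map_mem ha)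
    rw [← this, hta]
    simp
  obtain ⟨m, e, hm, he, hey⟩ := exists_high (d₀ := d₀) y
  obtain ⟨t', ht', hψt⟩ := (hbij (l + m) (by omega)).surjOn (SetLike.mul_mem_graded (DirectSum.decompose ℬ t l).2 he)
  have hzero : t' * a = 0 := by
    refine (hbij (l + m + i) (by omega)).injOn (SetLike.mul_mem_graded ht' ha) (zero_mem _) ?_
    rw [map_mul, hψt, map_zero, mul_right_comm, hla, zero_mul]
  rw [Localization.mk_eq_mk', IsLocalization.mk'_eq_zero_iff]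
  refine ⟨⟨t', ?_⟩, hzero⟩
  show ψ t' ∉ y.asHomogeneousIdeal
  rw [hψt]
  exact fun h => (y.isPrime.mem_or_mem h).elim hl hey

include hbij in
/-- Sections of `O(n)` correspond. -/
theorem comapApp_bijective (U : Opens (ProjectiveSpectrum.top 𝒜)) :
    Function.Bijective (GrTwist.comapApp ψ hψ n U (Proj.map ψ hψ ⁻¹ᵁ U) Set.Subset.rfl) := by
  classical
  haveI hiso := Groth.Agent.H11Proj.isIso_map_of_bijOn ψ hψ hbij
  have hsurj : Function.Surjective (ProjectiveSpectrum.comap ψ hψ) :=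
    (Proj.map ψ hψ).homeomorph.surjective
  have inj0 : ∀ (U' : Opens (ProjectiveSpectrum.top 𝒜)) (s : GrTwist.sectN (𝒜 := 𝒜) n (op U')),
      (∀ (y : ProjectiveSpectrum ℬ) (hy : ProjectiveSpectrum.comap ψ hψ y ∈ U'),
        GrTwist.locMap ψ hψ y (s.1 ⟨_, hy⟩).1 = 0) → s = 0 := by
    intro U' s h
    refine Subtype.ext (funext fun x => Subtype.ext ?_)
    obtain ⟨x, hx⟩ := x
    obtain ⟨y, rfl⟩ := hsurj x
    obtain ⟨W, hyW, iWU, i, j, ⟨a, ha⟩, ⟨t, ht⟩, htW, -, hfrac⟩ := s.2 ⟨_, hx⟩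
    have h0 := h y hx
    have e : (s.1 ⟨_, hx⟩).1 = Localization.mk a ⟨t, htW ⟨_, hyW⟩⟩ := hfrac ⟨_, hyW⟩
    rw [e] at h0
    exact e.trans (eq_zero_of_map ψ hψ hbij ha ht _ h0)
  have inj : ∀ (U' : Opens (ProjectiveSpectrum.top 𝒜)) (s s' : GrTwist.sectN (𝒜 := 𝒜) n (op U')),
      (∀ (y : ProjectiveSpectrum ℬ) (hy : ProjectiveSpectrum.comap ψ hψ y ∈ U'),
        GrTwist.locMap ψ hψ y (s.1 ⟨_, hy⟩).1 = GrTwist.locMap ψ hψ y (s'.1 ⟨_, hy⟩).1) → s = s' := by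
    intro U' s s' h
    refine sub_eq_zero.1 (inj0 U' (s - s') fun y hy => ?_)
    show GrTwist.locMap ψ hψ y ((s.1 ⟨_, hy⟩).1 - (s'.1 ⟨_, hy⟩).1) = 0
    rw [map_sub, h y hy, sub_self]
  refine ⟨fun s s' h => inj U s s' fun y hy => ?_, fun s' => ?_⟩
  · exact congrArg (fun (z : GrTwist.sectN (𝒜 := ℬ) n (op (Proj.map ψ hψ ⁻¹ᵁ U))) => (z.1 ⟨y, hy⟩).1) h
  · have hloc' : ∀ x : U, ∃ (N : Opens (ProjectiveSpectrum.top 𝒜)) (_ : x.1 ∈ N) (_ : N ≤ U)
        (s : GrTwist.sectN (𝒜 := 𝒜) n (op N)), ∀ (y : ProjectiveSpectrum ℬ)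
          (hy : ProjectiveSpectrum.comap ψ hψ y ∈ N) (hy' : y ∈ Proj.map ψ hψ ⁻¹ᵁ U),
          GrTwist.locMap ψ hψ y (s.1 ⟨_, hy⟩).1 = (s'.1 ⟨y, hy'⟩).1 := by
      rintro ⟨x, hx⟩
      obtain ⟨y, rfl⟩ := hsurj x
      obtain ⟨W, hyW, iWV, i, j, ⟨b, hb⟩, ⟨t, ht⟩, htW, hij, hfrac⟩ := s'.2 ⟨y, hx⟩
      change (i : ℤ) = j + n ∨ b = 0 at hij
      obtain ⟨m, e, hm, he, hey⟩ := exists_high (d₀ := d₀) y
      obtain ⟨a, ha, hψa⟩ := (hbij (i + m) (by omega)).surjOn (SetLike.mul_mem_graded hb he)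
      obtain ⟨s₀, hs₀, hψs⟩ := (hbij (j + m) (by omega)).surjOn (SetLike.mul_mem_graded ht he)
      let W' : Opens (ProjectiveSpectrum.top ℬ) := W ⊓ ProjectiveSpectrum.basicOpen ℬ e
      let N : Opens (ProjectiveSpectrum.top 𝒜) := (Proj.map ψ hψ) ''ᵁ W'
      have hN : ∀ z ∈ N, s₀ ∉ z.asHomogeneousIdeal := by
        rintro _ ⟨w, hw, rfl⟩ h
        change ψ s₀ ∈ w.asHomogeneousIdeal at h
        rw [hψs] at h
        exact (w.isPrime.mem_or_mem h).elim (htW ⟨w, hw.1⟩) hw.2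
      have hNU : N ≤ U := by
        rintro _ ⟨w, hw, rfl⟩
        exact iWV.le hw.1
      have hij' : (((i + m : ℕ) : ℤ) = (j + m : ℕ) + n) ∨ a = 0 := by
        rcases hij with h | h
        · exact Or.inl (by push_cast; omega)
        · refine Or.inr ((hbij (i + m) (by omega)).injOn ha (zero_mem _) ?_)
          rw [hψa, h, zero_mul, map_zero]
      refine ⟨N, ⟨y, ⟨hyW, hey⟩, rfl⟩, hNU, ⟨fun z => ⟨Localization.mk a ⟨s₀, hN z.1 z.2⟩, ?_⟩, fun z =>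
        ⟨N, z.2, 𝟙 _, i + m, j + m, ⟨a, ha⟩, ⟨s₀, hs₀⟩, fun w => hN w.1 w.2, hij', fun w => rfl⟩⟩, ?_⟩
      · rcases hij' with hij' | hij'
        · exact Submodule.subset_span ⟨i + m, j + m, ⟨a, ha⟩, ⟨s₀, hs₀⟩, hN z.1 z.2, hij', rfl⟩
        · rw [hij', Localization.mk_zero]
          exact zero_mem _
      · intro w hw hw'
        obtain ⟨w', hwW, hww⟩ := hw
        obtain rfl : w' = w := (Proj.map ψ hψ).isOpenEmbedding.injective hww
        refine (GrTwist.locMap_mk ψ hψ w' a _).trans ?_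
        refine Eq.trans ?_ (hfrac ⟨w', hwW.1⟩).symm
        rw [Localization.mk_eq_mk_iff, Localization.r_iff_exists]
        refine ⟨1, ?_⟩
        simp only [OneMemClass.coe_one, one_mul, hψa, hψs]
        ring
    choose N hxN hNU s hs using hloc'
    obtain ⟨s₁, hs₁, -⟩ := TopCat.Sheaf.existsUnique_gluing'
      ⟨(GrTwist.twist 𝒜 n).presheaf, (GrTwist.twist 𝒜 n).isSheaf⟩ N U (fun x => homOfLE (hNU x))
      (fun x hx => Opens.mem_iSup.2 ⟨⟨x, hx⟩, hxN ⟨x, hx⟩⟩) s (fun x x' => by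
        refine inj (N x ⊓ N x') _ _ fun y hy => ?_
        exact (hs x y hy.1 (hNU x hy.1)).trans (hs x' y hy.2 (hNU x hy.1)).symm)
    refine ⟨s₁, Subtype.ext (funext fun y => Subtype.ext ?_)⟩
    have hy : ProjectiveSpectrum.comap ψ hψ y.1 ∈ U := y.2
    refine Eq.trans ?_ (hs ⟨_, hy⟩ y.1 (hxN ⟨_, hy⟩) y.2)
    rw [← hs₁ ⟨_, hy⟩]
    rfl

include hbij in
theorem isIso_transpose : IsIso (((Scheme.Modules.pullbackPushforwardAdjunction (Proj.map ψ hψ)).homEquiv _ _).symm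
      (GrTwist.comap ψ hψ n)) := by
  haveI := Groth.Agent.H11Proj.isIso_map_of_bijOn ψ hψ hbij
  exact isIso_transpose_of_bijective (Proj.map ψ hψ) (GrTwist.comap ψ hψ n) fun W _ =>
    comapApp_bijective ψ hψ hbij n W

end BijOn

end Groth.Agent.H11Tilde
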